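import Cfsg.Agent.Lib.Recog.Walter.Defs
import Cfsg.Agent.Lib.LocalEven.GoldS.Ctx
import Cfsg.Prelude.Def_Exceptional

/-!
Owner: helper6. The list of simple groups with abelian Sylow 2-subgroups in the form used by the consumers
of Walter's theorem: the groups of Ree type are given by the centralizer of an involution.
-/

set_option autoImplicit false

namespace CfsgLib.Walter

open CfsgLib.AbelianSolvCent (AbSylow)

universe u

/-- The simple groups with abelian Sylow 2-subgroups. -/
def WalterList : Prop :=
  ∀ (G : Type u) [Group G] [Finite G] [IsSimpleGroup G], ¬ IsMulCommutative G → AbSylow G →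
    IsTwoType G ∨ IsOddType G ∨ Cfsg.IsJ1 G ∨
      ∃ (F : Type) (_ : Field F) (_ : Fintype F), CharP F 3 ∧ Nonempty (LocalEven.GoldS.Ctx G F)

end CfsgLib.Walter
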