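import Cfsg.Agent.Lib.Bender.Dichotomy.Apps
import Cfsg.Agent.Lib.AbelianSolvCent.Main

/-!
Owner: helper29. Walter, the constrained case: abelian Sylow 2-subgroups of rank at least three and
involution centralisers with trivial 2-layer.

* `solvCent_of_pLayer`: without odd core, the involution centralisers are then solvable.
* `constrained`: a simple group of this kind is `PSL(2, 2 ^ n)`.
-/

set_option autoImplicit false
set_option linter.style.haveILetI false
set_option linter.unusedSectionVars false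

namespace CfsgLib.Walter

open Subgroup
open CfsgLib.AbelianSolvCent (AbSylow SolvCent)

universe u

variable {G : Type u} [Group G] [Finite G]

/-- Every involution lies in an elementary subgroup of order eight. -/
theorem bigPt_of_abelian (hA : AbSylow G) (hrk : ¬ Cfsg.PRankLE 2 2 G) {x : G} (hx : orderOf x = 2) :
    CfsgLib.Signalizer.Gen.BigPt 2 x := by
  haveI : Fact (Nat.Prime 2) := ⟨Nat.prime_two⟩
  obtain ⟨S, E, hxS, ⟨hE, hE8⟩, hES⟩ := CfsgLib.Bender.Dichotomy.exists_sylow_eight hrk hx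
  have hcomm : ∀ e ∈ E, e * x = x * e := fun e he =>
    CfsgLib.AbelianSolvCent.sylow_comm S (hA S) (hES he) hxS
  have hel := CfsgLib.Bender.Dichotomy.elem_sup_zpowers hE
    (CfsgLib.Bender.Dichotomy.sq_of_orderOf_two hx) hcomm
  exact CfsgLib.Signalizer.Gen.bigPt_of_mem hel (hE8.trans (card_le_of_le le_sup_left))
    (mem_sup_right (mem_zpowers x)) (CfsgLib.Bender.Dichotomy.ne_one_of_orderOf_two hx)

/-- An involution centraliser without core that is 2-constrained has a normal Sylow 2-subgroup. -/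
theorem solvable_of_constrained {C : Type u} [Group C] [Finite C] (hA : AbSylow C)
    (hO : Cfsg.pPrimeCore 2 C = ⊥) (hlay : Cfsg.pLayer 2 C = ⊥) : Group.IsSolvable C := by
  haveI : Fact (Nat.Prime 2) := ⟨Nat.prime_two⟩
  have hcon := (CfsgLib.PLocal.isPConstrained_iff_of_core_bot hO).mp
    (CfsgLib.Components.isPConstrained_iff_pLayer_eq_bot.mpr hlay)
  obtain ⟨P⟩ := (inferInstance : Nonempty (Sylow 2 C))
  have hP : (P : Subgroup C) = Cfsg.pCore 2 C := by
    refine le_antisymm (fun s hs => hcon (mem_centralizer_iff.mpr fun r hr => ?_)) (CfsgLib.Core.pCore_le_sylow P)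
    exact congrArg Subtype.val ((hA P).is_comm.comm ⟨r, CfsgLib.Core.pCore_le_sylow P hr⟩ ⟨s, hs⟩)
  haveI : (P : Subgroup C).Normal := by rw [hP]; infer_instance
  haveI : Group.IsSolvable (P : Subgroup C) := Group.isSolvable_of_comm (hA P).is_comm.comm
  haveI : Group.IsSolvable (C ⧸ (P : Subgroup C)) := Cfsg.Agent.S0205.result (by
    rw [← Subgroup.index_eq_card]
    exact Nat.coprime_two_left.mp ((Nat.Prime.coprime_iff_not_dvd Nat.prime_two).mpr P.not_dvd_index))
  exact CfsgLib.OddGated.isSolvable_of_normal (P : Subgroup C) inferInstance inferInstance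

/-- Without odd core, trivial 2-layers give solvable involution centralisers. -/
theorem solvCent_of_pLayer (hA : AbSylow G) (hO : Cfsg.oddCore G = ⊥) (hrk : ¬ Cfsg.PRankLE 2 2 G)
    (hlay : ∀ t : G, orderOf t = 2 → Cfsg.pLayer 2 ↥(centralizer ({t} : Set G)) = ⊥) : SolvCent G := by
  intro t ht
  have h : CfsgLib.Bender.Dichotomy.Hyp G := ⟨hO, hlay, fun x hx => bigPt_of_abelian hA hrk hx⟩
  have h0 : Cfsg.pPrimeCore 2 ↥(centralizer ({t} : Set G)) = ⊥ :=
    (Subgroup.map_eq_bot_iff_of_injective _ (Subgroup.subtype_injective _)).mp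
      (h.core2_eq_bot CfsgLib.Bender.benderGen ht)
  exact solvable_of_constrained (CfsgLib.AbelianSolvCent.abSylow_subgroup hA _) h0 (hlay t ht)

/-- `PSL(2, q)` for `q ≡ 3, 5 (mod 8)` has order prime to eight. -/
theorem not_eight_dvd_card_PSL {F : Type*} [Field F] [Fintype F]
    (hq : Fintype.card F % 8 = 3 ∨ Fintype.card F % 8 = 5) :
    ¬ 8 ∣ Nat.card (Matrix.ProjectiveSpecialLinearGroup (Fin 2) F) := by
  rintro ⟨k, hk⟩
  have hc := CfsgLib.Classical.Two.card_PSL_two (F := F)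
  rw [hk] at hc
  obtain ⟨m, hm⟩ : ∃ m, Fintype.card F = 8 * m + 3 ∨ Fintype.card F = 8 * m + 5 :=
    ⟨Fintype.card F / 8, by omega⟩
  have hg : Nat.gcd 2 (Fintype.card F - 1) = 2 := Nat.gcd_eq_left (by omega)
  rw [hg] at hc
  rcases hm with hm | hm <;> rw [hm] at hc
  · rw [show (8 * m + 3) ^ 2 - 1 = 8 * (8 * m * m + 6 * m + 1) by
      rw [show (8 * m + 3) ^ 2 = 8 * (8 * m * m + 6 * m + 1) + 1 by ring, Nat.add_sub_cancel]] at hc
    have h2 : (8 * m + 3) * (8 * (8 * m * m + 6 * m + 1)) =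
        16 * ((8 * m + 3) * (4 * m * m + 3 * m) + 4 * m + 1) + 8 := by ring
    omega
  · rw [show (8 * m + 5) ^ 2 - 1 = 8 * (8 * m * m + 10 * m + 3) by
      rw [show (8 * m + 5) ^ 2 = 8 * (8 * m * m + 10 * m + 3) + 1 by ring, Nat.add_sub_cancel]] at hc
    have h2 : (8 * m + 5) * (8 * (8 * m * m + 10 * m + 3)) =
        16 * ((8 * m + 5) * (4 * m * m + 5 * m + 1) + 4 * m + 2) + 8 := by ring
    omega

/-- **The constrained case.** A simple group with abelian Sylow 2-subgroups of rank at least three whose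
involution centralisers have trivial 2-layer is `PSL(2, 2 ^ n)`. -/
theorem constrained [IsSimpleGroup G] (hG : ¬ IsMulCommutative G) (hA : AbSylow G)
    (hrk : ¬ Cfsg.PRankLE 2 2 G)
    (hlay : ∀ t : G, orderOf t = 2 → Cfsg.pLayer 2 ↥(centralizer ({t} : Set G)) = ⊥) :
    ∃ n : ℕ, 2 ≤ n ∧ ∃ (F : Type) (_ : Field F) (_ : Fintype F), Fintype.card F = 2 ^ n ∧
      Nonempty (G ≃* Matrix.ProjectiveSpecialLinearGroup (Fin 2) F) := by
  have hns : ¬ Group.IsSolvable G := fun h => hG ⟨⟨fun a b => by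
    haveI := h
    exact IsSimpleGroup.comm_iff_isSolvable.mpr h a b⟩⟩
  have hO : Cfsg.oddCore G = ⊥ :=
    ((inferInstance : (Cfsg.oddCore G).Normal).eq_bot_or_eq_top).resolve_right fun h => hns (by
      haveI : Group.IsSolvable (⊤ : Subgroup G) :=
        h ▸ Cfsg.Agent.S0205.result (CfsgLib.GW.DGroup.odd_oddCore G)
      exact Group.isSolvable_of_surjective (f := Subgroup.topEquiv.toMonoidHom) (MulEquiv.surjective _))
  obtain ⟨F, iF, iFt, hq, ⟨e⟩⟩ :=
    CfsgLib.AbelianSolvCent.simple_case hns hA (solvCent_of_pLayer hA hO hrk hlay)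
  rcases hq with ⟨hq, -⟩ | ⟨n, hn, hcard⟩
  · refine absurd ?_ (not_eight_dvd_card_PSL hq)
    rw [← Nat.card_congr e.toEquiv]
    unfold Cfsg.PRankLE at hrk
    push Not at hrk
    obtain ⟨B, hBc, hBe, hB⟩ := hrk
    haveI : Fact (Nat.Prime 2) := ⟨Nat.prime_two⟩
    obtain ⟨k, hk⟩ := (CfsgLib.Signalizer.elementary_isPGroup (p := 2) (A := B) ⟨hBc, hBe⟩).exists_card_eq
    rw [hk] at hB
    have hk3 : 3 ≤ k := (Nat.pow_lt_pow_iff_right (le_refl 2)).mp hB
    exact ((pow_dvd_pow 2 hk3).trans hk.symm.dvd).trans (Subgroup.card_subgroup_dvd_card B)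
  · exact ⟨n, hn, F, iF, iFt, hcard, ⟨e⟩⟩

end CfsgLib.Walter
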