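import Cfsg.Agent.Lib.AbelianSolvCent.Reduce
import Cfsg.Prelude.Def_Local
import Mathlib.LinearAlgebra.Matrix.ProjectiveSpecialLinearGroup

/-!
Owner: helper15. Interfaces of the Walter induction (notes/walter_blueprint_helper15.md).

* `IsTwoType`, `IsOddType`, `IsJRType`: the three conclusions.
* `Smaller G`: the induction hypothesis for simple groups smaller than `G`.
-/

set_option autoImplicit false

namespace CfsgLib.Walter

open Subgroup
open CfsgLib.AbelianSolvCent (AbSylow)

universe u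

/-- `PSL(2, 2 ^ n)` with `n ≥ 2`. -/
def IsTwoType (K : Type u) [Group K] : Prop :=
  ∃ n : ℕ, 2 ≤ n ∧ ∃ (F : Type) (_ : Field F) (_ : Fintype F), Fintype.card F = 2 ^ n ∧
    Nonempty (K ≃* Matrix.ProjectiveSpecialLinearGroup (Fin 2) F)

/-- `PSL(2, q)` with `q ≡ 3, 5 (mod 8)` and `q ≥ 5`. -/
def IsOddType (K : Type u) [Group K] : Prop :=
  ∃ (F : Type) (_ : Field F) (_ : Fintype F), 5 ≤ Fintype.card F ∧
    (Fintype.card F % 8 = 3 ∨ Fintype.card F % 8 = 5) ∧
    Nonempty (K ≃* Matrix.ProjectiveSpecialLinearGroup (Fin 2) F)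

/-- The centralizer of `t` is `⟨t⟩ × E` with a self-centralizing normal `PSL(2, q)` in `E`. -/
def JRCentralizer {K : Type u} [Group K] (t : K) : Prop :=
  ∃ E : Subgroup K, Cfsg.IsInternalDirectProduct (zpowers t) E (centralizer ({t} : Set K)) ∧
    ∃ (F : Type) (_ : Field F) (_ : Fintype F), 5 ≤ Fintype.card F ∧
      (Fintype.card F % 8 = 3 ∨ Fintype.card F % 8 = 5) ∧
      ∃ N : Subgroup ↥E, N.Normal ∧ Nonempty (↥N ≃* Matrix.ProjectiveSpecialLinearGroup (Fin 2) F) ∧
        centralizer (N : Set ↥E) = ⊥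

/-- Janko–Ree type: simple, abelian Sylow 2-subgroups of rank at least three, every involution centralizer
`⟨t⟩ × E` with `PSL(2, q) ≤ E ≤ Aut PSL(2, q)`. -/
def IsJRType (K : Type u) [Group K] : Prop :=
  IsSimpleGroup K ∧ AbSylow K ∧ ¬ Cfsg.PRankLE 2 2 K ∧ ∀ t : K, orderOf t = 2 → JRCentralizer t

/-- The conclusion of the structure theorem. -/
def IsWalterType (K : Type u) [Group K] : Prop :=
  IsTwoType K ∨ IsOddType K ∨ IsJRType K

/-- The induction hypothesis. -/
def Smaller (G : Type u) [Group G] : Prop :=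
  ∀ (K : Type u) [Group K] [Finite K] [IsSimpleGroup K], ¬ IsMulCommutative K → AbSylow K →
    Nat.card K < Nat.card G → IsWalterType K

/-- The statement proved by the induction. -/
def StructureTheorem : Prop :=
  ∀ (G : Type u) [Group G] [Finite G] [IsSimpleGroup G], ¬ IsMulCommutative G → AbSylow G → IsWalterType G

end CfsgLib.Walter
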