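import Cfsg.Agent.Lib.AbelianSolvCent.Embedded
import Cfsg.Agent.Lib.Bender.Gen.Wiring
import Cfsg.Agent.Lib.Bender.Dichotomy.Apps
import Cfsg.Agent.Lib.Recog.Walter.Defs

/-!
Owner: helper15. A proper subgroup containing `N(S)` and the centralizers of the involutions of `S` is
strongly embedded, so all involution centralizers are solvable.
-/

set_option autoImplicit false
set_option linter.style.haveILetI false
set_option linter.unusedSectionVars false

namespace CfsgLib.Walter

open Subgroup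
open CfsgLib.AbelianSolvCent (AbSylow SolvCent omegaS orderOf_omega sylow_comm)
open CfsgLib.Signalizer (involution_ne_one involution_sq)

universe u

variable {G : Type u} [Group G] [Finite G] (S : Sylow 2 G) (hS : IsMulCommutative ↥(S : Subgroup G))

theorem isComm_omega : IsMulCommutative ↥(omegaS S hS) :=
  ⟨⟨fun x y => Subtype.ext (sylow_comm S hS x.2.1 y.2.1)⟩⟩

/-- `N(S)` normalises `Ω₁(S)`. -/
theorem conj_mem_omega {n x : G} (hn : n ∈ normalizer ((S : Subgroup G) : Set G)) (hx : x ∈ omegaS S hS) :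
    n * x * n⁻¹ ∈ omegaS S hS :=
  ⟨(mem_normalizer_iff.1 hn x).1 hx.1, by
    rw [show n * x * n⁻¹ * (n * x * n⁻¹) = n * (x * x) * n⁻¹ by group, hx.2]; group⟩

/-- Involutions are conjugate into `Ω₁(S)` inside any subgroup containing `S`. -/
theorem exists_conj_omega {M : Subgroup G} (hSM : (S : Subgroup G) ≤ M) {x : G} (hxM : x ∈ M)
    (hx : orderOf x = 2) : ∃ m ∈ M, m * x * m⁻¹ ∈ omegaS S hS := by
  haveI : Fact (Nat.Prime 2) := ⟨Nat.prime_two⟩
  have hp : IsPGroup 2 (zpowers (⟨x, hxM⟩ : M)) :=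
    CfsgLib.Signalizer.isPGroup_zpowers_involution (by rw [Subgroup.orderOf_mk]; exact hx)
  obtain ⟨Q, hQ⟩ := hp.exists_le_sylow
  obtain ⟨m, hm⟩ := MulAction.exists_smul_eq M Q (S.subtype hSM)
  have h1 : m * ⟨x, hxM⟩ * m⁻¹ ∈ (S.subtype hSM : Subgroup M) := by
    rw [← hm, Sylow.coe_subgroup_smul]
    exact ⟨⟨x, hxM⟩, hQ (mem_zpowers _), rfl⟩
  refine ⟨m, m.2, h1, ?_⟩
  rw [show (m : G) * x * (m : G)⁻¹ * ((m : G) * x * (m : G)⁻¹) = (m : G) * (x * x) * (m : G)⁻¹ by group,
    involution_sq hx]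
  group

/-- A proper subgroup containing `N(S)` and all the centralizers makes every centralizer solvable. -/
theorem solvCent_of_contains (h4 : 4 ≤ Nat.card (omegaS S hS)) {M : Subgroup G} (hne : M ≠ ⊤)
    (hN : normalizer ((S : Subgroup G) : Set G) ≤ M)
    (hC : ∀ a ∈ omegaS S hS, a ≠ 1 → centralizer ({a} : Set G) ≤ M) : SolvCent G := by
  haveI : Fact (Nat.Prime 2) := ⟨Nat.prime_two⟩
  have hSM : (S : Subgroup G) ≤ M := le_normalizer.trans hN
  obtain ⟨v, hv, hv1⟩ := (omegaS S hS).bot_or_exists_ne_one.resolve_left fun e => by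
    rw [e, Subgroup.card_bot] at h4; omega
  have hSE : Cfsg.IsStronglyEmbedded M := by
    rw [CfsgLib.Signalizer.stronglyEmbedded_iff_conj]
    refine ⟨hne, even_iff_two_dvd.2 (orderOf_omega S hS hv hv1 ▸ Subgroup.orderOf_dvd_natCard _ (hSM hv.1)),
      fun t htM ht g hg => ?_⟩
    obtain ⟨m, hm, hmS⟩ := exists_conj_omega S hS hSM htM ht
    obtain ⟨m', hm', hm'S⟩ := exists_conj_omega S hS hSM hg ((CfsgLib.Signalizer.orderOf_conj g t).trans ht)
    set k := m' * g * m⁻¹
    have hk : (k⁻¹)⁻¹ * (m * t * m⁻¹) * k⁻¹ ∈ (S : Subgroup G) := by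
      rw [show (k⁻¹)⁻¹ * (m * t * m⁻¹) * k⁻¹ = m' * (g * t * g⁻¹) * m'⁻¹ by simp [k]; group]
      exact hm'S.1
    obtain ⟨n, hn, hne'⟩ := Sylow.conj_eq_normalizer_conj_of_mem S (_hP := hS) (m * t * m⁻¹) k⁻¹ hmS.1 hk
    have hnk : n * k ∈ centralizer ({m * t * m⁻¹} : Set G) := by
      rw [mem_centralizer_singleton_iff]
      rw [inv_inv] at hne'
      calc n * k * (m * t * m⁻¹) = n * (k * (m * t * m⁻¹) * k⁻¹) * k := by group
        _ = n * (n⁻¹ * (m * t * m⁻¹) * n) * k := by rw [hne']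
        _ = (m * t * m⁻¹) * (n * k) := by group
    have hnkM : n * k ∈ M := hC _ hmS (fun e => involution_ne_one ht (conj_eq_one_iff.1 e)) hnk
    have hkM : k ∈ M := by
      have := mul_mem (inv_mem (hN hn : n ∈ M)) hnkM
      simpa using this
    rw [show g = m'⁻¹ * k * m by simp [k]; group]
    exact mul_mem (mul_mem (inv_mem hm') hkM) hm
  have hrank : Cfsg.PRankAtLeast 2 2 G := ⟨omegaS S hS, isComm_omega S hS,
    fun x hx => by rw [pow_two]; exact hx.2, by norm_num; exact h4⟩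
  haveI := CfsgLib.Bender.solvable_of_benderGen CfsgLib.Bender.benderGen hrank (CfsgLib.Bender.spe_of_se hSE)
  intro t ht
  obtain ⟨g, -, hg⟩ := exists_conj_omega S hS (le_top : (S : Subgroup G) ≤ ⊤) (mem_top t) ht
  have hmem : ∀ z : ↥(centralizer ({t} : Set G)), g * (z : G) * g⁻¹ ∈ M := fun z =>
    hC _ hg (fun e => involution_ne_one ht (conj_eq_one_iff.1 e)) (mem_centralizer_singleton_iff.2 (by
      have hz := mem_centralizer_singleton_iff.1 z.2
      calc g * (z : G) * g⁻¹ * (g * t * g⁻¹) = g * ((z : G) * t) * g⁻¹ := by group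
        _ = g * (t * (z : G)) * g⁻¹ := by rw [hz]
        _ = _ := by group))
  let e : ↥(centralizer ({t} : Set G)) →* M :=
    ((MulAut.conj g).toMonoidHom.comp (centralizer ({t} : Set G)).subtype).codRestrict M hmem
  exact Group.isSolvable_of_isSolvable_injective (f := e) fun x y hxy => Subtype.ext
    (mul_left_cancel (mul_right_cancel (congrArg Subtype.val hxy : g * (x : G) * g⁻¹ = g * (y : G) * g⁻¹)))

end CfsgLib.Walter
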