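import Cfsg.Agent.Lib.Recog.Walter.Sections.Shape
import Cfsg.Agent.Lib.Recog.Walter.Sections.Odd
import Cfsg.Agent.Lib.Recog.Walter.Sections.Two
import Cfsg.Agent.Lib.Recog.Walter.Contains
import Cfsg.Agent.Lib.Recog.Walter.Three.Setting

/-!
Owner: helper15. Walter, S9: with eight elements of square one and a nonsolvable involution centralizer
the Sylow 2-subgroup is elementary of order eight (`setting_of_eight`).
-/

set_option autoImplicit false
set_option linter.style.haveILetI false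
set_option linter.unusedSectionVars false

namespace CfsgLib.Walter

open Subgroup
open CfsgLib.AbelianSolvCent (AbSylow SolvCent omegaS orderOf_omega sylow_comm sylow_le_centralizer)

universe u

/-- What is used of the type of a component. -/
theorem type_facts {K : Type u} [Group K] [Finite K] (h : IsWalterType K) :
    ((∀ (P : Sylow 2 K), ∀ y ∈ (P : Subgroup K), y * y = 1) ∧ ∀ P : Sylow 2 K, 4 ≤ Nat.card (P : Subgroup K)) ∨
      ∃ A : Subgroup K, (∀ a ∈ A, a * a = 1) ∧ 8 ≤ Nat.card A := by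
  rcases h with h | h | ⟨-, -, hrk, -⟩
  · exact Or.inl ⟨fun P y hy => by rw [← pow_two]; exact (h.elemCent P).sq_eq_one hy,
      fun P => (h.elemCent P).four_le_card⟩
  · exact Or.inl ⟨fun P y hy => Sections.sylow_sq h.pslData P hy, fun P => (Sections.card_sylow h.pslData P).ge⟩
  · simp only [Cfsg.PRankLE, not_forall] at hrk
    obtain ⟨A, -, hA2, hA⟩ := hrk
    refine Or.inr ⟨A, fun a ha => by rw [← pow_two]; exact hA2 a ha, ?_⟩
    have hp : IsPGroup 2 A := fun a => ⟨1, Subtype.ext (by simpa using hA2 a a.2)⟩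
    obtain ⟨k, hk⟩ := hp.exists_card_eq
    rcases Nat.lt_or_ge k 3 with h3 | h3
    · exact absurd (hk ▸ Nat.pow_le_pow_right two_pos (show k ≤ 2 by omega)) hA
    · exact hk ▸ (show 8 = 2 ^ 3 by norm_num) ▸ Nat.pow_le_pow_right two_pos h3

variable {G : Type u} [Group G] [Finite G] [IsSimpleGroup G]

/-- A nonabelian simple group has no isolated involution. -/
theorem not_isolated (hG : ¬ IsMulCommutative G) {t : G} (h : Cfsg.IsIsolatedInvolution t) : False := by
  have hns : ¬ Group.IsSolvable G := fun hs =>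
    hG ⟨⟨fun a b => IsSimpleGroup.comm_iff_isSolvable.mpr hs a b⟩⟩
  have hO : Cfsg.oddCore G = ⊥ :=
    ((inferInstance : (Cfsg.oddCore G).Normal).eq_bot_or_eq_top).resolve_right fun e => hns (by
      haveI : Group.IsSolvable (⊤ : Subgroup G) :=
        e ▸ Cfsg.Agent.S0205.result (CfsgLib.GW.DGroup.odd_oddCore G)
      exact Group.isSolvable_of_surjective (f := Subgroup.topEquiv.toMonoidHom) (MulEquiv.surjective _))
  have hc : t ∈ center G := mem_center_iff.2 fun g => by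
    have h1 := CfsgLib.ZStar.mem_oddCore_of_isolated h g
    rw [hO, mem_bot, mul_inv_eq_one, mul_inv_eq_iff_eq_mul] at h1
    exact h1.symm
  rcases (inferInstance : (center G).Normal).eq_bot_or_eq_top with e | e
  · exact CfsgLib.Signalizer.involution_ne_one h.1 (mem_bot.1 (e ▸ hc))
  · exact hns (Group.isSolvable_of_comm fun x y => mem_center_iff.1 (e ▸ mem_top y) x)

/-- **Rank three: the Sylow 2-subgroup is elementary.** -/
theorem setting_of_eight (hG : ¬ IsMulCommutative G) (hA : AbSylow G) (hI : Smaller G) (S : Sylow 2 G)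
    (h8 : Nat.card (omegaS S (hA S)) = 8) (hnC : ¬ SolvCent G) : Three.Setting S := by
  classical
  haveI : Fact (Nat.Prime 2) := ⟨Nat.prime_two⟩
  simp only [SolvCent, not_forall] at hnC
  obtain ⟨t₀, ht₀, hns₀⟩ := hnC
  obtain ⟨g, -, ht⟩ := exists_conj_omega S (hA S) (le_top : (S : Subgroup G) ≤ ⊤) (mem_top t₀) ht₀
  set t := g * t₀ * g⁻¹
  have ht1 : t ≠ 1 := fun e => CfsgLib.Signalizer.involution_ne_one ht₀ (conj_eq_one_iff.1 e)
  have ht2 : orderOf t = 2 := orderOf_omega S (hA S) ht ht1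
  set C := centralizer ({t} : Set G) with hCdef
  have hns : ¬ Group.IsSolvable C := fun hs => hns₀ (by
    let e : ↥(centralizer ({t₀} : Set G)) →* C :=
      ((MulAut.conj g).toMonoidHom.comp (centralizer ({t₀} : Set G)).subtype).codRestrict _ fun z =>
        mem_centralizer_singleton_iff.2 (by
          have hz := mem_centralizer_singleton_iff.1 z.2
          show g * (z : G) * g⁻¹ * (g * t₀ * g⁻¹) = g * t₀ * g⁻¹ * (g * (z : G) * g⁻¹)
          calc g * (z : G) * g⁻¹ * (g * t₀ * g⁻¹) = g * ((z : G) * t₀) * g⁻¹ := by group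
            _ = g * (t₀ * (z : G)) * g⁻¹ := by rw [hz]
            _ = _ := by group)
    haveI := hs
    exact Group.isSolvable_of_isSolvable_injective (f := e) fun x y hxy => Subtype.ext
      (mul_left_cancel (mul_right_cancel (congrArg Subtype.val hxy : g * (x : G) * g⁻¹ = g * (y : G) * g⁻¹))))
  have hSC : (S : Subgroup G) ≤ C := sylow_le_centralizer S (hA S) ht.1
  set X := ↥C ⧸ Cfsg.oddCore ↥C
  set π := QuotientGroup.mk' (Cfsg.oddCore ↥C) with hπ
  have hAC : AbSylow ↥C := CfsgLib.AbelianSolvCent.abSylow_subgroup hA C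
  have hAX : AbSylow X := CfsgLib.AbelianSolvCent.abSylow_of_surjective hAC π (QuotientGroup.mk'_surjective _)
  have hO : Cfsg.oddCore X = ⊥ := CfsgLib.Core.pPrimeCore_quotient_pPrimeCore 2 ↥C
  set Sx : Sylow 2 X := (S.subtype hSC).mapSurjective (f := π) (QuotientGroup.mk'_surjective _) with hSxdef
  have hinj : ∀ {x y : G} (hx : x ∈ (S : Subgroup G)) (hy : y ∈ (S : Subgroup G)),
      π ⟨x, hSC hx⟩ = π ⟨y, hSC hy⟩ → x = y := by
    intro x y hx hy h
    obtain ⟨k, hk⟩ := IsPGroup.iff_orderOf.1 S.2 ⟨x⁻¹ * y, mul_mem (inv_mem hx) hy⟩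
    rw [Subgroup.orderOf_mk] at hk
    have hmem : (⟨x, hSC hx⟩⁻¹ * ⟨y, hSC hy⟩ : C) ∈ Cfsg.oddCore ↥C := QuotientGroup.eq.1 h
    have h1 := (CfsgLib.GW.DGroup.odd_oddCore ↥C).of_dvd_nat (Subgroup.orderOf_dvd_natCard _ hmem)
    rw [← Subgroup.orderOf_coe, Subgroup.coe_mul, Subgroup.coe_inv, hk] at h1
    rcases k with _ | k
    · exact inv_mul_eq_one.1 (orderOf_eq_one_iff.1 (hk.trans (pow_zero 2)))
    · exact absurd h1 (Nat.not_odd_iff_even.2 (even_iff_two_dvd.2 (dvd_pow_self 2 k.succ_ne_zero)))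
  have hSxmem : ∀ {x : G} (hx : x ∈ (S : Subgroup G)), π ⟨x, hSC hx⟩ ∈ (Sx : Subgroup X) :=
    fun {x} hx => ⟨⟨x, hSC hx⟩, hx, rfl⟩
  set z : X := π ⟨t, hSC ht.1⟩ with hz
  have hz1 : z ≠ 1 := fun e => ht1 (hinj ht.1 (one_mem _) (e.trans (map_one π).symm))
  have hzc : ∀ x : X, z * x = x * z := fun x => by
    obtain ⟨c, rfl⟩ := QuotientGroup.mk'_surjective _ x
    rw [hz, ← map_mul, ← map_mul]
    exact congrArg π (Subtype.ext (mem_centralizer_singleton_iff.1 c.2).symm)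
  have hzp : z ∈ Cfsg.pCore 2 X :=
    Sections.mem_pCore_of_centralizes_layer hAX hO Sx (hSxmem ht.1) fun e _ => hzc e
  -- counting
  have count : ∀ V U : Subgroup X, V ≤ (Sx : Subgroup X) ⊓ Cfsg.layer X →
      U ≤ (Sx : Subgroup X) ⊓ Cfsg.pCore 2 X → (∀ v ∈ V, v * v = 1) → (∀ u ∈ U, u * u = 1) →
      Nat.card V * Nat.card U ≤ 8 := by
    intro V U hV hU hV2 hU2
    have hex : ∀ p : ↥V × ↥U, ∃ e : ↥(omegaS S (hA S)), π ⟨e, hSC e.2.1⟩ = (p.1 : X) * p.2 := by
      intro p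
      have hp : (p.1 : X) * p.2 ∈ (Sx : Subgroup X) := mul_mem (hV p.1.2).1 (hU p.2.2).1
      obtain ⟨⟨s, hsC⟩, hs, hps⟩ := hp
      change s ∈ (S : Subgroup G) at hs
      change π ⟨s, hsC⟩ = _ at hps
      have hcom : (p.1 : X) * p.2 = (p.2 : X) * p.1 := Sections.sylow_comm Sx (hAX Sx) (hV p.1.2).1 (hU p.2.2).1
      have hs2 : π ⟨s * s, hSC (mul_mem hs hs)⟩ = π ⟨1, hSC (one_mem _)⟩ := by
        rw [show (⟨s * s, hSC (mul_mem hs hs)⟩ : C) = ⟨s, hsC⟩ * ⟨s, hsC⟩ from rfl, map_mul, hps,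
          show (⟨1, hSC (one_mem _)⟩ : C) = 1 from rfl, map_one]
        calc (p.1 : X) * p.2 * (p.1 * p.2) = p.1 * ((p.2 : X) * p.1) * p.2 := by group
          _ = p.1 * ((p.1 : X) * p.2) * p.2 := by rw [hcom]
          _ = ((p.1 : X) * p.1) * ((p.2 : X) * p.2) := by group
          _ = 1 := by rw [hV2 _ p.1.2, hU2 _ p.2.2, one_mul]
      exact ⟨⟨s, hs, hinj (mul_mem hs hs) (one_mem _) hs2⟩, hps⟩
    choose f hf using hex
    rw [← h8, ← Nat.card_prod]
    refine Nat.card_le_card_of_injective f fun p q h => ?_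
    have h1 : (p.1 : X) * p.2 = (q.1 : X) * q.2 := by rw [← hf, ← hf, h]
    have h2 : (q.1 : X)⁻¹ * p.1 = (q.2 : X) * (p.2 : X)⁻¹ := by
      rw [eq_mul_inv_iff_mul_eq, mul_assoc, h1, inv_mul_cancel_left]
    have h3 : (q.1 : X)⁻¹ * p.1 ∈ Cfsg.pCore 2 X ⊓ Cfsg.layer X :=
      ⟨h2 ▸ (Cfsg.pCore 2 X).mul_mem (hU q.2.2).2 ((Cfsg.pCore 2 X).inv_mem (hU p.2.2).2),
        (Cfsg.layer X).mul_mem ((Cfsg.layer X).inv_mem (hV q.1.2).2) (hV p.1.2).2⟩
    rw [Sections.pCore_inf_layer hAX hO, mem_bot] at h3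
    refine Prod.ext (Subtype.ext (inv_mul_eq_one.1 h3).symm) (Subtype.ext ?_)
    rw [h3, eq_mul_inv_iff_mul_eq, one_mul] at h2
    exact h2
  -- move subgroups of components into `Sx`
  have move : ∀ {K : Subgroup X}, Cfsg.IsComponent K → ∀ A : Subgroup K, IsPGroup 2 A →
      ∃ g : X, (A.map K.subtype).map (MulAut.conj g).toMonoidHom ≤ (Sx : Subgroup X) ⊓ Cfsg.layer X := by
    intro K hK A hA2
    obtain ⟨R, hR⟩ := (hA2.map K.subtype).exists_le_sylow
    obtain ⟨g, hg⟩ := MulAction.exists_smul_eq X R Sx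
    refine ⟨g, ?_⟩
    rintro _ ⟨y, hy, rfl⟩
    refine ⟨?_, ?_⟩
    · rw [← hg, Sylow.coe_subgroup_smul]
      exact ⟨y, hR hy, rfl⟩
    · exact CfsgLib.Components.layer_normal.conj_mem _ (CfsgLib.Components.le_layer hK (map_subtype_le A hy)) g
  have hcard : ∀ {K : Subgroup X} (A : Subgroup K) (g : X),
      Nat.card ((A.map K.subtype).map (MulAut.conj g).toMonoidHom) = Nat.card A := fun {K} A g => by
    rw [card_map_of_injective (f := (MulAut.conj g).toMonoidHom) (MulAut.conj g).injective,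
      card_map_of_injective K.subtype_injective]
  have hsqmap : ∀ {K : Subgroup X} (A : Subgroup K) (g : X), (∀ a ∈ A, a * a = 1) →
      ∀ v ∈ (A.map K.subtype).map (MulAut.conj g).toMonoidHom, v * v = 1 := by
    rintro K A g hA2 _ ⟨_, ⟨a, ha, rfl⟩, rfl⟩
    rw [← map_mul, ← map_mul, hA2 a ha, map_one, map_one]
  have hW : Sections.SecWalter X := Sections.secWalter_of_surjective (Sections.secWalter_of_smaller hI hAC
    (lt_of_le_of_ne (card_le_card_group C) fun e => hns (by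
      have htc : t ∈ center G := mem_center_iff.2 fun g =>
        mem_centralizer_singleton_iff.1 (((card_eq_iff_eq_top C).1 e).ge (mem_top g))
      rcases (inferInstance : (center G).Normal).eq_bot_or_eq_top with h | h
      · exact absurd (mem_bot.1 (h ▸ htc)) ht1
      · exact absurd ⟨⟨fun x y => mem_center_iff.1 (h ▸ mem_top y) x⟩⟩ hG)))
    π (QuotientGroup.mk'_surjective _)
  set Z : Subgroup X := zpowers z
  have hZ : Z ≤ (Sx : Subgroup X) ⊓ Cfsg.pCore 2 X := zpowers_le.2 ⟨hSxmem ht.1, hzp⟩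
  have hzz : z * z = 1 := by
    rw [hz, ← map_mul, show (⟨t, hSC ht.1⟩ * ⟨t, hSC ht.1⟩ : C) = 1 from Subtype.ext ht.2, map_one]
  have hZ2 : Nat.card Z = 2 := by
    rw [Nat.card_zpowers, CfsgLib.Signalizer.orderOf_eq_two_of hz1 hzz]
  have hZsq : ∀ u ∈ Z, u * u = 1 := fun u hu => by
    obtain ⟨k, rfl⟩ := mem_zpowers_iff.1 hu
    rw [← (Commute.refl z).mul_zpow, hzz, one_zpow]
  have hTwo : ∀ {K : Subgroup X}, Cfsg.IsComponent K →
      (∀ P : Sylow 2 K, ∀ y ∈ (P : Subgroup K), y * y = 1) ∧ ∀ P : Sylow 2 K, 4 ≤ Nat.card (P : Subgroup K) := by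
    intro K hK
    rcases type_facts (Sections.component_type hAX hO hW hK) with h | ⟨A, hA2, hA8⟩
    · exact h
    exfalso
    obtain ⟨g, hg⟩ := move hK A fun a => ⟨1, Subtype.ext (by simpa [pow_two] using hA2 a a.2)⟩
    have h1 := count _ Z hg hZ (hsqmap A g hA2) hZsq
    rw [hcard, hZ2] at h1
    omega
  -- a component exists
  obtain ⟨K, hK⟩ : ∃ K : Subgroup X, Cfsg.IsComponent K := by
    by_contra hno
    push Not at hno
    refine hns ?_
    have hlay : ∀ e ∈ Cfsg.layer X, e = 1 := fun e he => mem_bot.1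
      (((CfsgLib.Components.layer_le_iff (H := (⊥ : Subgroup X))).2 fun K hK => absurd hK (hno K)) he)
    have hS : (Sx : Subgroup X) = Cfsg.pCore 2 X := le_antisymm (fun s hs =>
      Sections.mem_pCore_of_centralizes_layer hAX hO Sx hs fun e he => by rw [hlay e he, mul_one, one_mul])
      (CfsgLib.Core.pCore_le_sylow Sx)
    haveI : (Sx : Subgroup X).Normal := hS ▸ inferInstance
    haveI : Group.IsSolvable (Sx : Subgroup X) := Group.isSolvable_of_comm (hAX Sx).is_comm.comm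
    haveI : Group.IsSolvable (X ⧸ (Sx : Subgroup X)) := Cfsg.Agent.S0205.result (by
      rw [← Subgroup.index_eq_card]
      exact Nat.not_even_iff_odd.1 fun he => Sx.not_dvd_index (even_iff_two_dvd.1 he))
    haveI : Group.IsSolvable X := CfsgLib.OddGated.isSolvable_of_normal (Sx : Subgroup X) inferInstance inferInstance
    haveI : Group.IsSolvable (Cfsg.oddCore ↥C) := Cfsg.Agent.S0205.result (CfsgLib.GW.DGroup.odd_oddCore ↥C)
    exact CfsgLib.OddGated.isSolvable_of_normal (Cfsg.oddCore ↥C) inferInstance inferInstance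
  -- the squares lie in `O₂`, which has one involution
  have hone : ∀ u ∈ (Sx : Subgroup X) ⊓ Cfsg.pCore 2 X, u * u = 1 → u ≠ 1 → u = z := by
    intro u hu hu2 hu1
    by_contra hne
    obtain ⟨P⟩ := (inferInstance : Nonempty (Sylow 2 ↥K))
    obtain ⟨g, hg⟩ := move hK (P : Subgroup K) P.2
    set U : Subgroup X := zpowers z ⊔ zpowers u
    have hUle : U ≤ (Sx : Subgroup X) ⊓ Cfsg.pCore 2 X := sup_le hZ (zpowers_le.2 hu)
    have hUsq : ∀ w ∈ U, w * w = 1 := by
      intro w hw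
      obtain ⟨a, ha, b, hb, rfl⟩ := (CfsgLib.Core.mem_sup_iff_mul (H := zpowers z) (N := zpowers u)
        ((zpowers_le.2 (centralizer_le_normalizer _ (mem_centralizer_iff.2 fun v _ => (hzc v).symm))))).1 hw
      obtain ⟨k, rfl⟩ := mem_zpowers_iff.1 hb
      have hca : a * u ^ k = u ^ k * a := Sections.sylow_comm Sx (hAX Sx) (hZ ha).1 ((Sx : Subgroup X).zpow_mem hu.1 k)
      calc a * u ^ k * (a * u ^ k) = a * (u ^ k * a) * u ^ k := by group
        _ = a * (a * u ^ k) * u ^ k := by rw [hca]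
        _ = (a * a) * (u ^ k * u ^ k) := by group
        _ = 1 := by rw [hZsq a ha, ← (Commute.refl u).mul_zpow, hu2, one_zpow, one_mul]
    have h3 : 3 ≤ Nat.card U := by
      have hsub : ({1, z, u} : Set X) ⊆ U := by
        rintro w (rfl | rfl | rfl)
        exacts [one_mem _, mem_sup_left (mem_zpowers _), mem_sup_right (mem_zpowers _)]
      have h := Set.ncard_le_ncard hsub
      have e3 : ({1, z, u} : Set X).ncard = 3 := Set.ncard_eq_three.2 ⟨1, z, u, hz1.symm, hu1.symm, Ne.symm hne, rfl⟩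
      rw [e3, ← Nat.card_coe_set_eq] at h
      exact h
    have h1 := count _ U hg hUle (hsqmap _ g ((hTwo hK).1 P)) hUsq
    rw [hcard] at h1
    have h4 := (hTwo hK).2 P
    have := Nat.mul_le_mul h4 h3
    omega
  have hsqO : ∀ {s : G} (hs : s ∈ (S : Subgroup G)), π ⟨s * s, hSC (mul_mem hs hs)⟩ ∈ Cfsg.pCore 2 X := by
    intro s hs
    refine Sections.mem_pCore_of_centralizes_layer hAX hO Sx (hSxmem (mul_mem hs hs)) ?_
    have hle : Cfsg.layer X ≤ centralizer ({π ⟨s * s, hSC (mul_mem hs hs)⟩} : Set X) :=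
      CfsgLib.Components.layer_le_iff.2 fun L hL k hk => mem_centralizer_singleton_iff.2 (by
        set σ := π ⟨s, hSC hs⟩ with hσ
        obtain ⟨x, hx, hxk⟩ := Sections.exists_projection hAX hO Sx hL (hSxmem hs)
        obtain ⟨P, hP⟩ := (Sx.2.comap_of_injective L.subtype L.subtype_injective).exists_le_sylow
        have hxx : x * x = 1 := congrArg Subtype.val ((hTwo hL).1 P ⟨x, hx.2⟩ (hP hx.1))
        have hk' : σ * k * σ⁻¹ ∈ L := (mem_normalizer_iff.1
          (Sections.sylow_le_normalizer_component hAX hO Sx hL (hSxmem hs)) k).1 hk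
        have h1 : σ * σ * k * (σ * σ)⁻¹ = k := by
          rw [show σ * σ * k * (σ * σ)⁻¹ = σ * (σ * k * σ⁻¹) * σ⁻¹ by group, hxk _ hk', hxk k hk,
            show x * (x * k * x⁻¹) * x⁻¹ = (x * x) * k * (x * x)⁻¹ by group, hxx]
          group
        rw [show (⟨s * s, hSC (mul_mem hs hs)⟩ : C) = ⟨s, hSC hs⟩ * ⟨s, hSC hs⟩ from rfl, map_mul, ← hσ]
        exact (mul_inv_eq_iff_eq_mul.1 h1).symm)
    exact fun e he => (mem_centralizer_singleton_iff.1 (hle he)).symm
  have hpow : ∀ {s : G}, s ∈ (S : Subgroup G) → ∀ j : ℕ, orderOf ((s * s) ^ j) = 2 → (s * s) ^ j = t := by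
    intro s hs j hj
    have hwS : (s * s) ^ j ∈ (S : Subgroup G) := pow_mem (mul_mem hs hs) j
    refine hinj hwS ht.1 (hone _ ⟨hSxmem hwS, ?_⟩ ?_ ?_)
    · rw [show (⟨(s * s) ^ j, hSC hwS⟩ : C) = (⟨s * s, hSC (mul_mem hs hs)⟩ : C) ^ j from rfl, map_pow]
      exact pow_mem (hsqO hs) j
    · rw [← map_mul, show (⟨(s * s) ^ j, hSC hwS⟩ * ⟨(s * s) ^ j, hSC hwS⟩ : C) = 1 from
        Subtype.ext (CfsgLib.Signalizer.involution_sq hj), map_one]
    · exact fun e => CfsgLib.Signalizer.involution_ne_one hj (hinj hwS (one_mem _) (e.trans (map_one π).symm))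
  have hsq : ∀ s ∈ (S : Subgroup G), s * s = 1 := by
    intro s hs
    by_contra hs1
    obtain ⟨n, hn⟩ := IsPGroup.iff_orderOf.1 S.2 ⟨s * s, mul_mem hs hs⟩
    rw [Subgroup.orderOf_mk] at hn
    rcases n with _ | n
    · exact hs1 (orderOf_eq_one_iff.1 (hn.trans (pow_zero 2)))
    have hw : orderOf ((s * s) ^ 2 ^ n) = 2 := by
      rw [orderOf_pow_of_dvd (pow_ne_zero _ two_ne_zero) (hn ▸ pow_dvd_pow 2 n.le_succ), hn, pow_succ,
        Nat.mul_div_cancel_left _ (pow_pos two_pos n)]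
    have hwt := hpow hs _ hw
    refine not_isolated hG (Sections.isolated_of_normalizer S (hA S) ht2 ht.1 fun m hm => ?_)
    have hms : m * s * m⁻¹ ∈ (S : Subgroup G) := (mem_normalizer_iff.1 hm s).1 hs
    have he : (m * s * m⁻¹ * (m * s * m⁻¹)) ^ 2 ^ n = m * t * m⁻¹ := by
      rw [show m * s * m⁻¹ * (m * s * m⁻¹) = m * (s * s) * m⁻¹ by group, conj_pow, hwt]
    have h2 : orderOf ((m * s * m⁻¹ * (m * s * m⁻¹)) ^ 2 ^ n) = 2 := by
      rw [he, CfsgLib.Signalizer.orderOf_conj]; exact ht2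
    have h3 := hpow hms _ h2
    rw [he] at h3
    exact mul_inv_eq_iff_eq_mul.1 h3
  exact ⟨inferInstance, hG, hsq, h8 ▸ Nat.card_congr
    ⟨fun x => ⟨x, x.2, hsq x x.2⟩, fun x => ⟨x, x.2.1⟩, fun _ => rfl, fun _ => rfl⟩, t, ht2, hns⟩

end CfsgLib.Walter
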