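import Cfsg.Agent.Lib.Recog.Walter.Sections.Shape
import Cfsg.Agent.Lib.Recog.Walter.Contains

/-!
Owner: helper15. Walter, balance (P1 of the note).

* `LocBal K`: involution centralizers have trivial odd core and no odd automorphism fixes one pointwise.
* `eq_bot_of_locBal`: with locally balanced components an odd normal subgroup of an involution centralizer
  of a group without odd core is trivial.
* `balance`: then `O(C(a)) ∩ C(b) ≤ O(C(b))`.
-/

set_option autoImplicit false
set_option linter.style.haveILetI false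
set_option linter.unusedSectionVars false

namespace CfsgLib.Walter

open Subgroup
open CfsgLib.AbelianSolvCent (AbSylow omegaS orderOf_omega sylow_comm sylow_le_centralizer)
open CfsgLib.InvCent (theta theta_le le_normalizer_theta odd_card_theta)

universe u

/-- Locally balanced: `O(C(v)) = 1` and no nontrivial odd automorphism centralizes `C(v)`. -/
structure LocBal (K : Type u) [Group K] : Prop where
  core : ∀ v : K, orderOf v = 2 → Cfsg.oddCore ↥(centralizer ({v} : Set K)) = ⊥
  fix : ∀ v : K, orderOf v = 2 → ∀ α : MulAut K, Odd (orderOf α) →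
    (∀ c ∈ centralizer ({v} : Set K), α c = c) → α = 1

section core

variable {X : Type u} [Group X] [Finite X]

/-- An odd subgroup normalised by a subgroup `C` meets a subgroup normalised by it only in an odd subgroup
normalised by `C`. -/
theorem odd_inf {D K : Subgroup X} (hD : Odd (Nat.card D)) : Odd (Nat.card (D ⊓ K : Subgroup X)) :=
  hD.of_dvd_nat (card_dvd_of_le inf_le_left)

/-- With locally balanced components an odd subgroup of `C(a)` normalised by `C(a)` is trivial. -/
theorem eq_bot_of_locBal (hA : AbSylow X) (hO : Cfsg.oddCore X = ⊥) (S : Sylow 2 X) {a : X}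
    (ha : a ∈ (S : Subgroup X)) (ha2 : orderOf a = 2)
    (hL : ∀ K : Subgroup X, Cfsg.IsComponent K → LocBal ↥K) {D : Subgroup X}
    (hD : Odd (Nat.card D)) (hDC : D ≤ centralizer ({a} : Set X))
    (hCD : centralizer ({a} : Set X) ≤ normalizer (D : Set X)) : D = ⊥ := by
  classical
  haveI : Fact (Nat.Prime 2) := ⟨Nat.prime_two⟩
  have hSC : (S : Subgroup X) ≤ centralizer ({a} : Set X) := fun s hs =>
    mem_centralizer_singleton_iff.2 (Sections.sylow_comm S (hA S) hs ha)
  have hSD : ∀ s ∈ (S : Subgroup X), ∀ d ∈ D, s * d * s⁻¹ * d⁻¹ ∈ D := fun s hs d hd =>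
    mul_mem ((mem_normalizer_iff.1 (hCD (hSC hs)) d).1 hd) (inv_mem hd)
  have hodd1 : ∀ z ∈ D, z * z = 1 → z = 1 := fun z hz h => orderOf_eq_one_iff.1
    (Nat.eq_one_of_dvd_coprimes (Nat.coprime_two_right.2 (hD.of_dvd_nat (D.orderOf_dvd_natCard hz)))
      dvd_rfl (orderOf_dvd_of_pow_eq_one (by rw [pow_two]; exact h)))
  -- every component is normalised and centralised
  have hK : ∀ K : Subgroup X, Cfsg.IsComponent K → ∀ d ∈ D, ∀ k ∈ K, d * k * d⁻¹ = k := by
    intro K hK
    haveI := Sections.component_isSimple hA hO hK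
    have hna := Sections.component_not_comm hK
    obtain ⟨y, hy, hy1⟩ := (bot_or_exists_ne_one _).resolve_left (Sections.inf_component_ne_bot S hK)
    obtain ⟨n, hn⟩ := IsPGroup.iff_orderOf.1 S.2 ⟨y, hy.1⟩
    rw [Subgroup.orderOf_mk] at hn
    rcases n with _ | n
    · exact absurd (orderOf_eq_one_iff.1 (hn.trans (pow_zero 2))) hy1
    set s := y ^ 2 ^ n with hs
    have hs2 : orderOf s = 2 := by
      rw [hs, orderOf_pow_of_dvd (pow_ne_zero _ two_ne_zero) (hn ▸ pow_dvd_pow 2 n.le_succ), hn, pow_succ,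
        Nat.mul_div_cancel_left _ (pow_pos two_pos n)]
    have hsS : s ∈ (S : Subgroup X) := pow_mem hy.1 _
    have hsK : s ∈ K := pow_mem hy.2 _
    have hDn : D ≤ normalizer (K : Set X) := by
      intro d hd
      refine mem_normalizer_iff_map_conj_eq.2 ?_
      by_contra hne
      have hK' := CfsgLib.Components.isComponent_map_equiv (MulAut.conj d) hK
      have hs' : d * s * d⁻¹ ∈ K.map (MulAut.conj d).toMonoidHom := ⟨s, hsK, rfl⟩
      have hc : d * s * d⁻¹ * s = s * (d * s * d⁻¹) := (mem_centralizer_iff.1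
        (commutator_eq_bot_iff_le_centralizer.1 (CfsgLib.Components.components_commute hK hK' (Ne.symm hne)) hsK)
        _ hs')
      have hsi : s⁻¹ = s := CfsgLib.Signalizer.involution_inv hs2
      have hss : s * s = 1 := CfsgLib.Signalizer.involution_sq hs2
      have hz : s * d * s⁻¹ * d⁻¹ ∈ D := hSD s hsS d hd
      have he : s * d * s⁻¹ * d⁻¹ = s * (d * s * d⁻¹) := by rw [hsi]; group
      have hsq : s * (d * s * d⁻¹) * (s * (d * s * d⁻¹)) = 1 := by
        calc s * (d * s * d⁻¹) * (s * (d * s * d⁻¹))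
            = s * ((d * s * d⁻¹) * s) * (d * s * d⁻¹) := by group
          _ = s * (s * (d * s * d⁻¹)) * (d * s * d⁻¹) := by rw [hc]
          _ = (s * s) * (d * (s * s) * d⁻¹) := by group
          _ = 1 := by rw [hss]; group
      have h1 := hodd1 _ hz (he ▸ hsq)
      rw [he] at h1
      have h2 : d * s * d⁻¹ = s := (eq_inv_of_mul_eq_one_right h1).trans hsi
      exact CfsgLib.Signalizer.involution_ne_one hs2
        (Sections.eq_one_of_mem_components hA hO hK hK' (Ne.symm hne) hsK (h2 ▸ hs'))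
    obtain ⟨x, hx, hxk⟩ := Sections.exists_projection hA hO S hK ha
    have hcent : ∀ k ∈ K, k * x = x * k → k ∈ centralizer ({a} : Set X) := fun k hk hkx =>
      mem_centralizer_singleton_iff.2 (by
        have h := hxk k hk
        rw [← hkx, mul_inv_cancel_right, mul_inv_eq_iff_eq_mul] at h
        exact h.symm)
    have hxc : ∀ k ∈ K, k ∈ centralizer ({a} : Set X) → k * x = x * k := fun k hk hka => by
      have h := hxk k hk
      rw [← mem_centralizer_singleton_iff.1 hka, mul_inv_cancel_right, eq_mul_inv_iff_mul_eq] at h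
      exact h
    have hcomm : ∀ d ∈ D, ∀ k ∈ K, k * x = x * k → d * k * d⁻¹ * k⁻¹ ∈ D ⊓ K := fun d hd k hk hkx => by
      refine ⟨?_, K.mul_mem ((mem_normalizer_iff.1 (hDn hd) k).1 hk) (K.inv_mem hk)⟩
      rw [show d * k * d⁻¹ * k⁻¹ = d * (k * d⁻¹ * k⁻¹) by group]
      exact mul_mem hd ((mem_normalizer_iff.1 (hCD (hcent k hk hkx)) _).1 (inv_mem hd))
    by_cases hx1 : x = 1
    · subst hx1
      have hKC : ∀ k ∈ K, k ∈ centralizer ({a} : Set X) := fun k hk => hcent k hk (by simp)
      haveI : ((D ⊓ K).subgroupOf K).Normal := ⟨fun z hz g =>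
        ⟨(mem_normalizer_iff.1 (hCD (hKC _ g.2)) _).1 hz.1, K.mul_mem (K.mul_mem g.2 hz.2) (K.inv_mem g.2)⟩⟩
      have hbot : (D ⊓ K).subgroupOf K = ⊥ := (Normal.eq_bot_or_eq_top inferInstance).resolve_right fun e => by
        refine CfsgLib.Components.IsComponent.not_isSolvable hK (Cfsg.Agent.S0205.result ?_)
        have hle : K ≤ D ⊓ K := subgroupOf_eq_top.1 e
        exact (odd_inf hD).of_dvd_nat (card_dvd_of_le hle)
      intro d hd k hk
      have h := hcomm d hd k hk (by simp)
      have h' : (⟨d * k * d⁻¹ * k⁻¹, h.2⟩ : K) ∈ (D ⊓ K).subgroupOf K := h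
      rw [hbot, mem_bot] at h'
      exact mul_inv_eq_one.1 (congrArg Subtype.val h')
    have hx2 : orderOf (⟨x, hx.2⟩ : K) = 2 := by
      refine CfsgLib.Signalizer.orderOf_eq_two_of (fun e => hx1 (congrArg Subtype.val e)) ?_
      have hc : (⟨x, hx.2⟩ * ⟨x, hx.2⟩ : K) ∈ center ↥K := mem_center_iff.2 fun g => Subtype.ext (by
        have h1 := hxk g g.2
        have h2 := hxk _ ((mem_normalizer_iff.1 (Sections.sylow_le_normalizer_component hA hO S hK ha) g).1 g.2)
        rw [show a * (a * (g : X) * a⁻¹) * a⁻¹ = (a * a) * (g : X) * (a * a)⁻¹ by group,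
          CfsgLib.Signalizer.involution_sq ha2, h1] at h2
        show (g : X) * (x * x) = x * x * (g : X)
        calc (g : X) * (x * x) = (1 * (g : X) * (1 : X)⁻¹) * (x * x) := by simp
          _ = x * (x * (g : X) * x⁻¹) * x⁻¹ * (x * x) := by rw [h2]
          _ = x * x * (g : X) := by group)
      rw [Sections.center_component_eq_bot hA hO hK, mem_bot] at hc
      exact hc
    have hCK : ∀ c : ↥K, c ∈ centralizer ({(⟨x, hx.2⟩ : K)} : Set ↥K) ↔ (c : X) * x = x * c := fun c =>
      mem_centralizer_singleton_iff.trans ⟨fun h => congrArg Subtype.val h, fun h => Subtype.ext h⟩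
    set Cx := centralizer ({(⟨x, hx.2⟩ : K)} : Set ↥K) with hCx
    have hDK : ∀ z ∈ D ⊓ K, z = 1 := by
      intro z hz
      set P := ((D ⊓ K).subgroupOf K).subgroupOf Cx
      have hPn : P.Normal := ⟨fun w hw g => ⟨(mem_normalizer_iff.1
        (hCD (hcent _ (g : ↥K).2 ((hCK _).1 g.2))) _).1 hw.1, K.mul_mem (K.mul_mem (g : ↥K).2 hw.2) (K.inv_mem (g : ↥K).2)⟩⟩
      have hPodd : Odd (Nat.card P) := (odd_inf (K := K) hD).of_dvd_nat (by
        rw [← Nat.card_congr (subgroupOfEquivOfLe (inf_le_right : D ⊓ K ≤ K)).toEquiv,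
          ← Nat.card_congr (equivMapOfInjective P Cx.subtype Cx.subtype_injective).toEquiv.symm]
        exact card_dvd_of_le (map_comap_le _ _))
      have h1 : (⟨⟨z, hz.2⟩, (hCK _).2 (hxc z hz.2 (hDC hz.1))⟩ : Cx) ∈ P := hz
      have h2 := CfsgLib.ZStar.le_oddCore hPn hPodd h1
      rw [(hL K hK).core _ hx2, mem_bot] at h2
      exact congrArg (fun w : Cx => ((w : ↥K) : X)) h2
    intro d hd k hk
    set α : MulAut ↥K := MulDistribMulAction.toMulAut ↥(normalizer (K : Set X)) ↥K ⟨d, hDn hd⟩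
    have hαv : ∀ g : ↥K, ((α g : ↥K) : X) = d * (g : X) * d⁻¹ := fun g => rfl
    have hα : α = 1 := by
      refine (hL K hK).fix _ hx2 α ((hD.of_dvd_nat (D.orderOf_dvd_natCard hd)).of_dvd_nat
        ((orderOf_map_dvd (MulDistribMulAction.toMulAut ↥(normalizer (K : Set X)) ↥K) ⟨d, hDn hd⟩).trans
          (by rw [Subgroup.orderOf_mk]))) fun c hc => Subtype.ext ?_
      rw [hαv]
      exact mul_inv_eq_one.1 (hDK _ (hcomm d hd c c.2 ((hCK c).1 hc)))
    exact (hαv ⟨k, hk⟩).symm.trans (by rw [hα]; rfl)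
  -- the fitting subgroup is centralised
  have hF : ∀ d ∈ D, ∀ y ∈ Cfsg.pCore 2 X, d * y = y * d := by
    intro d hd y hy
    have hyS := CfsgLib.Core.pCore_le_sylow S hy
    have hn : (Cfsg.pCore 2 X).Normal := inferInstance
    have h1 : y * d * y⁻¹ * d⁻¹ ∈ D := hSD y hyS d hd
    have h2 : y * d * y⁻¹ * d⁻¹ ∈ Cfsg.pCore 2 X := by
      rw [show y * d * y⁻¹ * d⁻¹ = y * (d * y⁻¹ * d⁻¹) by group]
      exact mul_mem hy (hn.conj_mem _ (inv_mem hy) d)
    obtain ⟨k, hk⟩ := IsPGroup.iff_orderOf.1 (IsPGroup.to_le S.2 (CfsgLib.Core.pCore_le_sylow S)) ⟨_, h2⟩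
    rw [Subgroup.orderOf_mk] at hk
    have h3 : y * d * y⁻¹ * d⁻¹ = 1 := orderOf_eq_one_iff.1 (Nat.eq_one_of_dvd_coprimes
      ((Nat.coprime_two_right.2 (hD.of_dvd_nat (D.orderOf_dvd_natCard h1))).pow_right k) dvd_rfl (hk ▸ dvd_rfl))
    rw [mul_inv_eq_one, mul_inv_eq_iff_eq_mul] at h3
    exact h3.symm
  refine (eq_bot_iff_forall _).2 fun d hd => ?_
  set C := centralizer (Cfsg.generalizedFittingSubgroup X : Set X)
  have hdC : d ∈ C := by
    have hle : Cfsg.generalizedFittingSubgroup X ≤ centralizer ({d} : Set X) := sup_le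
      (CfsgLib.Components.layer_le_iff.2 fun K hK' k hk => mem_centralizer_singleton_iff.2
        (mul_inv_eq_iff_eq_mul.1 (hK K hK' d hd k hk)).symm)
      (fun r hr => mem_centralizer_singleton_iff.2 (hF d hd r (Sections.fitting_eq hO ▸ hr)).symm)
    exact mem_centralizer_iff.2 fun g hg => mem_centralizer_singleton_iff.1 (hle hg)
  haveI := CfsgLib.Components.gFitting_normal (G := X)
  have hCle : C ≤ Cfsg.generalizedFittingSubgroup X := CfsgLib.Components.centralizer_gFitting_le
  have hCf : C ≤ Cfsg.fittingSubgroup X := by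
    have hCn : C.Normal := inferInstance
    haveI : IsMulCommutative ↥C := ⟨⟨fun a b => Subtype.ext
      (mem_centralizer_iff.1 b.2 (a : X) (hCle a.2))⟩⟩
    letI : CommGroup ↥C := { (inferInstance : Group ↥C) with mul_comm := fun a b => mul_comm' a b }
    exact le_sSup ⟨hCn, inferInstance⟩
  have hd2 : d ∈ Cfsg.pCore 2 X := Sections.fitting_eq hO ▸ hCf hdC
  obtain ⟨k, hk⟩ := IsPGroup.iff_orderOf.1 (IsPGroup.to_le S.2 (CfsgLib.Core.pCore_le_sylow S)) ⟨_, hd2⟩
  rw [Subgroup.orderOf_mk] at hk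
  exact orderOf_eq_one_iff.1 (Nat.eq_one_of_dvd_coprimes
    ((Nat.coprime_two_right.2 (hD.of_dvd_nat (D.orderOf_dvd_natCard hd))).pow_right k) dvd_rfl (hk ▸ dvd_rfl))

end core

variable {G : Type u} [Group G] [Finite G] (S : Sylow 2 G) (hS : IsMulCommutative ↥(S : Subgroup G))

include hS in
/-- **Balance.** -/
theorem balance {a b : G} (ha : a ∈ omegaS S hS) (ha1 : a ≠ 1) (hb : b ∈ omegaS S hS)
    (hL : ∀ K : Subgroup (↥(centralizer ({b} : Set G)) ⧸ Cfsg.oddCore ↥(centralizer ({b} : Set G))),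
      Cfsg.IsComponent K → LocBal ↥K) :
    theta a ⊓ centralizer ({b} : Set G) ≤ theta b := by
  haveI : Fact (Nat.Prime 2) := ⟨Nat.prime_two⟩
  set B := centralizer ({b} : Set G) with hBdef
  set π := QuotientGroup.mk' (Cfsg.oddCore ↥B)
  have hSB : (S : Subgroup G) ≤ B := sylow_le_centralizer S hS hb.1
  have haB : a ∈ B := hSB ha.1
  have hA : AbSylow ↥B := CfsgLib.AbelianSolvCent.abSylow_subgroup (CfsgLib.AbelianSolvCent.abSylow_of_one S hS) B
  have ha2 : orderOf (⟨a, haB⟩ : B) = 2 := by rw [Subgroup.orderOf_mk]; exact orderOf_omega S hS ha ha1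
  have hπa : orderOf (π ⟨a, haB⟩) = 2 := by
    refine CfsgLib.Signalizer.orderOf_eq_two_of (fun e => ?_) (by
      rw [← map_mul, show (⟨a, haB⟩ * ⟨a, haB⟩ : B) = 1 from Subtype.ext ha.2, map_one])
    have h := (CfsgLib.GW.DGroup.odd_oddCore ↥B).of_dvd_nat
      (Subgroup.orderOf_dvd_natCard _ ((QuotientGroup.eq_one_iff _).1 e))
    rw [ha2] at h
    exact absurd h (by decide)
  set T := (theta a).subgroupOf B ⊓ centralizer ({(⟨a, haB⟩ : B)} : Set B) with hT
  have hTodd : Odd (Nat.card T) := (odd_card_theta a).of_dvd_nat (by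
    refine (card_dvd_of_le inf_le_left).trans ?_
    rw [Nat.card_congr (equivMapOfInjective _ B.subtype B.subtype_injective).toEquiv]
    exact card_dvd_of_le (map_comap_le _ _))
  have hCmap := CfsgLib.GW.DGroup.map_centralizer_singleton ha2
  have hD : T.map π = ⊥ := by
    refine eq_bot_of_locBal (CfsgLib.AbelianSolvCent.abSylow_of_surjective hA π (QuotientGroup.mk'_surjective _))
      (CfsgLib.Core.pPrimeCore_quotient_pPrimeCore 2 ↥B)
      ((S.subtype hSB).mapSurjective (f := π) (QuotientGroup.mk'_surjective _)) ⟨⟨a, haB⟩, ha.1, rfl⟩ hπa hL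
      (hTodd.of_dvd_nat (T.card_map_dvd π)) ?_ ?_
    · rw [← hCmap]; exact map_mono inf_le_right
    · rw [← hCmap]
      rintro _ ⟨c, hc, rfl⟩
      refine le_normalizer_map π ⟨c, ?_, rfl⟩
      have hca : (c : G) ∈ centralizer ({a} : Set G) := mem_centralizer_singleton_iff.2
        (congrArg Subtype.val (mem_centralizer_singleton_iff.1 hc))
      refine mem_normalizer_iff.2 fun y => ?_
      have hcen := mem_normalizer_iff.1 (le_normalizer hc : c ∈ normalizer (centralizer ({(⟨a, haB⟩ : B)} : Set B) : Set B)) y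
      have hth := mem_normalizer_iff.1 (le_normalizer_theta a hca) (y : G)
      exact and_congr hth hcen
  rintro x ⟨hx, hxb⟩
  have hmem : (⟨x, hxb⟩ : B) ∈ T := ⟨hx, mem_centralizer_singleton_iff.2
    (Subtype.ext (mem_centralizer_singleton_iff.1 (theta_le a hx)))⟩
  have h := mem_map_of_mem π hmem
  rw [hD, mem_bot] at h
  exact ⟨⟨x, hxb⟩, (QuotientGroup.eq_one_iff _).1 h, rfl⟩

end CfsgLib.Walter
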