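import Cfsg.Agent.Lib.Recog.Walter.Three.Residual

/-!
Owner: helper15. The solvable residual of the centralizer of a subgroup.
-/

set_option autoImplicit false
set_option linter.style.haveILetI false

namespace CfsgLib.Walter

open Subgroup

universe u

variable {G : Type u} [Group G] [Finite G]

/-- The solvable residual of `C(B)`. -/
def perfCent (B : Subgroup G) : Subgroup G :=
  (Three.res ↥(centralizer (B : Set G))).map (centralizer (B : Set G)).subtype

omit [Finite G] in
theorem perfCent_le (B : Subgroup G) : perfCent B ≤ centralizer (B : Set G) := map_subtype_le _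

theorem perfCent_perfect (B : Subgroup G) : ⁅perfCent B, perfCent B⁆ = perfCent B := by
  rw [perfCent, ← map_commutator, Three.res_perfect]

theorem le_perfCent {B P : Subgroup G} (hP : P ≤ centralizer (B : Set G)) (hp : ⁅P, P⁆ = P) :
    P ≤ perfCent B := by
  intro x hx
  refine ⟨⟨x, hP hx⟩, Three.le_res (K := P.subgroupOf (centralizer (B : Set G))) ?_ hx, rfl⟩
  refine map_injective (centralizer (B : Set G)).subtype_injective ?_
  rw [map_commutator, map_subgroupOf_eq_of_le hP, hp]

theorem perfCent_antitone {B B' : Subgroup G} (h : B ≤ B') : perfCent B' ≤ perfCent B :=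
  le_perfCent ((perfCent_le B').trans (centralizer_le (SetLike.coe_subset_coe.2 h))) (perfCent_perfect B')

theorem conj_mem_perfCent {B : Subgroup G} (n : G) {x : G} (hx : x ∈ perfCent B) :
    n * x * n⁻¹ ∈ perfCent (B.map (MulAut.conj n).toMonoidHom) := by
  refine le_perfCent (P := (perfCent B).map (MulAut.conj n).toMonoidHom) ?_ ?_ ⟨x, hx, rfl⟩
  · rintro _ ⟨y, hy, rfl⟩
    refine mem_centralizer_iff.2 ?_
    rintro _ ⟨b, hb, rfl⟩
    show n * b * n⁻¹ * (n * y * n⁻¹) = n * y * n⁻¹ * (n * b * n⁻¹)
    have h1 := mem_centralizer_iff.1 (perfCent_le B hy) b hb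
    calc n * b * n⁻¹ * (n * y * n⁻¹) = n * (b * y) * n⁻¹ := by group
      _ = n * (y * b) * n⁻¹ := by rw [h1]
      _ = _ := by group
  · rw [← map_commutator, perfCent_perfect]

theorem mem_normalizer_perfCent {B : Subgroup G} {n : G}
    (hn : B.map (MulAut.conj n).toMonoidHom = B) : n ∈ normalizer (perfCent B : Set G) := by
  refine mem_normalizer_iff.2 fun x => ⟨fun hx => hn ▸ conj_mem_perfCent n hx, fun hx => ?_⟩
  have h' : B.map (MulAut.conj n⁻¹).toMonoidHom = B := by
    conv_lhs => rw [← hn]
    rw [map_map]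
    convert B.map_id
    ext y
    simp [mul_assoc]
  have h := h' ▸ conj_mem_perfCent n⁻¹ hx
  simpa [mul_assoc] using h

end CfsgLib.Walter
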