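import Cfsg.Agent.Lib.Recog.Walter.Contains
import Cfsg.Agent.Lib.Recog.Walter.PerfCent
import Cfsg.Agent.Lib.LocalEven.Generation

/-!
Owner: helper15. Walter, slice S5 (P1 of the note): every component is locally balanced.

* `Frame`: the blocks `(V i, C i)` of `E = Ω₁(S)`.
* `Balanced`: balance of `a ↦ O(C(a))`, generation of `C(a)` by `O(C(a))`, `N(S)` and the residuals
  `perfCent (C i ⊔ ⟨a⟩)`, which commute in pairs when `O(C(a)) = 1`.
* `solvCent_of_balanced`: then all involution centralizers are solvable.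
-/

set_option autoImplicit false
set_option linter.style.haveILetI false
set_option linter.unusedSectionVars false

namespace CfsgLib.Walter

open Subgroup
open CfsgLib.AbelianSolvCent (AbSylow SolvCent omegaS orderOf_omega sylow_comm sylow_le_centralizer W)
open CfsgLib.InvCent (theta theta_le le_normalizer_theta odd_card_theta isSolvable_theta mem_theta_conj)

universe u v

variable {G : Type u} [Group G] [Finite G] (S : Sylow 2 G) (hS : IsMulCommutative ↥(S : Subgroup G))
  {ι : Type v}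

/-- The maximal pairs of `Ω₁(S)`: pairwise orthogonal decompositions permuted by `N(S)`. -/
structure Frame (V C : ι → Subgroup G) : Prop where
  conj : ∀ n ∈ normalizer ((S : Subgroup G) : Set G), ∀ i, ∃ j,
    V j = (V i).map (MulAut.conj n).toMonoidHom ∧ C j = (C i).map (MulAut.conj n).toMonoidHom
  sup_eq : ∀ i, V i ⊔ C i = omegaS S hS
  disj : ∀ i, V i ⊓ C i = ⊥
  orth : ∀ i j, i ≠ j → V i ≤ C j
  four_le_V : ∀ i, 4 ≤ Nat.card (V i)
  four_le_C : ∀ i, 4 ≤ Nat.card (C i)

/-- The facts about the centralizers used in the balanced case. -/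
structure Balanced (C : ι → Subgroup G) : Prop where
  bal : ∀ a ∈ omegaS S hS, a ≠ 1 → ∀ b ∈ omegaS S hS, b ≠ 1 → theta a ⊓ centralizer ({b} : Set G) ≤ theta b
  gen : ∀ a ∈ omegaS S hS, a ≠ 1 → centralizer ({a} : Set G) ≤
    theta a ⊔ (centralizer ({a} : Set G) ⊓ normalizer ((S : Subgroup G) : Set G)) ⊔
      ⨆ i, perfCent (C i ⊔ zpowers a)
  comm : ∀ a ∈ omegaS S hS, a ≠ 1 → theta a = ⊥ → ∀ i j, i ≠ j →
    ∀ x ∈ perfCent (C i ⊔ zpowers a), ∀ y ∈ perfCent (C j ⊔ zpowers a), x * y = y * x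

/-- The product lemma (slice S4) at `S`. -/
def ProductAt : Prop :=
  ∀ U₁ U₂ M : Subgroup G, U₁ ⊓ U₂ = ⊥ → U₁ ⊔ U₂ = omegaS S hS →
    normalizer ((S : Subgroup G) : Set G) ≤ normalizer (U₁ : Set G) →
    normalizer ((S : Subgroup G) : Set G) ≤ normalizer (U₂ : Set G) →
    4 ≤ Nat.card U₁ → U₂ ≠ ⊥ → M ≠ ⊤ → omegaS S hS ≤ M →
    (∀ u ∈ U₁, u ≠ 1 → centralizer ({u} : Set G) ≤ M) →
    (∀ z ∈ omegaS S hS, z ≠ 1 → ∀ e ∈ U₂, z * e ∈ U₁ →
      ∀ g ∈ centralizer ({z} : Set G), g * e * g⁻¹ * e⁻¹ ∈ theta z) → False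

variable {S hS} {V C : ι → Subgroup G}

namespace Frame

variable (hF : Frame S hS V C)
include hF

theorem V_le (i : ι) : V i ≤ omegaS S hS := hF.sup_eq i ▸ le_sup_left

theorem C_le (i : ι) : C i ≤ omegaS S hS := hF.sup_eq i ▸ le_sup_right

theorem V_ne_bot (i : ι) : V i ≠ ⊥ := fun e => by
  have := hF.four_le_V i
  rw [e, Subgroup.card_bot] at this; omega

theorem C_ne_bot (i : ι) : C i ≠ ⊥ := fun e => by
  have := hF.four_le_C i
  rw [e, Subgroup.card_bot] at this; omega

theorem V_injective : Function.Injective V := fun i j e => by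
  by_contra hij
  exact hF.V_ne_bot j (le_bot_iff.1 ((le_inf le_rfl (e ▸ hF.orth i j hij)).trans (hF.disj j).le))

theorem exists_mul {i : ι} {x : G} (hx : x ∈ omegaS S hS) : ∃ v ∈ V i, ∃ c ∈ C i, x = v * c :=
  (CfsgLib.Core.mem_sup_iff_mul (H := V i) (N := C i) fun v hv =>
    centralizer_le_normalizer _ (mem_centralizer_iff.2 fun c hc =>
      sylow_comm S hS (hF.C_le i hc).1 (hF.V_le i hv).1)).1 (by rw [hF.sup_eq i]; exact hx)

theorem eq_of_inf_eq_bot {i j : ι} (hij : i ≠ j) (h : C i ⊓ C j = ⊥) : C i = V j := by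
  refine le_antisymm (fun x hx => ?_) (hF.orth j i hij.symm)
  obtain ⟨v, hv, c, hc, rfl⟩ := hF.exists_mul (i := j) (hF.C_le i hx)
  have hci : c ∈ C i := by
    have h1 := mul_mem (inv_mem (hF.orth j i hij.symm hv)) hx
    rwa [inv_mul_cancel_left] at h1
  have hc1 : c ∈ C i ⊓ C j := ⟨hci, hc⟩
  rw [h, mem_bot] at hc1
  rw [hc1, mul_one]; exact hv

theorem eq_or_eq_of_inf_eq_bot {i j : ι} (h : C i ⊓ C j = ⊥) (k : ι) : k = i ∨ k = j := by
  by_contra hk
  push Not at hk
  exact hF.V_ne_bot k (le_bot_iff.1 ((le_inf (hF.orth k i hk.1) (hF.orth k j hk.2)).trans h.le))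

theorem map_eq_self {i j : ι} (hij : i ≠ j) (h : C i ⊓ C j = ⊥) {n : G}
    (hn : n ∈ normalizer ((S : Subgroup G) : Set G)) :
    (V i).map (MulAut.conj n).toMonoidHom = V i ∧ (C i).map (MulAut.conj n).toMonoidHom = C i := by
  haveI : Fact (Nat.Prime 2) := ⟨Nat.prime_two⟩
  have fix : ∀ g ∈ normalizer ((S : Subgroup G) : Set G), ∃ k, (k = i ∨ k = j) ∧
      V k = (V i).map (MulAut.conj g).toMonoidHom ∧ C k = (C i).map (MulAut.conj g).toMonoidHom := fun g hg => by
    obtain ⟨k, hk⟩ := hF.conj g hg i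
    exact ⟨k, hF.eq_or_eq_of_inf_eq_bot h k, hk⟩
  obtain ⟨k, rfl | rfl, hk, hkC⟩ := fix n hn
  · exact ⟨hk.symm, hkC.symm⟩
  exfalso
  have hswap : (V k).map (MulAut.conj n).toMonoidHom = V i := by
    obtain ⟨l, hl, -⟩ := hF.conj n hn k
    rcases hF.eq_or_eq_of_inf_eq_bot h l with rfl | rfl
    · exact hl.symm
    · have := map_injective (f := (MulAut.conj n).toMonoidHom) (MulAut.conj n).injective (hk.symm.trans hl)
      exact absurd (hF.V_injective this) hij
  have hpow : ∀ m : ℕ, (Odd m → (V i).map (MulAut.conj (n ^ m)).toMonoidHom = V k) ∧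
      (Even m → (V i).map (MulAut.conj (n ^ m)).toMonoidHom = V i) := by
    intro m
    induction m with
    | zero =>
      refine ⟨fun e => absurd e (by simp), fun _ => ?_⟩
      convert (V i).map_id
      ext y
      simp
    | succ m ih =>
      have e : (V i).map (MulAut.conj (n ^ (m + 1))).toMonoidHom =
          ((V i).map (MulAut.conj (n ^ m)).toMonoidHom).map (MulAut.conj n).toMonoidHom := by
        rw [map_map]; congr 1; ext y; simp [pow_succ', mul_assoc]
      refine ⟨fun ho => ?_, fun he => ?_⟩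
      · rw [e, ih.2 (by rwa [Nat.odd_add_one, Nat.not_odd_iff_even] at ho), ← hk]
      · rw [e, ih.1 (by rwa [Nat.even_add_one, Nat.not_even_iff_odd] at he), hswap]
  obtain ⟨a, m, hm, hnm⟩ := Nat.exists_eq_two_pow_mul_odd (orderOf_pos n).ne'
  have hp : IsPGroup 2 (zpowers (n ^ m)) := by
    have hgo : orderOf (n ^ m) = 2 ^ a := by
      rw [orderOf_pow, hnm, Nat.gcd_eq_right (dvd_mul_left m (2 ^ a)), Nat.mul_div_cancel _ hm.pos]
    exact IsPGroup.of_card (n := a) (by rw [Nat.card_zpowers, hgo])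
  have h2 : n ^ m ∈ (S : Subgroup G) :=
    ((hp.inf_normalizer_sylow S).le ⟨mem_zpowers _, pow_mem hn m⟩).2
  have hid : (V i).map (MulAut.conj (n ^ m)).toMonoidHom = V i := by
    ext y
    constructor
    · rintro ⟨x, hx, rfl⟩
      show n ^ m * x * (n ^ m)⁻¹ ∈ V i
      rwa [sylow_comm S hS h2 (hF.V_le i hx).1, mul_inv_cancel_right]
    · intro hy
      exact ⟨y, hy, show n ^ m * y * (n ^ m)⁻¹ = y by
        rw [sylow_comm S hS h2 (hF.V_le i hy).1, mul_inv_cancel_right]⟩
  exact hij (hF.V_injective (hid.symm.trans ((hpow m).1 hm)))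

end Frame

namespace Balanced

variable (hB : Balanced S hS C)
include hB

theorem complete (h8 : 8 ≤ Nat.card (omegaS S hS)) :
    Odd (Nat.card (W S hS)) ∧ ∀ a ∈ omegaS S hS, a ≠ 1 → W S hS ⊓ centralizer ({a} : Set G) = theta a := by
  haveI : Fact (Nat.Prime 2) := ⟨Nat.prime_two⟩
  have h := Cfsg.Agent.S0217.result (p := 2) (omegaS S hS)
    (fun a ha b hb => sylow_comm S hS ha.1 hb.1)
    (fun a ha => by rw [pow_two]; exact ha.2) (by norm_num; exact h8) theta
    (fun a _ _ => theta_le a) (fun a _ _ h2 => (odd_card_theta a).not_two_dvd_nat h2)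
    (fun a ha _ b hb x hx =>
      (mem_normalizer_iff.1 (le_normalizer_theta a (sylow_le_centralizer S hS ha.1 hb.1)) x).1 hx)
    (fun a _ _ => isSolvable_theta a) hB.bal
  exact ⟨Nat.not_even_iff_odd.1 fun he => h.1 he.two_dvd, h.2⟩

theorem centralizer_le_normalizer_W (h8 : 8 ≤ Nat.card (omegaS S hS)) {B : Subgroup G}
    (hBE : B ≤ omegaS S hS) (hB4 : 4 ≤ Nat.card B) :
    centralizer (B : Set G) ≤ normalizer (W S hS : Set G) := by
  haveI : Fact (Nat.Prime 2) := ⟨Nat.prime_two⟩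
  obtain ⟨hodd, hfix⟩ := hB.complete h8
  haveI : IsMulCommutative B := ⟨⟨fun x y => Subtype.ext (sylow_comm S hS (hBE x.2).1 (hBE y.2).1)⟩⟩
  have hEN : omegaS S hS ≤ normalizer (W S hS : Set G) := fun x hx =>
    CfsgLib.AbelianSolvCent.normalizer_le_normalizer_W S hS (le_normalizer hx.1)
  have hW : W S hS ≤ ⨆ b : {b : G // b ∈ B ∧ b ≠ 1}, theta (b : G) :=
    CfsgLib.LocalEven.le_of_centralizers_le (p := 2) (A := B) (fun b hb => by rw [pow_two]; exact (hBE hb).2)
      (by norm_num; exact hB4) (hBE.trans hEN) (fun h2 => hodd.not_two_dvd_nat h2) fun b hb hb1 =>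
        (hfix b (hBE hb) hb1).le.trans (le_iSup (fun b : {b : G // b ∈ B ∧ b ≠ 1} => theta (b : G)) ⟨b, hb, hb1⟩)
  intro g hg
  have key : ∀ h ∈ centralizer (B : Set G), (W S hS).map (MulAut.conj h).toMonoidHom ≤ W S hS := by
    intro h hh
    refine (Subgroup.map_mono hW).trans ?_
    rw [Subgroup.map_iSup]
    refine iSup_le fun b => ?_
    rintro _ ⟨x, hx, rfl⟩
    have h1 : x ∈ theta (b : G) := hx
    have h2 : h ∈ normalizer (theta (b : G) : Set G) :=
      le_normalizer_theta (b : G) (mem_centralizer_singleton_iff.2 (mem_centralizer_iff.1 hh _ b.2.1).symm)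
    exact le_iSup (fun a : {a : G // a ∈ omegaS S hS ∧ a ≠ 1} => theta (a : G)) ⟨b, hBE b.2.1, b.2.2⟩
      ((mem_normalizer_iff.1 h2 x).1 h1)
  refine mem_normalizer_iff.2 fun x => ⟨fun hx => key g hg ⟨x, hx, rfl⟩, fun hx => ?_⟩
  have h := key g⁻¹ (inv_mem hg) ⟨_, hx, rfl⟩
  simpa [mul_assoc] using h

end Balanced

variable [IsSimpleGroup G] (hns : ¬ Group.IsSolvable G)

include hns in
theorem normalizer_ne_top {K : Subgroup G} (h1 : K ≠ ⊥) (h2 : K ≠ ⊤) : normalizer (K : Set G) ≠ ⊤ := fun e =>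
  ((normalizer_eq_top_iff.1 e).eq_bot_or_eq_top).elim h1 h2

include hns in
theorem centralizer_ne_top {B : Subgroup G} (hB : B ≠ ⊥) : centralizer (B : Set G) ≠ ⊤ := fun e => by
  obtain ⟨b, hb, hb1⟩ := B.bot_or_exists_ne_one.resolve_left hB
  have hc : b ∈ center G := mem_center_iff.2 fun g =>
    (mem_centralizer_iff.1 (e ▸ mem_top g) b hb).symm
  rcases (inferInstance : (center G).Normal).eq_bot_or_eq_top with h | h
  · exact hb1 (mem_bot.1 (h ▸ hc))
  · exact hns (Group.isSolvable_of_comm fun x y => mem_center_iff.1 (h ▸ mem_top y) x)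

include hns in
theorem normalizer_sylow_ne_top (S : Sylow 2 G) (hS : IsMulCommutative ↥(S : Subgroup G)) :
    normalizer ((S : Subgroup G) : Set G) ≠ ⊤ := by
  haveI : Fact (Nat.Prime 2) := ⟨Nat.prime_two⟩
  refine normalizer_ne_top hns (fun e => hns ?_) fun e => hns (Group.isSolvable_of_comm fun x y =>
    sylow_comm S hS (e ▸ mem_top x) (e ▸ mem_top y))
  refine Cfsg.Agent.S0205.result (Nat.odd_iff.2 ?_)
  have h := S.card_eq_multiplicity
  rw [e, Subgroup.card_bot] at h
  rcases Nat.mod_two_eq_zero_or_one (Nat.card G) with h0 | h0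
  · have h1 := (Nat.Prime.pow_dvd_iff_le_factorization (k := 1) Nat.prime_two Nat.card_pos.ne').1
      (by rw [pow_one]; exact Nat.dvd_of_mod_eq_zero h0)
    have h2 : 2 ^ 1 ≤ 2 ^ (Nat.card G).factorization 2 := Nat.pow_le_pow_right two_pos h1
    omega
  · exact h0

section main

variable (h8 : 8 ≤ Nat.card (omegaS S hS)) (hB : Balanced S hS C) (hF : Frame S hS V C)
include hns h8 hB hF

/-- A nontrivial completion is strongly embedded. -/
theorem solvCent_of_W_ne_bot (hW : W S hS ≠ ⊥) : SolvCent G := by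
  have hodd := (hB.complete h8).1
  refine solvCent_of_contains S hS (le_trans (by norm_num) h8)
    (normalizer_ne_top hns hW fun e => hns ?_) (CfsgLib.AbelianSolvCent.normalizer_le_normalizer_W S hS)
    fun a ha ha1 => (hB.gen a ha ha1).trans (sup_le (sup_le ?_ ?_) (iSup_le fun i => ?_))
  · rw [e, Subgroup.card_top] at hodd
    exact Cfsg.Agent.S0205.result hodd
  · exact le_trans (le_iSup (fun a : {a : G // a ∈ omegaS S hS ∧ a ≠ 1} => theta (a : G)) ⟨a, ha, ha1⟩)
      le_normalizer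
  · exact inf_le_right.trans (CfsgLib.AbelianSolvCent.normalizer_le_normalizer_W S hS)
  · exact ((perfCent_le _).trans (centralizer_le (SetLike.coe_subset_coe.2 le_sup_left))).trans
      (hB.centralizer_le_normalizer_W h8 (hF.C_le i) (hF.four_le_C i))

/-- Commuting residuals. -/
theorem solvCent_of_commute (h0 : ∀ a ∈ omegaS S hS, a ≠ 1 → theta a = ⊥)
    (hc : ∀ i j, i ≠ j → ∀ x ∈ perfCent (C i), ∀ y ∈ perfCent (C j), x * y = y * x) : SolvCent G := by
  set R := ⨆ i, perfCent (C i) with hR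
  have hle : ∀ i, perfCent (C i) ≤ R := le_iSup (fun i => perfCent (C i))
  have hgen : ∀ a ∈ omegaS S hS, a ≠ 1 → centralizer ({a} : Set G) ≤
      normalizer ((S : Subgroup G) : Set G) ⊔ R := fun a ha ha1 =>
    (hB.gen a ha ha1).trans (sup_le (sup_le (by rw [h0 a ha ha1]; exact bot_le) (inf_le_right.trans le_sup_left))
      ((iSup_mono fun i => perfCent_antitone le_sup_left).trans le_sup_right))
  by_cases hR0 : R = ⊥
  · refine solvCent_of_contains S hS (le_trans (by norm_num) h8) (normalizer_sylow_ne_top hns S hS) le_rfl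
      fun a ha ha1 => ?_
    have := hgen a ha ha1
    rwa [hR0, sup_bot_eq] at this
  have hRtop : R ≠ ⊤ := by
    intro htop
    refine hR0 (iSup_eq_bot.2 fun i => ?_)
    have hn : (perfCent (C i)).Normal := normalizer_eq_top_iff.1 (top_le_iff.1 (htop ▸ iSup_le fun j => ?_))
    · refine hn.eq_bot_or_eq_top.resolve_right fun e => ?_
      exact centralizer_ne_top hns (hF.C_ne_bot i) (top_le_iff.1 (e ▸ perfCent_le (C i)))
    · rcases eq_or_ne j i with rfl | hji
      · exact le_normalizer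
      · exact fun y hy => centralizer_le_normalizer _ (mem_centralizer_iff.2 fun x hx => hc i j hji.symm x hx y hy)
  have hNR : normalizer ((S : Subgroup G) : Set G) ≤ normalizer (R : Set G) := by
    intro n hn
    have key : ∀ m ∈ normalizer ((S : Subgroup G) : Set G), R.map (MulAut.conj m).toMonoidHom ≤ R := by
      intro m hm
      rw [hR, Subgroup.map_iSup]
      refine iSup_le fun i => ?_
      obtain ⟨j, -, hj⟩ := hF.conj m hm i
      rintro _ ⟨x, hx, rfl⟩
      exact hle j (hj ▸ conj_mem_perfCent m hx)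
    refine mem_normalizer_iff.2 fun x => ⟨fun hx => key n hn ⟨x, hx, rfl⟩, fun hx => ?_⟩
    have h := key n⁻¹ (inv_mem hn) ⟨_, hx, rfl⟩
    simpa [mul_assoc] using h
  exact solvCent_of_contains S hS (le_trans (by norm_num) h8) (normalizer_ne_top hns hR0 hRtop) hNR
    fun a ha ha1 => (hgen a ha ha1).trans (sup_le hNR le_normalizer)

/-- **The balanced case.** -/
theorem solvCent_of_balanced (hP : ProductAt S hS) : SolvCent G := by
  classical
  by_cases hW : W S hS ≠ ⊥
  · exact solvCent_of_W_ne_bot hns h8 hB hF hW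
  have h0 : ∀ a ∈ omegaS S hS, a ≠ 1 → theta a = ⊥ := fun a ha ha1 => le_bot_iff.1
    ((le_iSup (fun a : {a : G // a ∈ omegaS S hS ∧ a ≠ 1} => theta (a : G)) ⟨a, ha, ha1⟩).trans
      (le_of_eq (not_not.1 hW)))
  by_cases hmeet : ∀ i j, i ≠ j → C i ⊓ C j ≠ ⊥
  · refine solvCent_of_commute hns h8 hB hF h0 fun i j hij x hx y hy => ?_
    obtain ⟨u, hu, hu1⟩ := (C i ⊓ C j).bot_or_exists_ne_one.resolve_left (hmeet i j hij)
    have e : ∀ {l}, u ∈ C l → C l ⊔ zpowers u = C l := fun h => sup_eq_left.2 (zpowers_le.2 h)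
    exact hB.comm u (hF.C_le i hu.1) hu1 (h0 u (hF.C_le i hu.1) hu1) i j hij x (by rwa [e hu.1]) y
      (by rwa [e hu.2])
  push Not at hmeet
  obtain ⟨i, j, hij, hmeet⟩ := hmeet
  by_cases hall : ∀ l, perfCent (C l) = ⊥
  · refine solvCent_of_commute hns h8 hB hF h0 fun a b _ x hx y _ => ?_
    rw [hall a, mem_bot] at hx
    rw [hx, one_mul, mul_one]
  -- two blocks, one with a nontrivial residual
  push Not at hall
  obtain ⟨l, hl⟩ := hall
  obtain ⟨i, j, hij, hmeet, hKi⟩ : ∃ i j, i ≠ j ∧ C i ⊓ C j = ⊥ ∧ perfCent (C i) ≠ ⊥ := by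
    rcases hF.eq_or_eq_of_inf_eq_bot hmeet l with rfl | rfl
    · exact ⟨l, j, hij, hmeet, hl⟩
    · exact ⟨l, i, hij.symm, inf_comm (C i) (C l) ▸ hmeet, hl⟩
  have hCi := hF.eq_of_inf_eq_bot hij hmeet
  have hCj := hF.eq_of_inf_eq_bot hij.symm (inf_comm (C i) (C j) ▸ hmeet)
  have hnV : normalizer ((S : Subgroup G) : Set G) ≤ normalizer (V i : Set G) ∧
      normalizer ((S : Subgroup G) : Set G) ≤ normalizer (C i : Set G) := by
    constructor <;> intro n hn <;> obtain ⟨h1, h2⟩ := hF.map_eq_self hij hmeet hn <;>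
      obtain ⟨h3, h4⟩ := hF.map_eq_self hij hmeet (inv_mem hn) <;> refine mem_normalizer_iff.2 fun x => ⟨?_, ?_⟩
    · exact fun hx => h1 ▸ ⟨x, hx, rfl⟩
    · intro hx
      have : n⁻¹ * (n * x * n⁻¹) * n⁻¹⁻¹ ∈ V i := h3 ▸ ⟨_, hx, rfl⟩
      simpa [mul_assoc] using this
    · exact fun hx => h2 ▸ ⟨x, hx, rfl⟩
    · intro hx
      have : n⁻¹ * (n * x * n⁻¹) * n⁻¹⁻¹ ∈ C i := h4 ▸ ⟨_, hx, rfl⟩
      simpa [mul_assoc] using this
  have hNK : normalizer ((S : Subgroup G) : Set G) ≤ normalizer (perfCent (C i) : Set G) := fun n hn =>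
    mem_normalizer_perfCent (hF.map_eq_self hij hmeet hn).2
  have hKtop : perfCent (C i) ≠ ⊤ := fun e =>
    centralizer_ne_top hns (hF.C_ne_bot i) (top_le_iff.1 (e ▸ perfCent_le (C i)))
  refine (hP (C i) (V i) (normalizer (perfCent (C i) : Set G)) (by rw [inf_comm]; exact hF.disj i)
    (by rw [sup_comm]; exact hF.sup_eq i) hnV.2 hnV.1 (hF.four_le_C i) (hF.V_ne_bot i)
    (normalizer_ne_top hns hKi hKtop) (fun x hx => hNK (le_normalizer hx.1)) ?_ ?_).elim
  · intro u hu hu1
    have huE := hF.C_le i hu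
    refine (hB.gen u huE hu1).trans (sup_le (sup_le (by rw [h0 u huE hu1]; exact bot_le)
      (inf_le_right.trans hNK)) (iSup_le fun l => ?_))
    have e : C i ⊔ zpowers u = C i := sup_eq_left.2 (zpowers_le.2 hu)
    rcases eq_or_ne l i with rfl | hli
    · rw [e]; exact le_normalizer
    · intro y hy
      refine centralizer_le_normalizer _ (mem_centralizer_iff.2 fun x hx => ?_)
      exact hB.comm u huE hu1 (h0 u huE hu1) i l hli.symm x (by rw [e]; exact hx) y hy
  · intro z hz hz1 e he hze g hg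
    have hc : centralizer ({z} : Set G) ≤ centralizer ({e} : Set G) := by
      refine (hB.gen z hz hz1).trans (sup_le (sup_le (by rw [h0 z hz hz1]; exact bot_le) ?_) (iSup_le fun l => ?_))
      · rintro n ⟨hnz, hn⟩
        rw [mem_centralizer_singleton_iff]
        have hz' := mem_centralizer_singleton_iff.1 hnz
        have h1 : n * (z * e) * n⁻¹ ∈ C i := (mem_normalizer_iff.1 (hnV.2 hn) _).1 hze
        rw [show n * (z * e) * n⁻¹ = (n * z) * (e * n⁻¹) by group, hz'] at h1
        have h2 : n * e * n⁻¹ ∈ V i := (mem_normalizer_iff.1 (hnV.1 hn) _).1 he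
        have h3 : e⁻¹ * (n * e * n⁻¹) ∈ V i ⊓ C i := ⟨(V i).mul_mem ((V i).inv_mem he) h2, by
          have h4 := (C i).mul_mem ((C i).inv_mem hze) h1
          rw [show (z * e)⁻¹ * (z * n * (e * n⁻¹)) = e⁻¹ * (n * e * n⁻¹) by group] at h4
          exact h4⟩
        rw [hF.disj i, mem_bot, inv_mul_eq_one] at h3
        exact (eq_mul_inv_iff_mul_eq.1 h3).symm
      · intro x hx
        have hx' := mem_centralizer_iff.1 (perfCent_le _ hx)
        rw [mem_centralizer_singleton_iff]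
        rcases hF.eq_or_eq_of_inf_eq_bot hmeet l with rfl | rfl
        · have h1 := hx' z (mem_sup_right (mem_zpowers z))
          have h2 := hx' (z * e) (mem_sup_left hze)
          have h3 : z * (e * x) = z * (x * e) := by
            rw [← mul_assoc, h2, ← mul_assoc, ← h1, mul_assoc]
          exact (mul_left_cancel h3).symm
        · exact (hx' e (mem_sup_left (by rw [hCj]; exact he))).symm
    rw [mem_centralizer_singleton_iff.1 (hc hg), mul_inv_cancel_right, mul_inv_cancel]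
    exact one_mem _

end main

end CfsgLib.Walter
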