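import Cfsg.Agent.Lib.AbelianSolvCent.Embedded
import Cfsg.Agent.Lib.Classical.NoncyclicCenter
import Cfsg.Agent.Lib.LocalEven.Generation
import Cfsg.Agent.Lib.Signalizer.Involutions

/-!
Owner: helper4. Walter blueprint, the product lemma: `Ω₁(S)` is not the product of two `N(S)`-invariant subgroups
`U₁`, `U₂` with all centralisers of involutions of `U₁` in one proper subgroup, if the centralisers of involutions
act trivially on `U₂` modulo their odd cores as in `hfuse`.
-/

set_option autoImplicit false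
set_option linter.all false

namespace CfsgLib.Walter

open Subgroup
open CfsgLib.AbelianSolvCent (omegaS sylow_comm sylow_le_centralizer)
open CfsgLib.Classical.TwoType (oC le_normalizer_oC odd_oC oC_le)
open CfsgLib.Signalizer (orderOf_eq_two_of involution_sq involution_inv)

universe u

variable {G : Type u} [Group G] [Finite G]

/-- An involution of a subgroup containing a Sylow `2`-subgroup moves into it inside the subgroup. -/
theorem exists_conj_mem_of_le (S : Sylow 2 G) {H : Subgroup G} (hSH : (S : Subgroup G) ≤ H) {x : G}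
    (hx : x ∈ H) (hx2 : x * x = 1) : ∃ g ∈ H, g * x * g⁻¹ ∈ (S : Subgroup G) := by
  haveI : Fact (Nat.Prime 2) := ⟨Nat.prime_two⟩
  have hp : IsPGroup 2 (zpowers (⟨x, hx⟩ : H)) := fun y => by
    obtain ⟨k, hk⟩ := mem_zpowers_iff.1 y.2
    refine ⟨1, Subtype.ext ?_⟩
    rw [SubgroupClass.coe_pow, ← hk, pow_one, ← zpow_natCast, ← zpow_mul, mul_comm, zpow_mul, zpow_natCast,
      show (⟨x, hx⟩ : H) ^ 2 = 1 from Subtype.ext (by rw [SubgroupClass.coe_pow, sq]; exact hx2), one_zpow]
    rfl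
  obtain ⟨P, hP⟩ := hp.exists_le_sylow
  obtain ⟨g, hg⟩ := MulAction.exists_smul_eq H P (S.subtype hSH)
  refine ⟨g, g.2, ?_⟩
  have hmem : g * ⟨x, hx⟩ * g⁻¹ ∈ ((S.subtype hSH : Sylow 2 H) : Subgroup H) := by
    rw [← hg, Sylow.coe_subgroup_smul]
    exact ⟨_, hP (mem_zpowers _), rfl⟩
  exact hmem

/-- The product lemma. -/
theorem product_lemma [IsSimpleGroup G] (hG : ¬ IsMulCommutative G) (S : Sylow 2 G)
    (hS : IsMulCommutative ↥(S : Subgroup G)) {U₁ U₂ M : Subgroup G}
    (h1 : U₁ ≤ omegaS S hS) (h2 : U₂ ≤ omegaS S hS) (hinf : U₁ ⊓ U₂ = ⊥)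
    (hn1 : normalizer ((S : Subgroup G) : Set G) ≤ normalizer (U₁ : Set G))
    (hn2 : normalizer ((S : Subgroup G) : Set G) ≤ normalizer (U₂ : Set G))
    (h4 : 4 ≤ Nat.card U₁) (hne : U₂ ≠ ⊥) (hM : M ≠ ⊤) (hEM : omegaS S hS ≤ M)
    (hC : ∀ u ∈ U₁, u ≠ 1 → centralizer ({u} : Set G) ≤ M)
    (hfuse : ∀ z ∈ omegaS S hS, z ≠ 1 → ∀ e ∈ U₂, z * e ∈ U₁ →
      ∀ g ∈ centralizer ({z} : Set G), g * e * g⁻¹ * e⁻¹ ∈ oC z) : False := by
  classical
  haveI : Fact (Nat.Prime 2) := ⟨Nat.prime_two⟩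
  have hcomm : ∀ a ∈ omegaS S hS, ∀ b ∈ omegaS S hS, a * b = b * a := fun a ha b hb =>
    sylow_comm S hS ha.1 hb.1
  have hord : ∀ a ∈ omegaS S hS, a ≠ 1 → orderOf a = 2 := fun a ha ha1 => orderOf_eq_two_of ha1 ha.2
  obtain ⟨v, hv, hv1⟩ := U₂.bot_or_exists_ne_one.resolve_left hne
  obtain ⟨u, hu, hu1⟩ := U₁.bot_or_exists_ne_one.resolve_left fun h => by
    rw [h, card_bot] at h4; omega
  have hvo := hord v (h2 hv) hv1
  have huo := hord u (h1 hu) hu1
  have hdis : ∀ a, a ∈ U₁ → a ∈ U₂ → a = 1 := fun a ha hb =>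
    mem_bot.1 (hinf ▸ (⟨ha, hb⟩ : a ∈ U₁ ⊓ U₂))
  -- fusion in `S`
  have hfus : ∀ (U : Subgroup G), U ≤ omegaS S hS →
      normalizer ((S : Subgroup G) : Set G) ≤ normalizer (U : Set G) →
      ∀ a ∈ U, ∀ g : G, g * a * g⁻¹ ∈ (S : Subgroup G) → g * a * g⁻¹ ∈ U := by
    intro U hU hn a ha g hg
    haveI := hS
    obtain ⟨m, hm, hme⟩ := Sylow.conj_eq_normalizer_conj_of_mem S a g⁻¹ (hU ha).1 (by rwa [inv_inv])
    rw [inv_inv] at hme
    rw [hme]
    have := (mem_normalizer_iff.1 ((normalizer (U : Set G)).inv_mem (hn hm)) a).1 ha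
    rwa [inv_inv] at this
  -- every conjugate of `v` lies in `M`
  have key : ∀ g : G, g * v * g⁻¹ ∈ M := by
    intro g
    set x0 := g * v * g⁻¹ with hx0def
    have hnc : ∀ y : G, (∃ h : G, y = h * v * h⁻¹) → ¬ ∃ d : G, d * y * d⁻¹ = u := by
      rintro y ⟨h, rfl⟩ ⟨d, hd⟩
      have e : (d * h) * v * (d * h)⁻¹ = u := by rw [← hd]; group
      exact hu1 (hdis u hu (e ▸ hfus U₂ h2 hn2 v hv (d * h) (e.symm ▸ (h1 hu).1)))
    have hx0o : orderOf x0 = 2 := (CfsgLib.Signalizer.orderOf_conj g v).trans hvo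
    -- move the central involution into `S`
    have heven0 : Even (orderOf (x0 * u)) := by
      rw [← Nat.not_odd_iff_even]
      intro ho
      obtain ⟨d, -, hd⟩ := CfsgLib.Signalizer.exists_conj_of_odd hx0o huo ho
      exact hnc x0 ⟨g, rfl⟩ ⟨d, hd⟩
    obtain ⟨hz0o, hz0x, hz0u⟩ := CfsgLib.Signalizer.central_involution hx0o huo heven0
    obtain ⟨c, hcC, hcS⟩ := exists_conj_mem_of_le S (sylow_le_centralizer S hS (h1 hu).1)
      (x := (x0 * u) ^ (orderOf (x0 * u) / 2)) (mem_centralizer_singleton_iff.2 hz0u.eq) (involution_sq hz0o)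
    have hcu : c * u * c⁻¹ = u := by
      rw [mem_centralizer_singleton_iff.1 hcC, mul_inv_cancel_right]
    have hcM : c ∈ M := hC u hu hu1 hcC
    suffices hxM : c * x0 * c⁻¹ ∈ M by
      have := mul_mem (mul_mem (inv_mem hcM) hxM) hcM
      rwa [show c⁻¹ * (c * x0 * c⁻¹) * c = x0 by group] at this
    set x := c * x0 * c⁻¹ with hxdef
    have hxv : x = (c * g) * v * (c * g)⁻¹ := by rw [hxdef, hx0def]; group
    have hxo : orderOf x = 2 := (CfsgLib.Signalizer.orderOf_conj c x0).trans hx0o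
    have hxu : x * u = c * (x0 * u) * c⁻¹ := by
      calc x * u = x * (c * u * c⁻¹) := by rw [hcu]
        _ = c * (x0 * u) * c⁻¹ := by rw [hxdef]; group
    have hoxu : orderOf (x * u) = orderOf (x0 * u) := by
      rw [hxu]; exact CfsgLib.Signalizer.orderOf_conj c _
    obtain ⟨hzo, hzx, hzu⟩ := CfsgLib.Signalizer.central_involution hxo huo (hoxu ▸ heven0)
    rw [hoxu] at hzo hzx hzu
    set m := orderOf (x0 * u) / 2 with hm
    set z := (x * u) ^ m with hzdef
    have hzS : z ∈ (S : Subgroup G) := by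
      rw [hzdef, hxu, conj_pow]
      exact hcS
    have hzE : z ∈ omegaS S hS := ⟨hzS, involution_sq hzo⟩
    have hz1 : z ≠ 1 := fun e => by rw [e, orderOf_one] at hzo; omega
    have hzC : ∀ d ∈ closure ({x, u} : Set G), d ∈ centralizer ({z} : Set G) := fun d hd =>
      (closure_le (centralizer ({z} : Set G))).2 (by
        rintro y (rfl | rfl)
        · exact mem_centralizer_singleton_iff.2 hzx.eq.symm
        · exact mem_centralizer_singleton_iff.2 hzu.eq.symm) hd
    rcases Nat.even_or_odd m with ⟨j, hj⟩ | ⟨j, hj⟩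
    · exfalso
      -- both `u` and `x` are conjugate to their multiples by `z`
      obtain ⟨d, -, hd⟩ := CfsgLib.Signalizer.exists_conj_pair_zpow hxo huo (j : ℤ)
      have e1 : (x * u) ^ (2 * (j : ℤ)) = z := by
        rw [hzdef, ← zpow_natCast (x * u) m]; congr 1; omega
      rw [e1] at hd
      obtain ⟨d', -, hd'⟩ := CfsgLib.Signalizer.exists_conj_pair_zpow huo hxo (j : ℤ)
      have e2 : (u * x) ^ (2 * (j : ℤ)) = z := by
        have hi : u * x = (x * u)⁻¹ := by rw [mul_inv_rev, involution_inv hxo, involution_inv huo]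
        rw [hi, inv_zpow, e1, involution_inv hzo]
      rw [e2] at hd'
      have hzu1 : z * u ∈ U₁ := by
        have := hfus U₁ h1 hn1 u hu d' (hd'.symm ▸ ((omegaS S hS).mul_mem hzE (h1 hu)).1)
        rwa [hd'] at this
      have hz1mem : z ∈ U₁ := by
        have := mul_mem hzu1 hu
        rwa [mul_assoc, involution_sq huo, mul_one] at this
      obtain ⟨b, hb, hbS⟩ := exists_conj_mem_of_le S (sylow_le_centralizer S hS hzS)
        (x := x) (mem_centralizer_singleton_iff.2 hzx.eq.symm) (involution_sq hxo)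
      have hbz : b * (z * x) * b⁻¹ = z * (b * x * b⁻¹) := by
        calc b * (z * x) * b⁻¹ = (b * z) * x * b⁻¹ := by group
          _ = (z * b) * x * b⁻¹ := by rw [mem_centralizer_singleton_iff.1 hb]
          _ = _ := by group
      have he2 : b * x * b⁻¹ ∈ U₂ := by
        have e : (b * (c * g)) * v * (b * (c * g))⁻¹ = b * x * b⁻¹ := by rw [hxv]; group
        exact e ▸ hfus U₂ h2 hn2 v hv _ (e.symm ▸ hbS)
      have hze2 : z * (b * x * b⁻¹) ∈ U₂ := by
        have e : (b * (d * (c * g))) * v * (b * (d * (c * g)))⁻¹ = z * (b * x * b⁻¹) := by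
          rw [← hbz, ← hd, hxv]; group
        exact e ▸ hfus U₂ h2 hn2 v hv _ (e.symm ▸ mul_mem hzS hbS)
      refine hz1 (hdis z hz1mem ?_)
      have := mul_mem hze2 (inv_mem he2)
      rwa [mul_inv_cancel_right] at this
    · -- `x` is conjugate to `z u` in `C(z)`
      obtain ⟨d, hdc, hd⟩ := CfsgLib.Signalizer.exists_conj_pair_zpow hxo huo (j : ℤ)
      have e1 : (x * u) ^ (2 * (j : ℤ)) * x = z * u := by
        calc (x * u) ^ (2 * (j : ℤ)) * x = (x * u) ^ ((m : ℤ) + -1) * x := by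
              rw [show (m : ℤ) + -1 = 2 * (j : ℤ) by omega]
          _ = z * ((x * u) ^ (-1 : ℤ) * x) := by rw [hzdef, zpow_add, zpow_natCast, mul_assoc]
          _ = z * u := congrArg (z * ·) (CfsgLib.Signalizer.right_eq hxo huo).symm
      rw [e1] at hd
      have heS : z * u ∈ (S : Subgroup G) := mul_mem hzS (h1 hu).1
      have he2 : z * u ∈ U₂ := by
        have e : (d * (c * g)) * v * (d * (c * g))⁻¹ = z * u := by rw [← hd, hxv]; group
        exact e ▸ hfus U₂ h2 hn2 v hv _ (e.symm ▸ heS)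
      have hze : z * (z * u) = u := by rw [← mul_assoc, involution_sq hzo, one_mul]
      have hmem := hfuse z hzE hz1 (z * u) he2 (hze.symm ▸ hu) d⁻¹ (inv_mem (hzC d hdc))
      have hOM : oC z ≤ M := by
        haveI : IsMulCommutative U₁ := ⟨⟨fun a b => Subtype.ext (hcomm a (h1 a.2) b (h1 b.2))⟩⟩
        refine CfsgLib.LocalEven.le_of_centralizers_le (p := 2) (A := U₁)
          (fun a ha => by rw [sq]; exact (h1 ha).2) h4
          (fun a ha => le_normalizer_oC z (sylow_le_centralizer S hS hzS (h1 ha).1))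
          (odd_oC z).not_two_dvd_nat fun a ha ha1 => inf_le_right.trans (hC a ha ha1)
      have := mul_mem (hOM hmem) (hEM (h2 he2))
      rwa [show d⁻¹ * (z * u) * d⁻¹⁻¹ * (z * u)⁻¹ * (z * u) = d⁻¹ * (z * u) * d by group, ← hd,
        show d⁻¹ * (d * x * d⁻¹) * d = x by group] at this
  -- a proper subgroup contains no class
  have hN : normalClosure ({v} : Set G) ≤ M := by
    refine (closure_le M).2 fun y hy => ?_
    obtain ⟨a, ha, hay⟩ := Group.mem_conjugatesOfSet_iff.1 hy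
    rw [Set.mem_singleton_iff] at ha
    subst ha
    obtain ⟨g, rfl⟩ := isConj_iff.1 hay
    exact key g
  rcases (normalClosure_normal (s := ({v} : Set G))).eq_bot_or_eq_top with h | h
  · exact hv1 (mem_bot.1 (h ▸ subset_normalClosure (Set.mem_singleton v)))
  · exact hM (top_le_iff.1 (h ▸ hN))

end CfsgLib.Walter
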