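import Cfsg.Agent.Lib.Recog.Walter.Balanced
import Cfsg.Agent.Lib.Recog.Walter.ProductLemma

/-!
Owner: helper4. The product lemma in the form of `ProductAt`.
-/

set_option autoImplicit false

namespace CfsgLib.Walter

open Subgroup

universe u

variable {G : Type u} [Group G] [Finite G]

theorem productAt [IsSimpleGroup G] (hG : ¬ IsMulCommutative G) (S : Sylow 2 G)
    (hS : IsMulCommutative ↥(S : Subgroup G)) : ProductAt S hS :=
  fun U₁ U₂ _ hinf hsup hn1 hn2 h4 hne hM hEM hC hfuse =>
    product_lemma hG S hS (hsup ▸ le_sup_left) (hsup ▸ le_sup_right) hinf hn1 hn2 h4 hne hM hEM hC hfuse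

end CfsgLib.Walter
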