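import Cfsg.Agent.Lib.Recog.Walter.Balanced
import Cfsg.Agent.Lib.Recog.Walter.LocBal
import Cfsg.Agent.Lib.Recog.Walter.ProductLemmaAt
import Cfsg.Agent.Lib.Recog.Walter.Sections.Balance

/-!
Owner: helper15. Walter, S9: glue for the balanced case.

* `AllLocBal`: every component of every `C(a)/O(C(a))` is locally balanced.
* `solvCent_of_allLocBal`: then every involution centralizer is solvable, given a frame.
-/

set_option autoImplicit false
set_option linter.style.haveILetI false
set_option linter.unusedSectionVars false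

namespace CfsgLib.Walter

open Subgroup
open CfsgLib.AbelianSolvCent (AbSylow SolvCent omegaS)
open CfsgLib.InvCent (theta)

universe u v

variable {G : Type u} [Group G] [Finite G] [IsSimpleGroup G] (S : Sylow 2 G)
  (hS : IsMulCommutative ↥(S : Subgroup G))

/-- Every component of every `C(a)/O(C(a))`, `a ∈ Ω₁(S)#`, is locally balanced. -/
def AllLocBal : Prop :=
  ∀ b ∈ omegaS S hS, b ≠ 1 →
    ∀ K : Subgroup (↥(centralizer ({b} : Set G)) ⧸ Cfsg.oddCore ↥(centralizer ({b} : Set G))),
      Cfsg.IsComponent K → LocBal ↥K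

variable {S hS} {ι : Type v} {V C : ι → Subgroup G}

/-- **The case of locally balanced components.** -/
theorem solvCent_of_allLocBal (hG : ¬ IsMulCommutative G) (hL : AllLocBal S hS)
    (h8 : 8 ≤ Nat.card (omegaS S hS)) (hF : Frame S hS V C)
    (hgen : ∀ a ∈ omegaS S hS, a ≠ 1 → centralizer ({a} : Set G) ≤
      theta a ⊔ (centralizer ({a} : Set G) ⊓ normalizer ((S : Subgroup G) : Set G)) ⊔
        ⨆ i, perfCent (C i ⊔ zpowers a))
    (hcomm : ∀ a ∈ omegaS S hS, a ≠ 1 → theta a = ⊥ → ∀ i j, i ≠ j →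
      ∀ x ∈ perfCent (C i ⊔ zpowers a), ∀ y ∈ perfCent (C j ⊔ zpowers a), x * y = y * x) : SolvCent G :=
  solvCent_of_balanced (fun h => hG ⟨⟨fun a b => IsSimpleGroup.comm_iff_isSolvable.mpr h a b⟩⟩) h8
    ⟨fun _ ha ha1 b hb hb1 => balance S hS ha ha1 hb (hL b hb hb1), hgen, hcomm⟩ hF (productAt hG S hS)

end CfsgLib.Walter
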