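import Mathlib

/-!
Owner: helper10. Walter, slice S3: blocks.

An elementary abelian 2-group `M` of order at least sixteen with a group `A` of odd order without nontrivial
fixed points and an invariant family of pairs `(V, C)`, `M = V × C`, the pointwise stabiliser of `C` transitive
on `V - {1}`, two pairs whose second members meet equal or orthogonal.  Then any two pairs are equal or
orthogonal (`Data.orth`).
-/

set_option autoImplicit false
set_option linter.unusedSectionVars false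
set_option linter.style.haveILetI false

open scoped Pointwise

namespace CfsgLib.Walter.Blocks

open Subgroup

variable {A M : Type*} [Group A] [CommGroup M] [MulDistribMulAction A M]

/-- A family of pairs. -/
structure Data (P : Subgroup M → Subgroup M → Prop) : Prop where
  inv : ∀ (g : A) V C, P V C → P (g • V) (g • C)
  compl : ∀ V C, P V C → IsCompl V C
  four : ∀ V C, P V C → 4 ≤ Nat.card V
  C_ne : ∀ V C, P V C → C ≠ ⊥
  trans : ∀ V C, P V C → ∀ v ∈ V, ∀ w ∈ V, v ≠ 1 → w ≠ 1 → ∃ t : A, t • v = w ∧ ∀ c ∈ C, t • c = c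
  linked : ∀ V C V' C', P V C → P V' C' → C ⊓ C' ≠ ⊥ → V' = V ∧ C' = C ∨ V' ≤ C ∧ V ≤ C'

/-- Common elements of subgroups with trivial intersection are trivial. -/
theorem eq_one_of_inf {H K : Subgroup M} (h : H ⊓ K = ⊥) {x : M} (hx : x ∈ H) (hy : x ∈ K) : x = 1 := by
  have h1 : x ∈ H ⊓ K := Subgroup.mem_inf.mpr ⟨hx, hy⟩
  rwa [h, Subgroup.mem_bot] at h1

/-- A parity count. -/
theorem parity_absurd {a b c a' b' c' : Prop} (k₁ : c ↔ ¬ (a ↔ b)) (k₂ : c' ↔ ¬ (a' ↔ b'))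
    (k₃ : (c ↔ c') ↔ ¬ ((a ↔ a') ↔ (b ↔ b'))) : False := by
  by_cases a <;> by_cases b <;> by_cases a' <;> by_cases b' <;> simp_all

section orbits

variable [Finite A] (hA : Odd (Nat.card A))
include hA

/-- A group of odd order exchanges no two points. -/
theorem no_swap {X : Type*} [MulAction A X] {a : A} {x y : X} (h1 : a • x = y) (h2 : a • y = x) : x = y := by
  obtain ⟨k, hk⟩ := hA.of_dvd_nat (orderOf_dvd_natCard a)
  have h3 : (a ^ 2) ^ k • x = x :=
    Subgroup.pow_mem (MulAction.stabilizer A x) (show a ^ 2 • x = x by rw [pow_two, mul_smul, h1, h2]) k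
  calc x = a ^ orderOf a • x := by rw [pow_orderOf_eq_one, one_smul]
    _ = a • (a ^ 2) ^ k • x := by rw [hk, pow_succ', pow_mul, mul_smul]
    _ = y := by rw [h3, h1]

/-- An invariant relation whose neighbourhoods are orbits of point stabilisers is antisymmetric on orbits. -/
theorem antisymm_of_trans {X : Type*} [MulAction A X] {R : X → X → Prop}
    (hinv : ∀ (g : A) x y, R x y → R (g • x) (g • y))
    (htr : ∀ x y z, R x y → R x z → ∃ t : A, t • x = x ∧ t • y = z) {x y : X} {g : A} (hg : g • x = y)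
    (hxy : R x y) (hyx : R y x) : x = y := by
  have h := hinv g⁻¹ y x hyx
  rw [show g⁻¹ • y = x by rw [← hg, inv_smul_smul]] at h
  obtain ⟨t, ht1, ht2⟩ := htr x y _ hxy h
  exact no_swap hA (a := g * t) (by rw [mul_smul, ht1, hg]) (by rw [mul_smul, ht2, smul_inv_smul])

end orbits

namespace Data

variable {P : Subgroup M → Subgroup M → Prop} (D : Data (A := A) P)
include D

theorem disj {V C : Subgroup M} (h : P V C) : V ⊓ C = ⊥ := (D.compl V C h).inf_eq_bot

theorem V_ne {V C : Subgroup M} (h : P V C) : V ≠ ⊥ := fun e => by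
  have := D.four V C h
  rw [e, Subgroup.card_bot] at this; omega

theorem exists_parts {V C : Subgroup M} (h : P V C) (x : M) : ∃ v ∈ V, ∃ c ∈ C, v * c = x :=
  Subgroup.mem_sup.mp ((D.compl V C h).sup_eq_top.symm ▸ Subgroup.mem_top x)

theorem eq_one {V C : Subgroup M} (h : P V C) {x : M} (hV : x ∈ V) (hC : x ∈ C) : x = 1 :=
  eq_one_of_inf (D.disj h) hV hC

theorem parts_unique {V C : Subgroup M} (h : P V C) {v v' c c' : M} (hv : v ∈ V) (hv' : v' ∈ V) (hc : c ∈ C)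
    (hc' : c' ∈ C) (e : v * c = v' * c') : v = v' ∧ c = c' := by
  have := Subgroup.mul_injective_of_disjoint (disjoint_iff.mpr (D.disj h))
    (a₁ := (⟨v, hv⟩, ⟨c, hc⟩)) (a₂ := (⟨v', hv'⟩, ⟨c', hc'⟩)) e
  simpa [Prod.ext_iff] using this

theorem card_mul {V C : Subgroup M} (h : P V C) : Nat.card V * Nat.card C = Nat.card M := by
  rw [← Nat.card_prod]
  exact Nat.card_congr (Equiv.ofBijective (fun p : V × C => (p.1 : M) * (p.2 : M))
    ⟨Subgroup.mul_injective_of_disjoint (disjoint_iff.mpr (D.disj h)), fun x => by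
      obtain ⟨v, hv, c, hc, e⟩ := D.exists_parts h x
      exact ⟨(⟨v, hv⟩, ⟨c, hc⟩), e⟩⟩)

theorem V_unique {V V' C : Subgroup M} (h : P V C) (h' : P V' C) : V' = V := by
  rcases D.linked V C V' C h h' (by rw [inf_idem]; exact D.C_ne V C h) with ⟨e, -⟩ | ⟨-, e⟩
  · exact e
  · exact absurd (le_bot_iff.mp ((le_inf le_rfl e).trans (D.disj h).le)) (D.V_ne h)

theorem smul_V {V C : Subgroup M} (h : P V C) {g : A} (hg : g • C = C) : g • V = V :=
  D.V_unique h (by simpa [hg] using D.inv g V C h)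

omit D in
theorem smul_eq_of_fix {C : Subgroup M} {t : A} (ht : ∀ c ∈ C, t • c = c) : t • C = C := by
  ext x
  constructor
  · intro hx
    obtain ⟨c, hc, rfl⟩ := (Subgroup.mem_smul_pointwise_iff_exists _ _ _).mp hx
    rwa [ht c hc]
  · intro hx
    have := Subgroup.smul_mem_pointwise_smul x t C hx
    rwa [ht x hx] at this

/-- A subgroup invariant under the stabiliser of `C` that meets `V` contains `V`. -/
theorem V_le {V C H : Subgroup M} (h : P V C) (hH : ∀ t : A, (∀ c ∈ C, t • c = c) → t • H = H) {v : M}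
    (hv : v ∈ V) (hv1 : v ≠ 1) (hvH : v ∈ H) : V ≤ H := fun w hw => by
  by_cases hw1 : w = 1
  · rw [hw1]; exact one_mem _
  obtain ⟨t, ht, hfix⟩ := D.trans V C h v hv w hw hv1 hw1
  rw [← ht, ← hH t hfix]
  exact Subgroup.smul_mem_pointwise_smul v t H hvH

variable [Finite A] [Finite M] (hA : Odd (Nat.card A)) (hsq : ∀ x : M, x * x = 1)

omit D in
theorem inf_comm_ne {C C' : Subgroup M} (h : C ⊓ C' ≠ ⊥) : C' ⊓ C ≠ ⊥ := inf_comm C C' ▸ h

/-- Two pairs meeting a third one are equal or meet. -/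
theorem meet_trans {V C V' C' V'' C'' : Subgroup M} (h : P V C) (h' : P V' C') (h'' : P V'' C'')
    (m' : C ⊓ C' ≠ ⊥) (m'' : C ⊓ C'' ≠ ⊥) : C' ⊓ C'' ≠ ⊥ := by
  rcases D.linked V C V' C' h h' m' with ⟨-, e⟩ | ⟨-, h1⟩
  · rw [e]; exact m''
  rcases D.linked V C V'' C'' h h'' m'' with ⟨-, e⟩ | ⟨-, h2⟩
  · rw [e]; exact inf_comm_ne m'
  intro e
  exact D.V_ne h (le_bot_iff.mp ((le_inf h1 h2).trans e.le))

omit D in
/-- The members of the orbit of `C`. -/
def Mem (P : Subgroup M → Subgroup M → Prop) (C E : Subgroup M) : Prop :=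
  (∃ g : A, g • C = E) ∧ ∃ V, P V E

/-- The pairs meeting no other one. -/
def Single (P : Subgroup M → Subgroup M → Prop) (C : Subgroup M) : Prop :=
  ∀ V' C', P V' C' → C ⊓ C' ≠ ⊥ → C' = C

omit D in
/-- `E'` is not inside the first member belonging to `E`. -/
def Out (P : Subgroup M → Subgroup M → Prop) (C E E' : Subgroup M) : Prop :=
  Mem (A := A) P C E ∧ Mem (A := A) P C E' ∧ E ≠ E' ∧ ¬ ∃ V, P V E ∧ E' ≤ V

section single

variable {V C : Subgroup M} (hP : P V C) (hs : Single P C)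

theorem mem_smul (g : A) {E : Subgroup M} (hE : Mem (A := A) P C E) : Mem (A := A) P C (g • E) := by
  obtain ⟨⟨k, hk⟩, W, hW⟩ := hE
  exact ⟨⟨g * k, by rw [mul_smul, hk]⟩, _, D.inv g W E hW⟩

include hs in
theorem mem_ti {E E' : Subgroup M} (hE : Mem (A := A) P C E) (hE' : Mem (A := A) P C E')
    {x : M} (hx : x ∈ E) (hx' : x ∈ E') (hx1 : x ≠ 1) : E = E' := by
  obtain ⟨⟨g, hg⟩, -⟩ := hE
  obtain ⟨⟨k, hk⟩, W, hW⟩ := hE'
  have h1 : g⁻¹ • x ∈ C := by
    rw [← hg] at hx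
    exact Subgroup.mem_pointwise_smul_iff_inv_smul_mem.mp hx
  have h2 : g⁻¹ • x ∈ g⁻¹ • E' := Subgroup.smul_mem_pointwise_smul x g⁻¹ E' hx'
  have h3 := hs _ _ (D.inv g⁻¹ W E' hW) fun e =>
    hx1 (smul_left_cancel g⁻¹ ((eq_one_of_inf e h1 h2).trans (smul_one _).symm))
  rw [← hg, ← h3, smul_inv_smul]

omit D in
theorem mem_card {E : Subgroup M} (hE : Mem (A := A) P C E) : Nat.card E = Nat.card C := by
  obtain ⟨⟨g, rfl⟩, -⟩ := hE
  exact (Nat.card_congr (Subgroup.equivSMul g C).toEquiv).symm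

include hP in
theorem mem_card_V {E W : Subgroup M} (hE : Mem (A := A) P C E) (hW : P W E) :
    Nat.card W = Nat.card V := by
  have h1 := D.card_mul hW
  rw [mem_card hE, ← D.card_mul hP] at h1
  exact Nat.eq_of_mul_eq_mul_right Nat.card_pos h1

theorem out_smul (g : A) {E E' : Subgroup M} (h : Out (A := A) P C E E') :
    Out (A := A) P C (g • E) (g • E') := by
  obtain ⟨hE, hE', hne, hno⟩ := h
  refine ⟨D.mem_smul g hE, D.mem_smul g hE', fun e => hne (MulAction.injective g e), ?_⟩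
  rintro ⟨W, hW, hle⟩
  refine hno ⟨g⁻¹ • W, ?_, ?_⟩
  · simpa using D.inv g⁻¹ W _ hW
  · have := Subgroup.pointwise_smul_le_pointwise_smul_iff (a := g⁻¹).mpr hle
    rwa [inv_smul_smul] at this

include hs hA hsq in
/-- An outer member meets `V` trivially. -/
theorem out_inf {E E' W : Subgroup M} (h : Out (A := A) P C E E') (hW : P W E) {k : M} (hk : k ∈ E')
    (hkW : k ∈ W) : k = 1 := by
  classical
  obtain ⟨hE, hE', hne, hno⟩ := h
  by_contra hk1
  obtain ⟨x, hx, hxW⟩ : ∃ x ∈ E', x ∉ W := by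
    by_contra hc
    push Not at hc
    exact hno ⟨W, hW, hc⟩
  obtain ⟨v, hv, c, hc, rfl⟩ := D.exists_parts hW x
  have hc1 : c ≠ 1 := fun e => hxW (by rwa [e, mul_one])
  have hv1 : v ≠ 1 := by
    rintro rfl
    rw [one_mul] at hx
    exact hne (D.mem_ti hs hE hE' hc hx hc1)
  let H : Subgroup A := fixingSubgroup A (E : Set M) ⊓ MulAction.stabilizer A E'
  have hH : ∀ a : A, a ∈ H ↔ (∀ e ∈ E, a • e = e) ∧ a • E' = E' := fun a => by
    simp [H, Subgroup.mem_inf, mem_fixingSubgroup_iff]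
  let O : Set M := (fun z => v * z) '' ((E' ⊓ W : Subgroup M) : Set M)
  have horb : MulAction.orbit H v = O := by
    ext y
    constructor
    · rintro ⟨⟨a, ha⟩, rfl⟩
      obtain ⟨ha1, ha2⟩ := (hH a).mp ha
      have h1 : a • (v * c) ∈ E' := ha2 ▸ Subgroup.smul_mem_pointwise_smul _ a E' hx
      have h2 : a • v ∈ W := D.smul_V hW (smul_eq_of_fix ha1) ▸ Subgroup.smul_mem_pointwise_smul _ a W hv
      refine ⟨v * a • v, ⟨?_, mul_mem hv h2⟩, ?_⟩
      · have := mul_mem hx h1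
        rwa [smul_mul', ha1 c hc, mul_mul_mul_comm, hsq, mul_one] at this
      · show v * (v * a • v) = a • v
        rw [← mul_assoc, hsq, one_mul]
    · rintro ⟨z, ⟨hz, hzW⟩, rfl⟩
      have hvz : v * z ≠ 1 := fun e => by
        have e' : z = v := by rw [← one_mul z, ← hsq v, mul_assoc, e, mul_one]
        subst e'
        have h1 := mul_mem hz hx
        rw [← mul_assoc, hsq, one_mul] at h1
        exact hne (D.mem_ti hs hE hE' hc h1 hc1)
      obtain ⟨t, ht, hfix⟩ := D.trans W E hW v hv _ (mul_mem hv hzW) hv1 hvz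
      have h1 : t • (v * c) ∈ E' := by
        rw [smul_mul', ht, hfix c hc, mul_right_comm]
        exact mul_mem hx hz
      refine ⟨⟨t, (hH t).mpr ⟨hfix, ?_⟩⟩, ht⟩
      refine D.mem_ti hs (D.mem_smul t hE') hE' (Subgroup.smul_mem_pointwise_smul _ t E' hx) h1 fun e => ?_
      exact hxW ((smul_left_cancel t (e.trans (smul_one t).symm)) ▸ one_mem W)
  have hodd : Odd (Nat.card (MulAction.orbit H v)) := by
    refine hA.of_dvd_nat ((Dvd.intro (Nat.card (MulAction.stabilizer H v)) ?_).trans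
      (Subgroup.card_subgroup_dvd_card H))
    rw [← Nat.card_prod]
    exact Nat.card_congr (MulAction.orbitProdStabilizerEquivGroup H v)
  rw [horb, Nat.card_image_of_injective (mul_right_injective v)] at hodd
  have h2 : (2 : ℕ) ∣ Nat.card ↥(E' ⊓ W) := by
    have h : orderOf k = 2 := orderOf_eq_prime (by rw [pow_two, hsq]) hk1
    exact h ▸ Subgroup.orderOf_dvd_natCard _ (Subgroup.mem_inf.mpr ⟨hk, hkW⟩)
  exact Nat.not_even_iff_odd.mpr hodd (even_iff_two_dvd.mpr h2)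

include hs hA hsq in
/-- Every element of `E` is the second part of an element of an outer member. -/
theorem out_surj {E E' W : Subgroup M} (h : Out (A := A) P C E E') (hW : P W E) {c : M} (hc : c ∈ E) :
    ∃ v ∈ W, v * c ∈ E' := by
  have hex : ∀ y : E', ∃ c' : E, ∃ v ∈ W, v * (c' : M) = y := fun y => by
    obtain ⟨v, hv, c', hc', e⟩ := D.exists_parts hW (y : M)
    exact ⟨⟨c', hc'⟩, v, hv, e⟩
  choose f hf using hex
  have hinj : Function.Injective f := fun y z e => by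
    obtain ⟨v, hv, hy⟩ := hf y
    obtain ⟨w, hw, hz⟩ := hf z
    have h1 : (y : M) * z = v * w := by rw [← hy, ← hz, e, mul_mul_mul_comm, hsq, mul_one]
    have h2 := D.out_inf hA hsq hs h hW (h1 ▸ mul_mem y.2 z.2) (mul_mem hv hw)
    rw [← h1] at h2
    refine Subtype.ext ?_
    calc (y : M) = y * (z * z) := by rw [hsq, mul_one]
      _ = z := by rw [← mul_assoc, h2, one_mul]
  obtain ⟨y, hy⟩ := ((Nat.bijective_iff_injective_and_card f).mpr
    ⟨hinj, (mem_card h.2.1).trans (mem_card h.1).symm⟩).2 ⟨c, hc⟩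
  obtain ⟨v, hv, e⟩ := hf y
  rw [hy] at e
  exact ⟨v, hv, show v * c ∈ E' from e ▸ y.2⟩

include hs hA hsq in
/-- The outer members of `E` form one orbit of its stabiliser. -/
theorem out_trans {E E' E'' : Subgroup M} (h : Out (A := A) P C E E') (h' : Out (A := A) P C E E'') :
    ∃ t : A, t • E = E ∧ t • E' = E'' := by
  obtain ⟨W, hW⟩ := h.1.2
  obtain ⟨c, hc, hc1⟩ := E.bot_or_exists_ne_one.resolve_left (D.C_ne W E hW)
  obtain ⟨v, hv, hvc⟩ := D.out_surj hA hsq hs h hW hc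
  obtain ⟨w, hw, hwc⟩ := D.out_surj hA hsq hs h' hW hc
  have key : ∀ {u : M} {F : Subgroup M}, Out (A := A) P C E F → u * c ∈ F → u ≠ 1 := by
    intro u F hF hu e
    rw [e, one_mul] at hu
    exact hF.2.2.1 (D.mem_ti hs h.1 hF.2.1 hc hu hc1)
  obtain ⟨t, ht, hfix⟩ := D.trans W E hW v hv w hw (key h hvc) (key h' hwc)
  refine ⟨t, smul_eq_of_fix hfix, D.mem_ti hs (D.mem_smul t h.2.1) h'.2.1
    (Subgroup.smul_mem_pointwise_smul _ t E' hvc) (by rw [smul_mul', ht, hfix c hc]; exact hwc) fun e => ?_⟩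
  rw [smul_mul', ht, hfix c hc] at e
  exact hc1 (D.parts_unique hW hw (one_mem W) hc (one_mem E) (e.trans (one_mul 1).symm)).2

include hs hA hsq in
theorem out_asymm {E E' : Subgroup M} (h : Out (A := A) P C E E') : ¬ Out (A := A) P C E' E := fun h' => by
  obtain ⟨⟨g, hg⟩, -⟩ := h.1
  obtain ⟨⟨k, hk⟩, -⟩ := h.2.1
  exact h.2.2.1 (antisymm_of_trans hA (g := k * g⁻¹) (fun a x y => D.out_smul a)
    (fun x y z => D.out_trans hA hsq hs) (by rw [← hg, mul_smul, inv_smul_smul, hk]) h h')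

include hs hA hsq hP in
/-- With second members of order at least four there are no outer members. -/
theorem no_out (hC : 4 ≤ Nat.card C) {E₀ E₁ : Subgroup M} (h₀ : Out (A := A) P C E₀ E₁) : False := by
  classical
  haveI : Finite (Subgroup M) := Finite.of_injective (fun H : Subgroup M => (H : Set M)) SetLike.coe_injective
  letI := Fintype.ofFinite (Subgroup M)
  let s : Finset (Subgroup M) := Finset.univ.filter (Mem (A := A) P C)
  let o : Subgroup M → Finset (Subgroup M) := fun E => s.filter (Out (A := A) P C E)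
  let i : Subgroup M → Finset (Subgroup M) := fun E' => s.filter (fun E => Out (A := A) P C E E')
  have hsum : ∑ E ∈ s, (o E).card = ∑ E' ∈ s, (i E').card :=
    Finset.sum_card_bipartiteAbove_eq_sum_card_bipartiteBelow _
  have hone : ∀ E ∈ s, Nat.card V - 1 ≤ (o E).card := by
    intro E hEs
    have hE : Mem (A := A) P C E := (Finset.mem_filter.mp hEs).2
    obtain ⟨W, hW⟩ := hE.2
    obtain ⟨⟨g, hg⟩, -⟩ := hE
    obtain ⟨⟨k, hk⟩, -⟩ := h₀.1
    have hout : Out (A := A) P C E ((g * k⁻¹) • E₁) := by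
      have := D.out_smul (g * k⁻¹) h₀
      rwa [show (g * k⁻¹) • E₀ = E by rw [← hk, mul_smul, inv_smul_smul, hg]] at this
    obtain ⟨c, hc, hc1⟩ := E.bot_or_exists_ne_one.resolve_left (D.C_ne W E hW)
    obtain ⟨v₀, hv₀, hvc⟩ := D.out_surj hA hsq hs hout hW hc
    have hv₀1 : v₀ ≠ 1 := fun e => by
      rw [e, one_mul] at hvc
      exact hout.2.2.1 (D.mem_ti hs hout.1 hout.2.1 hc hvc hc1)
    have hex : ∀ w : {w : W // (w : M) ≠ 1}, ∃ E' ∈ o E, ((w : W) : M) * c ∈ E' := by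
      rintro ⟨⟨w, hw⟩, hw1⟩
      obtain ⟨t, ht, hfix⟩ := D.trans W E hW v₀ hv₀ w hw hv₀1 hw1
      have h1 := D.out_smul t hout
      rw [smul_eq_of_fix hfix] at h1
      refine ⟨_, Finset.mem_filter.mpr ⟨Finset.mem_filter.mpr ⟨Finset.mem_univ _, h1.2.1⟩, h1⟩, ?_⟩
      have := Subgroup.smul_mem_pointwise_smul _ t _ hvc
      rwa [smul_mul', ht, hfix c hc] at this
    choose f hf hfc using hex
    have hinj : Function.Injective fun w => (⟨f w, hf w⟩ : o E) := fun w w' e => by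
      have e' : f w = f w' := congrArg Subtype.val e
      have h1 := mul_mem (hfc w) (e' ▸ hfc w')
      rw [mul_mul_mul_comm, hsq, mul_one] at h1
      have h2 := D.out_inf hA hsq hs ((Finset.mem_filter.mp (hf w)).2) hW h1 (mul_mem w.1.2 w'.1.2)
      refine Subtype.ext (Subtype.ext ?_)
      calc ((w.1 : W) : M) = (w.1 : M) * ((w'.1 : M) * (w'.1 : M)) := by rw [hsq, mul_one]
        _ = _ := by rw [← mul_assoc, h2, one_mul]
    have h1 := Nat.card_le_card_of_injective _ hinj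
    rw [Nat.card_eq_fintype_card (α := o E), Fintype.card_coe] at h1
    refine le_trans (le_of_eq ?_) h1
    have hcard : Nat.card {w : W // (w : M) ≠ 1} = Nat.card W - 1 := by
      haveI := Fintype.ofFinite W
      rw [Nat.card_eq_fintype_card, Nat.card_eq_fintype_card, Fintype.card_subtype]
      have : (Finset.univ.filter fun w : W => (w : M) ≠ 1) = Finset.univ.erase 1 := by
        ext w; simp
      rw [this, Finset.card_erase_of_mem (Finset.mem_univ _), Finset.card_univ]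
    rw [hcard, D.mem_card_V hP (Finset.mem_filter.mp hEs).2 hW]
  have hin : ∀ E' ∈ s, (i E').card * (Nat.card C - 1) ≤ Nat.card V - 1 := by
    intro E' hs'
    have hE' : Mem (A := A) P C E' := (Finset.mem_filter.mp hs').2
    obtain ⟨W, hW⟩ := hE'.2
    letI := Fintype.ofFinite M
    let pts : Subgroup M → Finset M := fun E => Finset.univ.filter fun x => x ∈ E ∧ x ≠ 1
    have hpts : ∀ E : Subgroup M, (pts E).card = Nat.card E - 1 := fun E => by
      have : pts E = ((Finset.univ.filter (· ∈ E)).erase 1) := by ext x; simp [pts, and_comm]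
      rw [this, Finset.card_erase_of_mem (by simp [one_mem]), Nat.card_eq_fintype_card]
      exact congrArg (· - 1) (Fintype.card_subtype (· ∈ E)).symm
    have hsub : (i E').biUnion pts ⊆ pts W := by
      intro x hx
      obtain ⟨E, hE, hxE⟩ := Finset.mem_biUnion.mp hx
      simp only [i, pts, Finset.mem_filter, Finset.mem_univ, true_and] at hE hxE ⊢
      refine ⟨?_, hxE.2⟩
      by_contra hxW
      refine D.out_asymm hA hsq hs hE.2 ⟨hE', hE.2.1, hE.2.2.2.1.symm, ?_⟩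
      rintro ⟨W', hW', hle⟩
      exact hxW (D.V_unique hW hW' ▸ hle hxE.1)
    have hdis : ((i E') : Set (Subgroup M)).PairwiseDisjoint pts := by
      intro E hE F hF hne
      refine Finset.disjoint_left.mpr fun x hx hx' => hne ?_
      simp only [i, pts, Finset.coe_filter, Set.mem_ofPred_eq, Finset.mem_filter, Finset.mem_univ, true_and]
        at hE hF hx hx'
      exact D.mem_ti hs hE.2.1 hF.2.1 hx.1 hx'.1 hx.2
    have h1 := Finset.card_le_card hsub
    rw [Finset.card_biUnion hdis, Finset.sum_congr rfl (g := fun _ => Nat.card C - 1) (fun E hE => by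
      rw [hpts, mem_card (Finset.mem_filter.mp hE).2.1]), Finset.sum_const, smul_eq_mul, hpts,
      D.mem_card_V hP hE' hW] at h1
    exact h1
  have hCs : C ∈ s := Finset.mem_filter.mpr ⟨Finset.mem_univ _, ⟨1, one_smul _ _⟩, V, hP⟩
  have h1 : (Nat.card V - 1) * (Nat.card C - 1) * s.card ≤ (Nat.card V - 1) * s.card := by
    calc (Nat.card V - 1) * (Nat.card C - 1) * s.card
        = (∑ _E ∈ s, (Nat.card V - 1)) * (Nat.card C - 1) := by rw [Finset.sum_const, smul_eq_mul]; ring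
      _ ≤ (∑ E ∈ s, (o E).card) * (Nat.card C - 1) := Nat.mul_le_mul_right _ (Finset.sum_le_sum hone)
      _ = ∑ E' ∈ s, (i E').card * (Nat.card C - 1) := by rw [hsum, Finset.sum_mul]
      _ ≤ ∑ _E' ∈ s, (Nat.card V - 1) := Finset.sum_le_sum hin
      _ = _ := by rw [Finset.sum_const, smul_eq_mul]; ring
  have h4 := D.four V C hP
  have hpos : 0 < (Nat.card V - 1) * s.card := Nat.mul_pos (by omega) (Finset.card_pos.mpr ⟨C, hCs⟩)
  have h3 : 3 * ((Nat.card V - 1) * s.card) ≤ (Nat.card V - 1) * (Nat.card C - 1) * s.card := by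
    rw [mul_right_comm, mul_comm 3]
    exact Nat.mul_le_mul_left _ (by omega)
  omega

include hs hA hsq in
/-- With second members of order two: no tournament. -/
theorem no_out_two (h16 : 16 ≤ Nat.card M) (h2 : Nat.card C = 2) {E₀ E₁ : Subgroup M}
    (h₀ : Out (A := A) P C E₀ E₁) : False := by
  classical
  have two : ∀ {E : Subgroup M}, Mem (A := A) P C E → ∀ {x y : M}, x ∈ E → y ∈ E → x ≠ 1 → y ≠ 1 → x = y := by
    intro E hE x y hx hy hx1 hy1
    have h := (mem_card hE).trans h2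
    have := ((Nat.card_eq_two_iff' (1 : E)).mp h).unique (y₁ := ⟨x, hx⟩) (y₂ := ⟨y, hy⟩)
      (fun e => hx1 (congrArg Subtype.val e)) (fun e => hy1 (congrArg Subtype.val e))
    exact congrArg Subtype.val this
  -- every nonidentity element lies in a member
  have hall : ∀ x : M, x ≠ 1 → ∃ E, Mem (A := A) P C E ∧ x ∈ E := by
    intro x hx1
    obtain ⟨W, hW⟩ := h₀.1.2
    obtain ⟨⟨k₁, hk₁⟩, -⟩ := h₀.2.1
    obtain ⟨⟨k₀, hk₀⟩, -⟩ := h₀.1
    have hin : Out (A := A) P C ((k₀ * k₁⁻¹) • E₀) E₀ := by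
      have := D.out_smul (k₀ * k₁⁻¹) h₀
      rwa [show (k₀ * k₁⁻¹) • E₁ = E₀ by rw [← hk₁, mul_smul, inv_smul_smul, hk₀]] at this
    have hle : ∀ y ∈ (k₀ * k₁⁻¹) • E₀, y ∈ W := fun y hy => by
      by_contra hyW
      refine D.out_asymm hA hsq hs hin ⟨h₀.1, hin.1, hin.2.2.1.symm, ?_⟩
      rintro ⟨W', hW', hle⟩
      exact hyW (D.V_unique hW hW' ▸ hle hy)
    obtain ⟨Wm, hWm⟩ := hin.1.2
    obtain ⟨y, hy, hy1⟩ := Subgroup.bot_or_exists_ne_one _ |>.resolve_left (D.C_ne _ _ hWm)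
    obtain ⟨v, hv, c, hc, rfl⟩ := D.exists_parts hW x
    by_cases hv1 : v = 1
    · subst hv1; exact ⟨E₀, h₀.1, by rwa [one_mul]⟩
    by_cases hc1 : c = 1
    · subst hc1
      obtain ⟨t, ht, -⟩ := D.trans W E₀ hW y (hle y hy) v hv hy1 hv1
      exact ⟨t • _, D.mem_smul t hin.1, by rw [mul_one, ← ht]; exact Subgroup.smul_mem_pointwise_smul y t _ hy⟩
    obtain ⟨u, hu, huc⟩ := D.out_surj hA hsq hs h₀ hW hc
    have hu1 : u ≠ 1 := fun e => by
      rw [e, one_mul] at huc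
      exact h₀.2.2.1 (D.mem_ti hs h₀.1 h₀.2.1 hc huc hc1)
    obtain ⟨t, ht, hfix⟩ := D.trans W E₀ hW u hu v hv hu1 hv1
    refine ⟨t • E₁, D.mem_smul t h₀.2.1, ?_⟩
    rw [show v * c = t • (u * c) by rw [smul_mul', ht, hfix c hc]]
    exact Subgroup.smul_mem_pointwise_smul _ t _ huc
  have hpair : ∀ x : {x : M // x ≠ 1}, ∃ p : Subgroup M × Subgroup M,
      Mem (A := A) P C p.1 ∧ (x : M) ∈ p.1 ∧ P p.2 p.1 := fun x => by
    obtain ⟨E, hE, hx⟩ := hall x x.2
    obtain ⟨W, hW⟩ := hE.2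
    exact ⟨(E, W), hE, hx, hW⟩
  choose F hF hxF hFW using hpair
  -- the inner relation
  let R : Subgroup M → Subgroup M → Prop := fun E E' =>
    Mem (A := A) P C E ∧ Mem (A := A) P C E' ∧ E ≠ E' ∧ ∃ W, P W E ∧ E' ≤ W
  have hRinv : ∀ (g : A) E E', R E E' → R (g • E) (g • E') := by
    rintro g E E' ⟨a, b, c, W, d, e⟩
    exact ⟨D.mem_smul g a, D.mem_smul g b, fun h => c (MulAction.injective g h), g • W, D.inv g W E d,
      Subgroup.pointwise_smul_le_pointwise_smul_iff.mpr e⟩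
  have hRtr : ∀ E E' E'', R E E' → R E E'' → ∃ t : A, t • E = E ∧ t • E' = E'' := by
    rintro E E' E'' ⟨hE, hE', -, W, hW, hle⟩ ⟨-, hE'', -, W', hW', hle'⟩
    obtain rfl := D.V_unique hW hW'
    obtain ⟨U, hU⟩ := hE'.2
    obtain ⟨U', hU'⟩ := hE''.2
    obtain ⟨y, hy, hy1⟩ := E'.bot_or_exists_ne_one.resolve_left (D.C_ne U E' hU)
    obtain ⟨z, hz, hz1⟩ := E''.bot_or_exists_ne_one.resolve_left (D.C_ne U' E'' hU')
    obtain ⟨t, ht, hfix⟩ := D.trans _ E hW y (hle hy) z (hle' hz) hy1 hz1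
    exact ⟨t, smul_eq_of_fix hfix, D.mem_ti hs (D.mem_smul t hE') hE''
      (Subgroup.smul_mem_pointwise_smul _ t E' hy) (by rw [ht]; exact hz) (by rw [ht]; exact hz1)⟩
  have hle_iff : ∀ x y : {x : M // x ≠ 1}, (y : M) ∈ (F x).2 ↔ (F y).1 ≤ (F x).2 := fun x y =>
    ⟨fun h z hz => by
      by_cases hz1 : z = 1
      · rw [hz1]; exact one_mem _
      · rwa [two (hF y) hz (hxF y) hz1 y.2],
     fun h => h (hxF y)⟩
  have tour : ∀ x y : {x : M // x ≠ 1}, x ≠ y → ((y : M) ∈ (F x).2 ↔ (x : M) ∉ (F y).2) := by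
    intro x y hne
    have hFne : (F x).1 ≠ (F y).1 := fun e =>
      hne (Subtype.ext (two (hF x) (hxF x) (e ▸ hxF y) x.2 y.2))
    constructor
    · intro h1 h2'
      obtain ⟨⟨g, hg⟩, -⟩ := hF x
      obtain ⟨⟨k, hk⟩, -⟩ := hF y
      exact hFne (antisymm_of_trans hA (g := k * g⁻¹) hRinv hRtr (by rw [← hg, mul_smul, inv_smul_smul, hk])
        ⟨hF x, hF y, hFne, _, hFW x, (hle_iff x y).mp h1⟩ ⟨hF y, hF x, hFne.symm, _, hFW y, (hle_iff y x).mp h2'⟩)
    · intro h1
      by_contra h2'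
      refine D.out_asymm hA hsq hs (E := (F x).1) (E' := (F y).1)
        ⟨hF x, hF y, hFne, ?_⟩ ⟨hF y, hF x, hFne.symm, ?_⟩
      · rintro ⟨W, hW, hle⟩
        exact h2' (D.V_unique (hFW x) hW ▸ hle (hxF y))
      · rintro ⟨W, hW, hle⟩
        exact h1 (D.V_unique (hFW y) hW ▸ hle (hxF x))
  -- the sets `V` have index two
  have hlin : ∀ (x : {x : M // x ≠ 1}) (y z : M), y * z ∈ (F x).2 ↔ (y ∈ (F x).2 ↔ z ∈ (F x).2) := by
    intro x y z
    obtain ⟨v, hv, c, hc, rfl⟩ := D.exists_parts (hFW x) y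
    obtain ⟨w, hw, d, hd, rfl⟩ := D.exists_parts (hFW x) z
    have hmem : ∀ {u e : M}, u ∈ (F x).2 → e ∈ (F x).1 → (u * e ∈ (F x).2 ↔ e = 1) := fun {u e} hu he => by
      refine ⟨fun h => ?_, fun h => by rwa [h, mul_one]⟩
      exact D.eq_one (hFW x) (((F x).2.mul_mem_cancel_left hu).mp h) he
    rw [mul_mul_mul_comm, hmem (mul_mem hv hw) (mul_mem hc hd), hmem hv hc, hmem hw hd]
    constructor
    · intro h
      have e : d = c := by rw [← one_mul d, ← hsq c, mul_assoc, h, mul_one]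
      rw [e]
    · intro h
      by_cases hc1 : c = 1
      · rw [hc1, h.mp hc1, one_mul]
      · rw [two (hF x) hd hc (mt h.mpr hc1) hc1, hsq]
  -- a line and two points outside it
  letI := Fintype.ofFinite M
  obtain ⟨p, q, hp, hq, hpq⟩ : ∃ p q : M, p ≠ 1 ∧ q ≠ 1 ∧ p ≠ q := by
    obtain ⟨p, -, hp⟩ := Finset.exists_mem_notMem_of_card_lt_card (s := ({1} : Finset M)) (t := Finset.univ)
      (by rw [Finset.card_univ, ← Nat.card_eq_fintype_card, Finset.card_singleton]; omega)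
    obtain ⟨q, -, hq⟩ := Finset.exists_mem_notMem_of_card_lt_card (s := ({1, p} : Finset M)) (t := Finset.univ)
      (by rw [Finset.card_univ, ← Nat.card_eq_fintype_card]; exact lt_of_le_of_lt (Finset.card_le_two) (by omega))
    simp only [Finset.mem_singleton, Finset.mem_insert, not_or] at hp hq
    exact ⟨p, q, hp, hq.1, Ne.symm hq.2⟩
  let L : Finset M := {1, p, q, p * q}
  obtain ⟨x, -, hx⟩ := Finset.exists_mem_notMem_of_card_lt_card (s := L) (t := Finset.univ)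
    (by rw [Finset.card_univ, ← Nat.card_eq_fintype_card]; exact lt_of_le_of_lt Finset.card_le_four (by omega))
  obtain ⟨y, -, hy⟩ := Finset.exists_mem_notMem_of_card_lt_card (s := L ∪ L.image (x * ·)) (t := Finset.univ)
    (by
      rw [Finset.card_univ, ← Nat.card_eq_fintype_card]
      have h1 : L.card ≤ 4 := Finset.card_le_four
      have := Finset.card_union_le L (L.image (x * ·))
      have := Finset.card_image_le (s := L) (f := (x * ·))
      omega)
  have hpq1 : p * q ≠ 1 := fun e => hpq (by rw [← mul_one p, ← hsq q, ← mul_assoc, e, one_mul])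
  have hxy : x * y ∉ L := fun h => hy (Finset.mem_union_right _ (Finset.mem_image.mpr
    ⟨x * y, h, by rw [← mul_assoc, hsq, one_mul]⟩))
  have hy' : y ∉ L := fun h => hy (Finset.mem_union_left _ h)
  have key : ∀ z : M, z ∉ L → (z ∈ (F ⟨p * q, hpq1⟩).2 ↔ ¬ (z ∈ (F ⟨p, hp⟩).2 ↔ z ∈ (F ⟨q, hq⟩).2)) := by
    intro z hz
    simp only [L, Finset.mem_insert, Finset.mem_singleton, not_or] at hz
    have e := hlin ⟨z, hz.1⟩ p q
    have e1 := tour ⟨z, hz.1⟩ ⟨p, hp⟩ (by simp [hz.2.1])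
    have e2 := tour ⟨z, hz.1⟩ ⟨q, hq⟩ (by simp [hz.2.2.1])
    have e3 := tour ⟨z, hz.1⟩ ⟨p * q, hpq1⟩ (by simp [hz.2.2.2])
    simp only at e e1 e2 e3
    rw [e1, e2, e3] at e
    by_cases a : z ∈ (F ⟨p, hp⟩).2 <;> by_cases b : z ∈ (F ⟨q, hq⟩).2 <;> simp_all
  have k3 := key (x * y) hxy
  rw [hlin, hlin, hlin] at k3
  exact parity_absurd (key x hx) (key y hy') k3

include hs hA hsq hP in
/-- A pair meeting no other one is invariant. -/
theorem single_invariant (h16 : 16 ≤ Nat.card M) (g : A) : g • C = C := by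
  by_contra hg
  have hmemC : Mem (A := A) P C C := ⟨⟨1, one_smul _ _⟩, V, hP⟩
  have hmem1 : Mem (A := A) P C (g • C) := D.mem_smul g hmemC
  by_cases hout : ∃ E E', Out (A := A) P C E E'
  · obtain ⟨E, E', h⟩ := hout
    rcases lt_or_ge (Nat.card C) 4 with h4 | h4
    · have h2 : Nat.card C = 2 := by
        obtain ⟨c, hc, hc1⟩ := C.bot_or_exists_ne_one.resolve_left (D.C_ne V C hP)
        have h : 2 ∣ Nat.card C := by
          have := orderOf_dvd_natCard (⟨c, hc⟩ : C)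
          rwa [Subgroup.orderOf_mk, orderOf_eq_prime (by rw [pow_two, hsq]) hc1] at this
        have := Nat.card_pos (α := C)
        omega
      exact D.no_out_two hA hsq hs h16 h2 h
    · exact D.no_out hA hsq hP hs h4 h
  push Not at hout
  have inside : ∀ {E E' W : Subgroup M}, Mem (A := A) P C E → Mem (A := A) P C E' → E ≠ E' → P W E → E' ≤ W := by
    intro E E' W hE hE' hne hW
    by_contra hle
    exact hout E E' ⟨hE, hE', hne, fun ⟨W', hW', hle'⟩ => hle (D.V_unique hW hW' ▸ hle')⟩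
  have hle1 : g • C ≤ V := inside hmemC hmem1 (Ne.symm hg) hP
  by_cases heq : V ≤ g • C
  · have hD : g • g • C = C := by
      by_contra hne
      have h1 : g • g • C ≤ g • C := (inside hmemC (D.mem_smul g hmem1) (Ne.symm hne) hP).trans heq
      obtain ⟨W, hW⟩ := (D.mem_smul g hmem1).2
      obtain ⟨c, hc, hc1⟩ := Subgroup.bot_or_exists_ne_one _ |>.resolve_left (D.C_ne W _ hW)
      exact hg (MulAction.injective g (D.mem_ti hs (D.mem_smul g hmem1) hmem1 hc (h1 hc) hc1))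
    exact hg (no_swap hA (a := g) rfl hD).symm
  obtain ⟨W₁, hW₁⟩ := hmem1.2
  obtain ⟨w, hw, hwD⟩ := SetLike.not_le_iff_exists.mp heq
  obtain ⟨d, hd, hd1⟩ := Subgroup.bot_or_exists_ne_one _ |>.resolve_left (D.C_ne W₁ _ hW₁)
  have cover : ∀ u ∈ V, u ∉ g • C → u ∈ W₁ := by
    intro u hu huD
    obtain ⟨t, ht, -⟩ := D.trans V C hP d (hle1 hd) u hu hd1 fun e => huD (e ▸ one_mem _)
    have hmt := D.mem_smul t hmem1
    have hut : u ∈ t • g • C := ht ▸ Subgroup.smul_mem_pointwise_smul d t _ hd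
    exact inside hmem1 hmt (fun e => huD (e.symm ▸ hut)) hW₁ hut
  have h1 := cover w hw hwD
  have h2 := cover (d * w) (mul_mem (hle1 hd) hw) fun h => hwD (((g • C).mul_mem_cancel_left hd).mp h)
  exact hd1 (D.eq_one hW₁ (((W₁).mul_mem_cancel_right h1).mp h2) hd)

end single

section main

variable (h16 : 16 ≤ Nat.card M)
include hA hsq h16

/-- A pair meeting no other one and a pair meeting another one do not coexist. -/
theorem single_absurd {V C V₁ C₁ V₂ C₂ : Subgroup M} (hP : P V C) (hs : Single P C) (h₁ : P V₁ C₁)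
    (h₂ : P V₂ C₂) (hne : C₂ ≠ C₁) (hm : C₁ ⊓ C₂ ≠ ⊥) : False := by
  have hne₁ : C₁ ≠ C := fun e => hne ((hs V₂ C₂ h₂ (e ▸ hm)).trans e.symm)
  have hne₂ : C₂ ≠ C := fun e => hne (by rw [e]; exact (hs V₁ C₁ h₁ (e ▸ inf_comm_ne hm)).symm)
  have hV : ∀ {V' C'}, P V' C' → C' ≠ C → V' ≤ C := by
    intro V' C' h' hne'
    obtain ⟨x, hx, hx1⟩ := C.bot_or_exists_ne_one.resolve_left (D.C_ne V C hP)
    obtain ⟨v, hv, c, hc, rfl⟩ := D.exists_parts h' x
    have hv1 : v ≠ 1 := fun e => hne' (hs V' C' h' fun hb => hx1 (by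
      rw [e, one_mul] at hx ⊢
      exact eq_one_of_inf hb hx hc))
    obtain ⟨w, hw, hw1, hwv⟩ : ∃ w ∈ V', w ≠ 1 ∧ w ≠ v := by
      by_contra hcon
      push Not at hcon
      have hsub : (V' : Set M) ⊆ {1, v} := fun w hw => by
        by_cases h : w = 1
        · exact Or.inl h
        · exact Or.inr (hcon w hw h)
      have h1 := Set.ncard_le_ncard hsub
      have h2 : ({1, v} : Set M).ncard ≤ 2 :=
        (Set.ncard_insert_le _ _).trans (by rw [Set.ncard_singleton])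
      have h4 := D.four V' C' h'
      rw [← Nat.card_coe_set_eq] at h1
      change Nat.card V' ≤ _ at h1
      omega
    obtain ⟨t, ht, hfix⟩ := D.trans V' C' h' v hv w hw hv1 hw1
    refine D.V_le h' (fun s _ => D.single_invariant hA hsq hP hs h16 s) (mul_mem hw hv)
      (fun e => hwv (by rw [← mul_one w, ← hsq v, ← mul_assoc, e, one_mul])) ?_
    have h := mul_mem (D.single_invariant hA hsq hP hs h16 t ▸ Subgroup.smul_mem_pointwise_smul _ t C hx) hx
    rwa [smul_mul', ht, hfix c hc, mul_mul_mul_comm, hsq, mul_one] at h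
  rcases D.linked V₁ C₁ V₂ C₂ h₁ h₂ hm with ⟨-, e⟩ | ⟨hle, -⟩
  · exact hne e
  · refine hne₁ (hs V₁ C₁ h₁ fun e => D.V_ne h₂ (le_bot_iff.mp ((le_inf (hV h₂ hne₂) hle).trans e.le)))

/-- Two pairs meeting other ones meet. -/
theorem meet_of_meet {V₁ C₁ V₂ C₂ V₃ C₃ V₄ C₄ : Subgroup M} (h₁ : P V₁ C₁) (h₂ : P V₂ C₂) (h₃ : P V₃ C₃)
    (h₄ : P V₄ C₄) (ne12 : C₂ ≠ C₁) (m12 : C₁ ⊓ C₂ ≠ ⊥) (ne34 : C₄ ≠ C₃) (m34 : C₃ ⊓ C₄ ≠ ⊥) :
    C₁ ⊓ C₃ ≠ ⊥ := by
  intro h13
  obtain ⟨o21, o12⟩ : V₂ ≤ C₁ ∧ V₁ ≤ C₂ :=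
    (D.linked V₁ C₁ V₂ C₂ h₁ h₂ m12).resolve_left fun e => ne12 e.2
  obtain ⟨o43, o34⟩ : V₄ ≤ C₃ ∧ V₃ ≤ C₄ :=
    (D.linked V₃ C₃ V₄ C₄ h₃ h₄ m34).resolve_left fun e => ne34 e.2
  have h14 : C₁ ⊓ C₄ = ⊥ := by
    by_contra h
    exact D.meet_trans h₄ h₁ h₃ (inf_comm_ne h) (inf_comm_ne m34) h13
  have h23 : C₂ ⊓ C₃ = ⊥ := by
    by_contra h
    exact D.meet_trans h₂ h₁ h₃ (inf_comm_ne m12) h h13
  have h24 : C₂ ⊓ C₄ = ⊥ := by
    by_contra h
    exact D.meet_trans h₂ h₁ h₄ (inf_comm_ne m12) h h14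
  have ub : ∀ {V C' C : Subgroup M}, P V C → C' ⊓ C = ⊥ → Nat.card C' ≤ Nat.card V := by
    intro V C' C h hb
    have h1 := Nat.card_le_card_of_injective _ (Subgroup.mul_injective_of_disjoint (disjoint_iff.mpr hb))
    rw [Nat.card_prod, ← D.card_mul h] at h1
    exact Nat.le_of_mul_le_mul_right h1 Nat.card_pos
  have eqV : ∀ {V C : Subgroup M}, V ≤ C → Nat.card C ≤ Nat.card V → C = V := fun h h' =>
    (Subgroup.eq_of_le_of_card_ge h h').symm
  have c1 := ub h₁ (inf_comm C₁ C₃ ▸ h13)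
  have c2 := ub h₂ (inf_comm C₂ C₃ ▸ h23)
  have c3 := ub h₁ (inf_comm C₁ C₄ ▸ h14)
  have c4 := ub h₂ (inf_comm C₂ C₄ ▸ h24)
  have d1 := ub h₃ h13
  have d2 := ub h₄ h14
  have d3 := ub h₃ h23
  have d4 := ub h₄ h24
  have b1 := Subgroup.card_le_of_le o21
  have b2 := Subgroup.card_le_of_le o12
  have b3 := Subgroup.card_le_of_le o43
  have b4 := Subgroup.card_le_of_le o34
  have e1 : C₁ = V₂ := eqV o21 (by omega)
  have e2 : C₂ = V₁ := eqV o12 (by omega)
  have e3 : C₃ = V₄ := eqV o43 (by omega)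
  have e4 : C₄ = V₃ := eqV o34 (by omega)
  have hcard : Nat.card C₃ = Nat.card C₁ := by omega
  -- `C₃` is the graph of a bijection
  obtain ⟨x, hx, hx1⟩ := C₄.bot_or_exists_ne_one.resolve_left (D.C_ne V₄ C₄ h₄)
  obtain ⟨v, hv, c, hc, rfl⟩ := D.exists_parts h₁ x
  have hc1 : c ≠ 1 := fun e => hx1 (by
    rw [e, mul_one] at hx ⊢
    exact eq_one_of_inf h24 (o12 hv) hx)
  have hv1 : v ≠ 1 := fun e => hx1 (by
    rw [e, one_mul] at hx ⊢
    exact eq_one_of_inf h14 hc hx)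
  have hex : ∀ y : C₃, ∃ c' : C₁, ∃ u ∈ V₁, u * (c' : M) = y := fun y => by
    obtain ⟨u, hu, c', hc', e⟩ := D.exists_parts h₁ (y : M)
    exact ⟨⟨c', hc'⟩, u, hu, e⟩
  choose f hf using hex
  have hinj : Function.Injective f := fun y z e => by
    obtain ⟨u, hu, hy⟩ := hf y
    obtain ⟨w, hw, hz⟩ := hf z
    have h1 : (y : M) * z = u * w := by rw [← hy, ← hz, e, mul_mul_mul_comm, hsq, mul_one]
    have h2 : (y : M) * z = 1 := eq_one_of_inf h23 (by rw [h1]; exact o12 (mul_mem hu hw)) (mul_mem y.2 z.2)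
    refine Subtype.ext ?_
    calc (y : M) = y * (z * z) := by rw [hsq, mul_one]
      _ = z := by rw [← mul_assoc, h2, one_mul]
  obtain ⟨y, hy⟩ := ((Nat.bijective_iff_injective_and_card f).mpr ⟨hinj, hcard⟩).2 ⟨c, hc⟩
  obtain ⟨u, hu, huc⟩ := hf y
  rw [hy] at huc
  have hy3 : u * c ∈ C₃ := huc ▸ y.2
  have hu1 : u ≠ 1 := fun e => hc1 (by
    rw [e, one_mul] at hy3
    exact eq_one_of_inf h13 hc hy3)
  obtain ⟨t, ht, hfix⟩ := D.trans V₁ C₁ h₁ u hu v hv hu1 hv1
  have h3' := D.inv t V₃ C₃ h₃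
  have h4' := D.inv t V₄ C₄ h₄
  have hm : C₄ ⊓ t • C₃ ≠ ⊥ := fun e => hx1 (eq_one_of_inf e hx (by
    have := Subgroup.smul_mem_pointwise_smul _ t C₃ hy3
    rwa [smul_mul', ht, hfix c hc] at this))
  have ht3 : t • C₃ = C₄ := by
    rcases D.linked V₄ C₄ (t • V₃) (t • C₃) h₄ h3' hm with ⟨-, e⟩ | ⟨-, hle⟩
    · exact e
    exfalso
    -- otherwise `t • C₃ = C₃`
    have hV4 : V₄ ≤ C₃ ⊓ t • C₃ := le_inf o43 hle
    rcases D.linked V₃ C₃ _ _ h₃ h3' (fun e => D.V_ne h₄ (le_bot_iff.mp (hV4.trans e.le))) with ⟨-, e⟩ | ⟨hle', -⟩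
    · have h : v * c ∈ C₃ := e ▸ (by
        have := Subgroup.smul_mem_pointwise_smul _ t C₃ hy3
        rwa [smul_mul', ht, hfix c hc] at this)
      exact hx1 (D.eq_one h₃ (by rw [← e4]; exact hx) h)
    · rw [e3] at hle'
      have e5 : t • V₃ = V₄ := Subgroup.eq_of_le_of_card_ge hle' (by
        rw [← Nat.card_congr (Subgroup.equivSMul t V₃).toEquiv]; omega)
      rw [e5] at h3'
      exact D.V_ne h₄ (le_bot_iff.mp ((le_inf le_rfl hle).trans (D.disj h3').le))
  have ht4 : t • C₄ = C₃ := by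
    have e5 : t • V₃ = V₄ := D.V_unique h₄ (ht3 ▸ h3')
    rw [e4, e5, e3]
  exact ne34 (no_swap hA ht3 ht4).symm

/-- **Blocks.** Two pairs are equal or orthogonal. -/
theorem orth {V C V' C' : Subgroup M} (h : P V C) (h' : P V' C') :
    V' = V ∧ C' = C ∨ V' ≤ C ∧ V ≤ C' := by
  classical
  by_cases hm : C ⊓ C' = ⊥
  swap
  · exact D.linked V C V' C' h h' hm
  have hex : ∀ {V₁ C₁}, P V₁ C₁ → Single P C₁ ∨ ∃ V₂ C₂, P V₂ C₂ ∧ C₂ ≠ C₁ ∧ C₁ ⊓ C₂ ≠ ⊥ := by
    intro V₁ C₁ h₁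
    by_cases hs : Single P C₁
    · exact Or.inl hs
    · simp only [Single, not_forall] at hs
      obtain ⟨V₂, C₂, h₂, hm₂, hne⟩ := hs
      exact Or.inr ⟨V₂, C₂, h₂, hne, hm₂⟩
  rcases hex h with hs | ⟨V₂, C₂, h₂, ne₂, m₂⟩
  · rcases hex h' with hs' | ⟨V₄, C₄, h₄, ne₄, m₄⟩
    · right
      have key : ∀ {V₁ C₁ V₂ C₂}, P V₁ C₁ → P V₂ C₂ → Single P C₁ → C₁ ⊓ C₂ = ⊥ → V₂ ≤ C₁ := by
        intro V₁ C₁ V₂ C₂ h₁ h₂ hs₁ hb
        obtain ⟨x, hx, hx1⟩ := C₁.bot_or_exists_ne_one.resolve_left (D.C_ne V₁ C₁ h₁)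
        obtain ⟨v, hv, c, hc, rfl⟩ := D.exists_parts h₂ x
        have hv1 : v ≠ 1 := fun e => hx1 (by
          rw [e, one_mul] at hx ⊢
          exact eq_one_of_inf hb hx hc)
        obtain ⟨w, hw, hw1, hwv⟩ : ∃ w ∈ V₂, w ≠ 1 ∧ w ≠ v := by
          by_contra hcon
          push Not at hcon
          have hsub : (V₂ : Set M) ⊆ {1, v} := fun w hw => by
            by_cases h : w = 1
            · exact Or.inl h
            · exact Or.inr (hcon w hw h)
          have h1 := Set.ncard_le_ncard hsub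
          have h2 : ({1, v} : Set M).ncard ≤ 2 :=
            (Set.ncard_insert_le _ _).trans (by rw [Set.ncard_singleton])
          have h4 := D.four V₂ C₂ h₂
          rw [← Nat.card_coe_set_eq] at h1
          change Nat.card V₂ ≤ _ at h1
          omega
        obtain ⟨t, ht, hfix⟩ := D.trans V₂ C₂ h₂ v hv w hw hv1 hw1
        refine D.V_le h₂ (fun s _ => D.single_invariant hA hsq h₁ hs₁ h16 s) (mul_mem hw hv)
          (fun e => hwv (by rw [← mul_one w, ← hsq v, ← mul_assoc, e, one_mul])) ?_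
        have hh := mul_mem (D.single_invariant hA hsq h₁ hs₁ h16 t ▸
          Subgroup.smul_mem_pointwise_smul _ t C₁ hx) hx
        rwa [smul_mul', ht, hfix c hc, mul_mul_mul_comm, hsq, mul_one] at hh
      exact ⟨key h h' hs hm, key h' h hs' (inf_comm C C' ▸ hm)⟩
    · exact (D.single_absurd hA hsq h16 h hs h' h₄ ne₄ m₄).elim
  · rcases hex h' with hs' | ⟨V₄, C₄, h₄, ne₄, m₄⟩
    · exact (D.single_absurd hA hsq h16 h' hs' h h₂ ne₂ m₂).elim
    · exact absurd hm (D.meet_of_meet hA hsq h16 h h₂ h' h₄ ne₂ m₂ ne₄ m₄)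

end main

end Data

end CfsgLib.Walter.Blocks
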