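import Cfsg.Agent.Lib.Recog.Walter.Constrained
import Cfsg.Agent.Lib.Invol.CentralMeet.Final
import Cfsg.Agent.Lib.TwoFusion.AbelianPSL.Result

/-!
Owner: helper29. S3182 from the centralizer form of Walter's theorem.

* `CentralizerShape`: a simple group with abelian Sylow 2-subgroups of rank at least three is `PSL(2, 2 ^ n)`
  or has an involution centralizer `⟨t⟩ × E` with a self-centralizing normal `PSL(2, q)` in `E`.
* `central_meet_simple`: S3182, given it.
-/

set_option autoImplicit false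
set_option linter.style.haveILetI false
set_option linter.unusedSectionVars false

namespace CfsgLib.Walter

open Subgroup
open CfsgLib.AbelianSolvCent (AbSylow)

universe u

/-- The centralizer form of Walter's theorem in rank at least three. -/
def CentralizerShape : Prop :=
  ∀ (G : Type u) [Group G] [Finite G] [IsSimpleGroup G], ¬ IsMulCommutative G → AbSylow G →
    ¬ Cfsg.PRankLE 2 2 G →
    (∃ n : ℕ, 2 ≤ n ∧ ∃ (F : Type) (_ : Field F) (_ : Fintype F), Fintype.card F = 2 ^ n ∧
      Nonempty (G ≃* Matrix.ProjectiveSpecialLinearGroup (Fin 2) F)) ∨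
    ∃ t : G, orderOf t = 2 ∧ ∃ E : Subgroup G,
      Cfsg.IsInternalDirectProduct (zpowers t) E (centralizer ({t} : Set G)) ∧
        ∃ (F : Type) (_ : Field F) (_ : Fintype F), Odd (Fintype.card F) ∧ 3 < Fintype.card F ∧
          ∃ N : Subgroup ↥E, N.Normal ∧ Nonempty (↥N ≃* Matrix.ProjectiveSpecialLinearGroup (Fin 2) F) ∧
            centralizer (N : Set ↥E) = ⊥

variable {G : Type u} [Group G] [Finite G]

theorem not_isSolvable [IsSimpleGroup G] (hG : ¬ IsMulCommutative G) : ¬ Group.IsSolvable G := fun h =>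
  hG ⟨⟨fun a b => IsSimpleGroup.comm_iff_isSolvable.mpr h a b⟩⟩

/-- A Sylow 2-subgroup of `PSL(2, 4)` has order four. -/
theorem three_le_exponent {n : ℕ} {F : Type} [Field F] [Fintype F] (hF : Fintype.card F = 2 ^ n)
    (hn : 2 ≤ n) (h8 : 8 ∣ Nat.card (Matrix.ProjectiveSpecialLinearGroup (Fin 2) F)) : 3 ≤ n := by
  by_contra h
  obtain rfl : n = 2 := by omega
  have hc := CfsgLib.Classical.Two.card_PSL_two (F := F)
  rw [hF, show Nat.gcd 2 (2 ^ 2 - 1) = 1 by norm_num, one_mul] at hc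
  rw [hc] at h8
  norm_num at h8

/-- The abelian case of S3182. -/
theorem central_meet_abelian (hW : CentralizerShape.{u}) [IsSimpleGroup G] (hG : ¬ IsMulCommutative G)
    (hA : AbSylow G) :
    (∃ (F : Type) (_ : Field F) (_ : Fintype F),
        (Fintype.card F % 8 = 0 ∨ Fintype.card F % 8 = 3 ∨ Fintype.card F % 8 = 5) ∧
        Nonempty (G ≃* Matrix.ProjectiveSpecialLinearGroup (Fin 2) F)) ∨
    ((∀ S : Sylow 2 G, IsMulCommutative ↥(S : Subgroup G)) ∧
      ∃ t : G, orderOf t = 2 ∧ IsCoatom (centralizer ({t} : Set G)) ∧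
        ∃ E : Subgroup G, Cfsg.IsInternalDirectProduct (zpowers t) E (centralizer ({t} : Set G)) ∧
          ∃ (F : Type) (_ : Field F) (_ : Fintype F), Odd (Fintype.card F) ∧ 3 < Fintype.card F ∧
            ∃ N : Subgroup ↥E, N.Normal ∧ Nonempty (↥N ≃* Matrix.ProjectiveSpecialLinearGroup (Fin 2) F) ∧
              centralizer (N : Set ↥E) = ⊥) := by
  classical
  haveI : Fact (Nat.Prime 2) := ⟨Nat.prime_two⟩
  have hns := not_isSolvable hG
  obtain ⟨S⟩ := (inferInstance : Nonempty (Sylow 2 G))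
  have hodd : ∀ N : Subgroup G, Odd (Nat.card N) → Group.IsSolvable N := fun N h => Cfsg.Agent.S0205.result h
  letI : CommGroup ↥(S : Subgroup G) :=
    { (inferInstance : Group ↥(S : Subgroup G)) with mul_comm := (hA S).is_comm.comm }
  rcases CfsgLib.AbelianSolvCent.abelian_cases (S := ↥(S : Subgroup G)) S.2 with h | h | ⟨N, hN, hNc, hQc, hQ⟩ | h8
  · exact absurd (CfsgLib.OddGated.isSolvable_of_complement hodd
      (CfsgLib.OddGated.complement_of_cyclic S h)) hns
  · obtain ⟨F, iF, iFt, ⟨hq, -⟩, e⟩ := CfsgLib.AbelianSolvCent.four_case hns S h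
    exact Or.inl ⟨F, iF, iFt, Or.inr hq, e⟩
  · haveI := hN
    exact absurd (CfsgLib.OddGated.isSolvable_metacyclic hodd S N hNc hQc hQ) hns
  · -- rank at least three
    let A := CfsgLib.AbelianSolvCent.omegaS S (hA S)
    have hA8 : 8 ≤ Nat.card A := by
      refine h8.trans (le_of_eq (Nat.card_congr ?_))
      exact
        { toFun := fun x => ⟨x.1, x.1.2, congrArg Subtype.val x.2⟩
          invFun := fun x => ⟨⟨x, x.2.1⟩, Subtype.ext x.2.2⟩
          left_inv := fun _ => rfl
          right_inv := fun _ => rfl }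
    have hAe : Cfsg.IsElementaryAbelian 2 A :=
      CfsgLib.Bender.Dichotomy.elem_of_sq fun a ha => ha.2
    have hrk : ¬ Cfsg.PRankLE 2 2 G := fun h => by
      have := h A hAe.1 hAe.2
      omega
    have h8G : 8 ∣ Nat.card G := by
      obtain ⟨k, hk⟩ := (CfsgLib.Signalizer.elementary_isPGroup hAe).exists_card_eq
      have hk3 : 3 ≤ k := (Nat.pow_le_pow_iff_right (le_refl 2)).mp (hk ▸ hA8)
      exact ((pow_dvd_pow 2 hk3).trans hk.symm.dvd).trans (Subgroup.card_subgroup_dvd_card A)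
    rcases hW G hG hA hrk with ⟨n, hn, F, iF, iFt, hF, ⟨e⟩⟩ | ⟨t, ht, E, hprod, F, iF, iFt, hq, h3, N, hN, ⟨e⟩, hC⟩
    · refine Or.inl ⟨F, iF, iFt, Or.inl ?_, ⟨e⟩⟩
      have hn3 := three_le_exponent hF hn (Nat.card_congr e.toEquiv ▸ h8G)
      obtain ⟨j, hj⟩ := Nat.exists_eq_add_of_le hn3
      rw [hF, hj, pow_add]
      omega
    · refine Or.inr ⟨hA, t, ht, ?_, E, hprod, F, iF, iFt, hq, h3, N, hN, ⟨e⟩, hC⟩
      obtain ⟨T, htT⟩ := (IsPGroup.of_card (G := zpowers t) (n := 1)
        (by rw [Nat.card_zpowers, ht]; norm_num)).exists_le_sylow (p := 2)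
      refine CfsgLib.AbelianPSL.result_of_benderGen CfsgLib.Bender.benderGen hG T (hA T) t ht E
        (N.map E.subtype) hprod (map_subtype_le N) ?_
        ⟨F, iF, iFt, hq, ⟨(N.equivMapOfInjective _ E.subtype_injective).symm.trans e⟩⟩ ?_
      · rw [← comap_subtype, comap_map_eq_self_of_injective E.subtype_injective]
        exact hN
      · refine le_bot_iff.mp fun x ⟨hxE, hxC⟩ => ?_
        have h : (⟨x, hxE⟩ : E) ∈ centralizer (N : Set E) :=
          mem_centralizer_iff.mpr fun a ha => Subtype.ext (mem_centralizer_iff.mp hxC _ ⟨a, ha, rfl⟩)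
        rw [hC, mem_bot] at h
        exact mem_bot.mpr (congrArg Subtype.val h)

theorem sl_two_five_center :
    center (Matrix.SpecialLinearGroup (Fin 2) (ZMod 5)) ≠ ⊥ := fun h => by
  have hm : (-1 : Matrix.SpecialLinearGroup (Fin 2) (ZMod 5)) ∈ center _ :=
    mem_center_iff.mpr fun g => by rw [neg_one_mul, mul_neg_one]
  rw [h, mem_bot] at hm
  exact absurd hm (by decide)

/-- **S3182 from Walter's theorem.** -/
theorem central_meet_simple (hW : CentralizerShape.{u}) [IsSimpleGroup G] (hG : ¬ IsMulCommutative G)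
    (hCI : ∀ S T : Sylow 2 G, S ≠ T → ∃ U : Sylow 2 G,
      (S : Subgroup G) ⊓ (T : Subgroup G) ≤ (center ↥(U : Subgroup G)).map (U : Subgroup G).subtype) :
    (∃ (F : Type) (_ : Field F) (_ : Fintype F),
        (Fintype.card F % 8 = 0 ∨ Fintype.card F % 8 = 3 ∨ Fintype.card F % 8 = 5) ∧
        Nonempty (G ≃* Matrix.ProjectiveSpecialLinearGroup (Fin 2) F)) ∨
    ((∀ S : Sylow 2 G, IsMulCommutative ↥(S : Subgroup G)) ∧
      ∃ t : G, orderOf t = 2 ∧ IsCoatom (centralizer ({t} : Set G)) ∧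
        ∃ E : Subgroup G, Cfsg.IsInternalDirectProduct (zpowers t) E (centralizer ({t} : Set G)) ∧
          ∃ (F : Type) (_ : Field F) (_ : Fintype F), Odd (Fintype.card F) ∧ 3 < Fintype.card F ∧
            ∃ N : Subgroup ↥E, N.Normal ∧ Nonempty (↥N ≃* Matrix.ProjectiveSpecialLinearGroup (Fin 2) F) ∧
              centralizer (N : Set ↥E) = ⊥) ∨
    (∃ (m : ℕ) (F : Type) (_ : Field F) (_ : Fintype F), 1 ≤ m ∧ Fintype.card F = 2 ^ (2 * m + 1) ∧
        Nonempty (G ≃* ↥(Cfsg.Lie.Sz F (2 ^ (m + 1))))) ∨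
    (∃ (n : ℕ) (F : Type) (_ : Field F) (_ : Fintype F), 2 ≤ n ∧ Fintype.card F = 4 ^ n ∧
        Nonempty (G ≃* Cfsg.PSU 3 F (2 ^ n))) := by
  have hns := not_isSolvable hG
  have hnorm : ∀ N : Subgroup G, N.Normal → N = ⊥ ∨ N = ⊤ := fun N hN => hN.eq_bot_or_eq_top
  have habelian : ∀ N : Subgroup G, N.Normal → IsMulCommutative N → N = ⊥ := fun N hN hc =>
    (hnorm N hN).resolve_right fun h => hG ⟨⟨fun a b =>
      congrArg Subtype.val (hc.is_comm.comm ⟨a, h ▸ mem_top a⟩ ⟨b, h ▸ mem_top b⟩)⟩⟩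
  rcases CfsgLib.CentralMeet.structure_main hCI with ⟨hs, -⟩ | hA |
    ⟨N, M, hN, hM, hNM, hlt, -, -, A, L, hAc, -, ⟨e⟩, hcomm, hsup⟩ |
    ⟨M, hM, hMo, A, L, hAc, -, h⟩
  · exact absurd hs hns
  · rcases central_meet_abelian hW hG hA with h | h
    · exact Or.inl h
    · exact Or.inr (Or.inl h)
  · exfalso
    obtain rfl : N = ⊥ := (hnorm N hN).resolve_right fun h => (h ▸ hlt).not_ge le_top
    obtain rfl : M = ⊤ := (hnorm M hM).resolve_left hlt.ne'
    haveI := hNM
    let π : (↥(⊤ : Subgroup G) ⧸ (⊥ : Subgroup G).subgroupOf ⊤) ≃* G :=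
      ((QuotientGroup.quotientMulEquivOfEq (bot_subgroupOf ⊤)).trans QuotientGroup.quotientBot).trans
        Subgroup.topEquiv
    have hgen : A.map π.toMonoidHom ⊔ L.map π.toMonoidHom = ⊤ := by
      rw [← Subgroup.map_sup, hsup, map_top_of_surjective _ π.surjective]
    have hAn : (A.map π.toMonoidHom).Normal := by
      refine normalizer_eq_top_iff.mp (top_le_iff.mp ?_)
      refine (hgen.ge.trans (sup_le le_normalizer ?_))
      rintro _ ⟨l, hl, rfl⟩
      refine centralizer_le_normalizer _ (mem_centralizer_iff.mpr ?_)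
      rintro _ ⟨a, ha, rfl⟩
      rw [← map_mul, ← map_mul, hcomm a ha l hl]
    have hA0 := habelian _ hAn ⟨⟨by
      rintro ⟨_, a, ha, rfl⟩ ⟨_, b, hb, rfl⟩
      refine Subtype.ext ?_
      show π a * π b = π b * π a
      rw [← map_mul, ← map_mul]
      exact congrArg π (congrArg Subtype.val (hAc.is_comm.comm ⟨a, ha⟩ ⟨b, hb⟩))⟩⟩
    rw [hA0, bot_sup_eq] at hgen
    let g : G ≃* Matrix.SpecialLinearGroup (Fin 2) (ZMod 5) :=
      (topEquiv.symm.trans (MulEquiv.subgroupCongr hgen.symm)).trans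
        ((L.equivMapOfInjective π.toMonoidHom π.injective).symm.trans e)
    refine sl_two_five_center ?_
    have hc : center G = ⊥ := habelian _ inferInstance inferInstance
    refine le_bot_iff.mp fun x hx => ?_
    have h1 : g.symm x ∈ center G := mem_center_iff.mpr fun y => g.injective (by
      rw [map_mul, map_mul, g.apply_symm_apply]
      exact mem_center_iff.mp hx (g y))
    rw [hc, mem_bot, g.symm.map_eq_one_iff] at h1
    exact mem_bot.mpr h1
  · obtain rfl : M = ⊤ := (hnorm M hM).resolve_left fun h => by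
      obtain ⟨t, ht⟩ := CfsgLib.AbelianSolvCent.exists_involution hns
      have h2 : 2 ∣ M.index := by
        rw [h, index_bot, ← ht]; exact orderOf_dvd_natCard t
      exact Nat.not_odd_iff_even.mpr (even_iff_two_dvd.mpr h2) hMo
    have hAbot : (∀ a ∈ A, ∀ l ∈ L, a * l = l * a) → A ⊔ L = ⊤ → L = ⊤ := fun hcomm hsup => by
      have hAn : A.Normal := normalizer_eq_top_iff.mp (top_le_iff.mp (hsup ▸ sup_le le_normalizer fun l hl =>
        centralizer_le_normalizer _ (mem_centralizer_iff.mpr fun a ha => hcomm a ha l hl)))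
      rwa [habelian A hAn hAc, bot_sup_eq] at hsup
    rcases h with ⟨⟨-, -, hcomm, -, hsup⟩, hL⟩ | ⟨-, -, hcomm, hsup, -, hZ, -⟩
    · obtain rfl := hAbot hcomm hsup
      rcases hL with ⟨m, F, iF, iFt, hm, hF, ⟨e⟩⟩ | ⟨n, F, iF, iFt, hn, hF, hU⟩
      · exact Or.inr (Or.inr (Or.inl ⟨m, F, iF, iFt, hm, hF, ⟨topEquiv.symm.trans e⟩⟩))
      · refine Or.inr (Or.inr (Or.inr ⟨n, F, iF, iFt, hn, hF, ?_⟩))
        rcases hU with ⟨⟨e⟩⟩ | ⟨⟨e⟩⟩
        · exact ⟨topEquiv.symm.trans e⟩
        · let g := topEquiv.symm.trans e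
          have hc : center ↥(Cfsg.SU 3 F (2 ^ n)) = ⊥ := by
            refine le_bot_iff.mp fun x hx => ?_
            have h1 : g.symm x ∈ center G := mem_center_iff.mpr fun y => g.injective (by
              rw [map_mul, map_mul, g.apply_symm_apply]
              exact mem_center_iff.mp hx (g y))
            rw [habelian (center G) inferInstance inferInstance, mem_bot, g.symm.map_eq_one_iff] at h1
            exact mem_bot.mpr h1
          exact ⟨g.trans ((QuotientGroup.quotientMulEquivOfEq hc).trans QuotientGroup.quotientBot).symm⟩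
    · obtain rfl := hAbot hcomm hsup
      exfalso
      refine hZ (le_bot_iff.mp fun x hx => ?_)
      have h1 : (x : G) ∈ center G := mem_center_iff.mpr fun y =>
        congrArg Subtype.val (mem_center_iff.mp hx ⟨y, mem_top y⟩)
      rw [habelian (center G) inferInstance inferInstance, mem_bot] at h1
      exact mem_bot.mpr (Subtype.ext h1)

end CfsgLib.Walter
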