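import Cfsg.Agent.Lib.LocalEven.Generation
import Mathlib.GroupTheory.Solvable

/-!
Owner: helper4. Walter blueprint, the coprime lemma: if `W = [W, U]` for commuting operators, then `W` is generated
by the `[C_W(b), U]`, `b` in a noncyclic group of operators.

* `coprime_gen`: the inclusion, for any `H` containing these.
* `coprime_gen_eq`: as an equality.
-/

set_option autoImplicit false
set_option linter.all false

namespace CfsgLib.Walter

open Subgroup
open scoped commutatorElement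

variable {G : Type*} [Group G] [Finite G]

/-- The coprime lemma, elementary abelian two-group version. -/
theorem coprime_gen {E U B W H : Subgroup G} (hW : ¬ 2 ∣ Nat.card W) (hsol : Group.IsSolvable W)
    (hEc : ∀ a ∈ E, ∀ b ∈ E, a * b = b * a) (hE2 : ∀ a ∈ E, a * a = 1)
    (hEW : E ≤ normalizer (W : Set G)) (hU : U ≤ E) (hB : B ≤ E) (hB4 : 4 ≤ Nat.card B)
    (hH : ∀ b ∈ B, b ≠ 1 → ⁅W ⊓ centralizer ({b} : Set G), U⁆ ≤ H)
    (heq : ⁅W, U⁆ = W) : W ≤ H := by
  haveI : Fact (Nat.Prime 2) := ⟨Nat.prime_two⟩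
  classical
  -- the generated subgroup
  let K0 : Subgroup G := ⨆ b : {b : G // b ∈ B ∧ b ≠ 1}, ⁅W ⊓ centralizer ({(b : G)} : Set G), U⁆
  have hK0W : K0 ≤ W := iSup_le fun b => (commutator_mono inf_le_left le_rfl).trans heq.le
  refine le_trans ?_ (iSup_le fun b => hH b.1 b.2.1 b.2.2 : K0 ≤ H)
  -- `K0` is invariant under `U`
  have hK0U : ∀ u ∈ U, ∀ x ∈ K0, u * x * u⁻¹ ∈ K0 := by
    intro u hu x hx
    have hmap : K0.map (MulAut.conj u).toMonoidHom ≤ K0 := by
      rw [Subgroup.map_iSup]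
      refine iSup_le fun b => le_trans ?_ (le_iSup (fun b : {b : G // b ∈ B ∧ b ≠ 1} =>
        ⁅W ⊓ centralizer ({(b : G)} : Set G), U⁆) b)
      rw [map_commutator]
      refine commutator_mono ?_ ?_
      · rintro _ ⟨y, hy, rfl⟩
        refine ⟨(mem_normalizer_iff.1 (hEW (hU hu)) y).1 hy.1, mem_centralizer_singleton_iff.2 ?_⟩
        have h1 := mem_centralizer_singleton_iff.1 hy.2
        have h2 : u⁻¹ * (b : G) = b * u⁻¹ := hEc _ (inv_mem (hU hu)) _ (hB b.2.1)
        show u * y * u⁻¹ * b = b * (u * y * u⁻¹)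
        calc u * y * u⁻¹ * b = u * (y * b) * u⁻¹ := by rw [mul_assoc, h2]; group
          _ = (u * b) * y * u⁻¹ := by rw [h1]; group
          _ = b * (u * y * u⁻¹) := by rw [hEc _ (hU hu) _ (hB b.2.1)]; group
      · rintro _ ⟨y, hy, rfl⟩
        exact mul_mem (mul_mem hu hy) (inv_mem hu)
    exact hmap ⟨x, hx, rfl⟩
  suffices h : ∀ (N : ℕ) (D : Subgroup G), Nat.card D = N → D ≤ W → (∀ w ∈ W, ∀ x ∈ D, w * x * w⁻¹ ∈ D) →
      (∀ a ∈ E, ∀ x ∈ D, a * x * a⁻¹ ∈ D) → W ≤ K0 ⊔ D → W ≤ K0 from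
    h _ W rfl le_rfl (fun w hw x hx => mul_mem (mul_mem hw hx) (inv_mem hw))
      (fun a ha x hx => (mem_normalizer_iff.1 (hEW ha) x).1 hx) le_sup_right
  intro N
  induction N using Nat.strong_induction_on with
  | _ N ih =>
    intro D hN hDW hDn hDE hWD
    rcases eq_or_ne D ⊥ with hD | hD
    · rwa [hD, sup_bot_eq] at hWD
    set D1 : Subgroup G := ⁅D, D⁆ with hD1
    have hD1D : D1 ≤ D := commutator_le.2 fun a ha b hb =>
      mul_mem (mul_mem (mul_mem ha hb) (inv_mem ha)) (inv_mem hb)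
    have hD1n : ∀ g : G, (∀ x ∈ D, g * x * g⁻¹ ∈ D) → ∀ x ∈ D1, g * x * g⁻¹ ∈ D1 := by
      intro g hg x hx
      have hmap : D1.map (MulAut.conj g).toMonoidHom ≤ D1 := by
        rw [hD1, map_commutator]
        exact commutator_mono (by rintro _ ⟨y, hy, rfl⟩; exact hg y hy)
          (by rintro _ ⟨y, hy, rfl⟩; exact hg y hy)
      exact hmap ⟨x, hx, rfl⟩
    have hlt : Nat.card D1 < N := by
      haveI : Group.IsSolvable D := CfsgLib.Core.isSolvable_of_le hsol hDW
      haveI : Nontrivial D := D.nontrivial_iff_ne_bot.2 hD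
      have hne : _root_.commutator D ≠ ⊤ := (Group.IsSolvable.commutator_lt_top_of_nontrivial D).ne
      rw [hD1, ← map_subtype_commutator, card_map_of_injective D.subtype_injective, ← hN]
      exact lt_of_le_of_ne (card_le_card_group _) fun e => hne (eq_top_of_card_eq _ e)
    refine ih _ hlt D1 rfl (hD1D.trans hDW) (fun w hw => hD1n w (hDn w hw))
      (fun a ha => hD1n a (hDE a ha)) ?_
    set H1 : Subgroup G := K0 ⊔ D1 with hH1
    set K : Subgroup G := H1 ⊓ D with hK
    -- `K` is invariant under `W` and `U`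
    have hKd : ∀ d ∈ D, ∀ x ∈ K, d * x * d⁻¹ ∈ K := by
      intro d hd x hx
      have hc : d * x * d⁻¹ * x⁻¹ ∈ D1 := commutator_mem_commutator hd hx.2
      have hc' : d * x * d⁻¹ * x⁻¹ ∈ K := ⟨le_sup_right (a := K0) hc, hD1D hc⟩
      simpa using mul_mem hc' hx
    have hKh : ∀ y ∈ K0, ∀ x ∈ K, y * x * y⁻¹ ∈ K := fun y hy x hx =>
      mem_inf.2 ⟨mul_mem (mul_mem (le_sup_left (b := D1) hy) hx.1) (inv_mem (le_sup_left (b := D1) hy)),
        hDn y (hK0W hy) x hx.2⟩
    have hKW : ∀ w ∈ W, ∀ x ∈ K, w * x * w⁻¹ ∈ K := by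
      intro w hw
      have hw' := hWD hw
      rw [sup_eq_closure] at hw'
      clear hw
      induction hw' using closure_induction with
      | mem z hz => exact hz.elim (hKh z) (hKd z)
      | one => intro x hx; simpa using hx
      | mul a b _ _ ea eb =>
        intro x hx
        have := ea _ (eb x hx)
        rwa [show a * (b * x * b⁻¹) * a⁻¹ = a * b * x * (a * b)⁻¹ by group] at this
      | inv a ha ea =>
        intro x hx
        have hmap : K.map (MulAut.conj a).toMonoidHom = K :=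
          eq_of_le_of_card_ge (by rintro _ ⟨y, hy, rfl⟩; exact ea y hy)
            (card_map_of_injective (MulAut.conj a).injective).ge
        obtain ⟨y, hy, hyx⟩ := hmap.ge hx
        have : a * y * a⁻¹ = x := hyx
        rw [← this, inv_inv, show a⁻¹ * (a * y * a⁻¹) * a = y by group]
        exact hy
    have hKU : ∀ u ∈ U, ∀ x ∈ K, u * x * u⁻¹ ∈ K := by
      intro u hu x hx
      refine ⟨?_, hDE u (hU hu) x hx.2⟩
      have hmap : H1.map (MulAut.conj u).toMonoidHom ≤ H1 := by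
        rw [hH1, Subgroup.map_sup]
        refine sup_le_sup ?_ ?_
        · rintro _ ⟨y, hy, rfl⟩; exact hK0U u hu y hy
        · rintro _ ⟨y, hy, rfl⟩; exact hD1n u (hDE u (hU hu)) y hy
      exact hmap ⟨x, hx.1, rfl⟩
    -- `U` centralises `D` modulo `K`
    have hUD : ∀ d ∈ D, ∀ u ∈ U, u * d * u⁻¹ * d⁻¹ ∈ K := by
      let T : Subgroup G :=
        { carrier := {d | d ∈ D ∧ ∀ u ∈ U, u * d * u⁻¹ * d⁻¹ ∈ K}
          one_mem' := ⟨one_mem _, fun u _ => by simp⟩
          mul_mem' := by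
            rintro a b ⟨ha, ea⟩ ⟨hb, eb⟩
            refine ⟨mul_mem ha hb, fun u hu => ?_⟩
            have := mul_mem (ea u hu) (hKd a ha _ (eb u hu))
            rwa [show u * a * u⁻¹ * a⁻¹ * (a * (u * b * u⁻¹ * b⁻¹) * a⁻¹) =
              u * (a * b) * u⁻¹ * (a * b)⁻¹ by group] at this
          inv_mem' := by
            rintro a ⟨ha, ea⟩
            refine ⟨inv_mem ha, fun u hu => ?_⟩
            have := hKd a⁻¹ (inv_mem ha) _ (inv_mem (ea u hu))
            rwa [show a⁻¹ * (u * a * u⁻¹ * a⁻¹)⁻¹ * a⁻¹⁻¹ = u * a⁻¹ * u⁻¹ * a⁻¹⁻¹ by group] at this }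
      haveI : IsMulCommutative B := ⟨⟨fun a b => Subtype.ext (hEc a (hB a.2) b (hB b.2))⟩⟩
      have hle : D ≤ T := by
        refine CfsgLib.LocalEven.le_of_centralizers_le (p := 2) (A := B)
          (fun a ha => by rw [sq]; exact hE2 a (hB ha)) hB4 (fun a ha => mem_normalizer_iff.2 fun x =>
            ⟨hDE a (hB ha) x, fun hx => by
              have h1 := hDE a⁻¹ (inv_mem (hB ha)) _ hx
              rwa [show a⁻¹ * (a * x * a⁻¹) * a⁻¹⁻¹ = x by group] at h1⟩)
          (fun h2 => hW (h2.trans (card_dvd_of_le hDW))) fun b hb hb1 => ?_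
        rintro d ⟨hd, hdb⟩
        refine ⟨hd, fun u hu => mem_inf.2 ⟨?_, mul_mem (hDE u (hU hu) d hd) (inv_mem hd)⟩⟩
        refine le_sup_left (b := D1) ((le_iSup (fun b : {b : G // b ∈ B ∧ b ≠ 1} =>
          ⁅W ⊓ centralizer ({(b : G)} : Set G), U⁆) ⟨b, hb, hb1⟩) ?_)
        rw [commutator_comm]
        exact commutator_mem_commutator hu ⟨hDW hd, hdb⟩
      exact fun d hd => (hle hd).2
    -- so `W` does
    let Z : Subgroup G :=
      { carrier := {g | g ∈ W ∧ ∀ d ∈ D, g * d * g⁻¹ * d⁻¹ ∈ K}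
        one_mem' := ⟨one_mem _, fun d _ => by simp⟩
        mul_mem' := by
          rintro a b ⟨ha, ea⟩ ⟨hb, eb⟩
          refine ⟨mul_mem ha hb, fun d hd => ?_⟩
          have := mul_mem (hKW a ha _ (eb d hd)) (ea d hd)
          rwa [show a * (b * d * b⁻¹ * d⁻¹) * a⁻¹ * (a * d * a⁻¹ * d⁻¹) =
            a * b * d * (a * b)⁻¹ * d⁻¹ by group] at this
        inv_mem' := by
          rintro a ⟨ha, ea⟩
          refine ⟨inv_mem ha, fun d hd => ?_⟩
          have := hKW a⁻¹ (inv_mem ha) _ (inv_mem (ea d hd))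
          rwa [show a⁻¹ * (a * d * a⁻¹ * d⁻¹)⁻¹ * a⁻¹⁻¹ = a⁻¹ * d * a⁻¹⁻¹ * d⁻¹ by group] at this }
    have hWZ : W ≤ Z := by
      rw [← heq, commutator_comm, commutator_le]
      intro u hu w hw
      have hwu : u * w * u⁻¹ * w⁻¹ ∈ W :=
        mul_mem ((mem_normalizer_iff.1 (hEW (hU hu)) w).1 hw) (inv_mem hw)
      refine ⟨hwu, fun d hd => ?_⟩
      -- `u` fixes `d` and `w⁻¹ d w` modulo `K`
      set e := w⁻¹ * d * w with he
      have heD : e ∈ D := by
        have := hDn w⁻¹ (inv_mem hw) d hd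
        rwa [inv_inv] at this
      set k1 := u⁻¹ * e * u⁻¹⁻¹ * e⁻¹ with hk1def
      have hk1 : k1 ∈ K := hUD e heD u⁻¹ (inv_mem hu)
      have hfin : u * w * u⁻¹ * w⁻¹ * d * (u * w * u⁻¹ * w⁻¹)⁻¹ * d⁻¹ =
          u * (w * k1 * w⁻¹) * u⁻¹ * (u * d * u⁻¹ * d⁻¹) := by
        rw [hk1def, he]; group
      show ⁅u, w⁆ * d * ⁅u, w⁆⁻¹ * d⁻¹ ∈ K
      rw [commutatorElement_def, hfin]
      exact mul_mem (hKU u hu _ (hKW w hw _ hk1)) (hUD d hd u hu)
    -- `H1` is normal in `W` with quotient centralised by `U`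
    have hdH1 : ∀ d ∈ D, ∀ x ∈ H1, d * x * d⁻¹ ∈ H1 := by
      intro d hd x hx
      rw [hH1, sup_eq_closure] at hx
      induction hx using closure_induction with
      | mem z hz =>
        rcases hz with hz | hz
        · have := (hWZ (hK0W hz)).2 d hd
          have h2 : d * z * d⁻¹ = (z * d * z⁻¹ * d⁻¹)⁻¹ * z := by group
          rw [h2]
          exact mul_mem (inv_mem this.1) (le_sup_left (b := D1) hz)
        · exact le_sup_right (a := K0) (hD1n d (fun y hy => mul_mem (mul_mem hd hy) (inv_mem hd)) z hz)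
      | one => simp
      | mul a b _ _ ea eb =>
        rw [show d * (a * b) * d⁻¹ = d * a * d⁻¹ * (d * b * d⁻¹) by group]
        exact mul_mem ea eb
      | inv a _ ea =>
        rw [show d * a⁻¹ * d⁻¹ = (d * a * d⁻¹)⁻¹ by group]
        exact inv_mem ea
    have hH1W : H1 ≤ W := sup_le hK0W (hD1D.trans hDW)
    have hWn : ∀ w ∈ W, ∀ x ∈ H1, w * x * w⁻¹ ∈ H1 := by
      intro w hw
      have hw' := hWD hw
      rw [sup_eq_closure] at hw'
      clear hw
      induction hw' using closure_induction with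
      | mem z hz =>
        exact hz.elim (fun hz x hx => mul_mem (mul_mem (le_sup_left (b := D1) hz) hx)
          (inv_mem (le_sup_left (b := D1) hz))) (hdH1 z)
      | one => intro x hx; simpa using hx
      | mul a b _ _ ea eb =>
        intro x hx
        have := ea _ (eb x hx)
        rwa [show a * (b * x * b⁻¹) * a⁻¹ = a * b * x * (a * b)⁻¹ by group] at this
      | inv a ha ea =>
        intro x hx
        have hmap : H1.map (MulAut.conj a).toMonoidHom = H1 :=
          eq_of_le_of_card_ge (by rintro _ ⟨y, hy, rfl⟩; exact ea y hy)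
            (card_map_of_injective (MulAut.conj a).injective).ge
        obtain ⟨y, hy, hyx⟩ := hmap.ge hx
        have : a * y * a⁻¹ = x := hyx
        rw [← this, inv_inv, show a⁻¹ * (a * y * a⁻¹) * a = y by group]
        exact hy
    have hU' : ∀ u ∈ U, ∀ w ∈ W, u * w * u⁻¹ * w⁻¹ ∈ H1 := by
      intro u hu w hw
      have hw' := hWD hw
      rw [sup_eq_closure] at hw'
      induction hw' using closure_induction with
      | mem z hz =>
        rcases hz with hz | hz
        · exact mul_mem (le_sup_left (b := D1) (hK0U u hu z hz)) (inv_mem (le_sup_left (b := D1) hz))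
        · exact (hUD z hz u hu).1
      | one => simp
      | mul a b ha hb ea eb =>
        rw [← sup_eq_closure] at ha hb
        have haW : a ∈ W := sup_le hK0W hDW ha
        have hbW : b ∈ W := sup_le hK0W hDW hb
        have := mul_mem (ea haW) (hWn a haW _ (eb hbW))
        rwa [show u * a * u⁻¹ * a⁻¹ * (a * (u * b * u⁻¹ * b⁻¹) * a⁻¹) =
          u * (a * b) * u⁻¹ * (a * b)⁻¹ by group] at this
      | inv a ha ea =>
        rw [← sup_eq_closure] at ha
        have haW : a ∈ W := sup_le hK0W hDW ha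
        have := hWn a⁻¹ (inv_mem haW) _ (inv_mem (ea haW))
        rwa [show a⁻¹ * (u * a * u⁻¹ * a⁻¹)⁻¹ * a⁻¹⁻¹ = u * a⁻¹ * u⁻¹ * a⁻¹⁻¹ by group] at this
    rw [← heq, commutator_comm, commutator_le]
    intro u hu w hw
    exact hU' u hu w hw

/-- The coprime lemma as an equality. -/
theorem coprime_gen_eq {E U B W : Subgroup G} (hW : ¬ 2 ∣ Nat.card W) (hsol : Group.IsSolvable W)
    (hEc : ∀ a ∈ E, ∀ b ∈ E, a * b = b * a) (hE2 : ∀ a ∈ E, a * a = 1)
    (hEW : E ≤ normalizer (W : Set G)) (hU : U ≤ E) (hB : B ≤ E) (hB4 : 4 ≤ Nat.card B)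
    (heq : ⁅W, U⁆ = W) :
    W = ⨆ b : {b : G // b ∈ B ∧ b ≠ 1}, ⁅W ⊓ centralizer ({(b : G)} : Set G), U⁆ :=
  le_antisymm
    (coprime_gen hW hsol hEc hE2 hEW hU hB hB4
      (fun b hb hb1 => le_iSup (fun b : {b : G // b ∈ B ∧ b ≠ 1} =>
        ⁅W ⊓ centralizer ({(b : G)} : Set G), U⁆) ⟨b, hb, hb1⟩) heq)
    (iSup_le fun b => (commutator_mono inf_le_left le_rfl).trans heq.le)

end CfsgLib.Walter
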