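import Cfsg.Agent.Lib.Signalizer.Solvable.Main

/-!
Owner: helper11. An odd group acted on by a noncyclic elementary 2-group: commutators with a set `U`
lie in `W` as soon as those of the fixed points do.
-/

set_option autoImplicit false
set_option linter.all false

namespace CfsgLib.Walter.Fixed

open Subgroup
open scoped commutatorElement

variable {G : Type*} [Group G]

theorem cj_mem {H : Subgroup G} {g : G} (hg : g ∈ normalizer (H : Set G)) {x : G} (hx : x ∈ H) :
    g * x * g⁻¹ ∈ H := (mem_normalizer_iff.mp hg x).mp hx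

variable [Finite G]

/-- `{y ∈ H | [y, U] ⊆ W}` is everything as soon as it contains the fixed points of a noncyclic group. -/
theorem commutators_mem_of_fixed {A H U W : Subgroup G} (hA : Cfsg.IsElementaryAbelian 2 A)
    (h4 : 4 ≤ Nat.card A) (hAH : A ≤ normalizer (H : Set G)) (hH : Odd (Nat.card H))
    (hHW : H ≤ normalizer (W : Set G))
    (h : ∀ c ∈ A, c ≠ 1 → ∀ y ∈ H ⊓ centralizer ({c} : Set G), ∀ u ∈ U, ⁅y, u⁆ ∈ W) :
    ∀ y ∈ H, ∀ u ∈ U, ⁅y, u⁆ ∈ W := by
  let J : Subgroup G :=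
    { carrier := {y | y ∈ normalizer (W : Set G) ∧ ∀ u ∈ U, ⁅y, u⁆ ∈ W}
      one_mem' := ⟨one_mem _, fun u _ => by rw [commutatorElement_one_left]; exact W.one_mem⟩
      mul_mem' := fun {x y} hx hy => ⟨mul_mem hx.1 hy.1, fun u hu => by
        rw [commutatorElement_mul_left_eq_conj_mul]
        exact W.mul_mem (cj_mem hx.1 (hy.2 u hu)) (hx.2 u hu)⟩
      inv_mem' := fun {x} hx => ⟨inv_mem hx.1, fun u hu => by
        rw [show ⁅x⁻¹, u⁆ = x⁻¹ * ⁅x, u⁆⁻¹ * (x⁻¹)⁻¹ by simp only [commutatorElement_def]; group]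
        exact cj_mem (inv_mem hx.1) (W.inv_mem (hx.2 u hu))⟩ }
  have hle : H ≤ J := CfsgLib.Signalizer.Solv.le_of_fixed_le hA (by simpa using h4) hAH
    (fun hd => Nat.not_even_iff_odd.mpr hH (even_iff_two_dvd.mpr hd))
    fun c hc hc1 y hy => ⟨hHW hy.1, h c hc hc1 y hy⟩
  exact fun y hy => (hle hy).2

end CfsgLib.Walter.Fixed
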