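import Cfsg.Agent.Lib.Recog.Walter.RankThreeShape
import Cfsg.Agent.Lib.Recog.Walter.CentralMeet
import Cfsg.Agent.Lib.AbelianSolvCent.Main

/-!
Owner: helper15. Walter, S9: the induction.

* `RankThreeStep`, `RankFourStep`: what slices S2 and S3–S8 deliver.
* `structureTheorem`: the structure theorem from them; `centralizerShape`: the form used by S3182.
-/

set_option autoImplicit false
set_option linter.style.haveILetI false
set_option linter.unusedSectionVars false

namespace CfsgLib.Walter

open Subgroup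
open CfsgLib.AbelianSolvCent (AbSylow SolvCent omegaS)

universe u

/-- Rank three. -/
def RankThreeStep : Prop :=
  ∀ (G : Type u) [Group G] [Finite G] [IsSimpleGroup G] (S : Sylow 2 G), Smaller G → Three.Setting S →
    IsWalterType G

/-- Rank at least four: every involution centralizer is solvable. -/
def RankFourStep : Prop :=
  ∀ (G : Type u) [Group G] [Finite G] [IsSimpleGroup G], ¬ IsMulCommutative G → ∀ (hA : AbSylow G), Smaller G →
    ∀ S : Sylow 2 G, 16 ≤ Nat.card (omegaS S (hA S)) → SolvCent G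

variable {G : Type u} [Group G] [Finite G] [IsSimpleGroup G]

/-- Solvable centralizers give the first two types. -/
theorem isWalterType_of_solvCent (hG : ¬ IsMulCommutative G) (hA : AbSylow G) (hC : SolvCent G) :
    IsWalterType G := by
  obtain ⟨F, iF, iFt, hq, e⟩ := CfsgLib.AbelianSolvCent.simple_case (not_isSolvable hG) hA hC
  rcases hq with ⟨hq, h5⟩ | ⟨n, hn, hF⟩
  · exact Or.inr (Or.inl ⟨F, iF, iFt, h5, hq, e⟩)
  · exact Or.inl ⟨n, hn, F, iF, iFt, hF, e⟩

/-- Rank at most two, or at least eight elements of square one. -/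
theorem small_or_eight (hG : ¬ IsMulCommutative G) (hA : AbSylow G) (S : Sylow 2 G) :
    IsWalterType G ∨ 8 ≤ Nat.card (omegaS S (hA S)) := by
  classical
  haveI : Fact (Nat.Prime 2) := ⟨Nat.prime_two⟩
  have hns := not_isSolvable hG
  have hodd : ∀ N : Subgroup G, Odd (Nat.card N) → Group.IsSolvable N := fun N h => Cfsg.Agent.S0205.result h
  letI : CommGroup ↥(S : Subgroup G) :=
    { (inferInstance : Group ↥(S : Subgroup G)) with mul_comm := (hA S).is_comm.comm }
  rcases CfsgLib.AbelianSolvCent.abelian_cases (S := ↥(S : Subgroup G)) S.2 with h | h | ⟨N, hN, hNc, hQc, hQ⟩ | h8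
  · exact absurd (CfsgLib.OddGated.isSolvable_of_complement hodd (CfsgLib.OddGated.complement_of_cyclic S h)) hns
  · obtain ⟨F, iF, iFt, ⟨hq, h5⟩, e⟩ := CfsgLib.AbelianSolvCent.four_case hns S h
    exact Or.inl (Or.inr (Or.inl ⟨F, iF, iFt, h5, hq, e⟩))
  · haveI := hN
    exact absurd (CfsgLib.OddGated.isSolvable_metacyclic hodd S N hNc hQc hQ) hns
  · refine Or.inr (h8.trans (le_of_eq (Nat.card_congr ?_)))
    exact
      { toFun := fun x => ⟨x.1, x.1.2, congrArg Subtype.val x.2⟩
        invFun := fun x => ⟨⟨x, x.2.1⟩, Subtype.ext x.2.2⟩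
        left_inv := fun _ => rfl
        right_inv := fun _ => rfl }

/-- The order of `Ω₁(S)` is a power of two. -/
theorem eight_or_sixteen (S : Sylow 2 G) (hS : IsMulCommutative ↥(S : Subgroup G))
    (h : 8 ≤ Nat.card (omegaS S hS)) : Nat.card (omegaS S hS) = 8 ∨ 16 ≤ Nat.card (omegaS S hS) := by
  have hp : IsPGroup 2 (omegaS S hS) := fun x => ⟨1, Subtype.ext (by simpa [pow_two] using x.2.2)⟩
  haveI : Fact (Nat.Prime 2) := ⟨Nat.prime_two⟩
  obtain ⟨k, hk⟩ := hp.exists_card_eq
  rw [hk] at h ⊢
  have h3 : 3 ≤ k := (Nat.pow_le_pow_iff_right (le_refl 2)).1 h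
  rcases Nat.eq_or_lt_of_le h3 with rfl | h4
  · exact Or.inl rfl
  · exact Or.inr (le_trans (by norm_num) (Nat.pow_le_pow_right two_pos (show 4 ≤ k by omega)))

omit [Finite G] [IsSimpleGroup G] in
theorem smaller_of_forall {n : ℕ} (hn : Nat.card G = n) (ih : ∀ m < n, ∀ (K : Type u) [Group K] [Finite K]
    [IsSimpleGroup K], ¬ IsMulCommutative K → AbSylow K → Nat.card K = m → IsWalterType K) : Smaller G :=
  fun K _ _ _ hna hA hlt => ih _ (hn ▸ hlt) K hna hA rfl

/-- **Walter's structure theorem, from the two steps.** -/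
theorem structureTheorem_of_steps (h3 : RankThreeStep.{u}) (h4 : RankFourStep.{u}) : StructureTheorem.{u} := by
  suffices h : ∀ n, ∀ (K : Type u) [Group K] [Finite K] [IsSimpleGroup K], ¬ IsMulCommutative K → AbSylow K →
      Nat.card K = n → IsWalterType K from fun G _ _ _ hG hA => h _ G hG hA rfl
  intro n
  induction n using Nat.strong_induction_on with
  | _ n ih =>
    intro G _ _ _ hG hA hn
    classical
    have hI : Smaller G := smaller_of_forall hn ih
    obtain ⟨S⟩ := (inferInstance : Nonempty (Sylow 2 G))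
    rcases small_or_eight hG hA S with h | h8
    · exact h
    by_cases hC : SolvCent G
    · exact isWalterType_of_solvCent hG hA hC
    rcases eight_or_sixteen S (hA S) h8 with h | h
    · exact h3 G S hI (setting_of_eight hG hA hI S h hC)
    · exact absurd (h4 G hG hA hI S h) hC

/-- A group of rank at least three in the centralizer form. -/
theorem centralizerShape (hW : StructureTheorem.{u}) : CentralizerShape.{u} := by
  intro G _ _ _ hG hA hrk
  rcases hW G hG hA with h | h | h
  · exact Or.inl h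
  · exfalso
    refine hrk fun A hAc hA2 => ?_
    haveI : Fact (Nat.Prime 2) := ⟨Nat.prime_two⟩
    obtain ⟨P, hP⟩ := (show IsPGroup 2 A from fun a => ⟨1, Subtype.ext (by simpa using hA2 a a.2)⟩).exists_le_sylow
    exact ((card_le_of_le hP).trans (Sections.card_sylow h.pslData P).le).trans (by norm_num)
  · obtain ⟨-, -, -, hc⟩ := h
    haveI : Fact (Nat.Prime 2) := ⟨Nat.prime_two⟩
    obtain ⟨t, ht⟩ := CfsgLib.AbelianSolvCent.exists_involution (not_isSolvable hG)
    obtain ⟨E, hE, F, iF, iFt, h5, hq, hN⟩ := hc t ht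
    exact Or.inr ⟨t, ht, E, hE, F, iF, iFt, Nat.odd_iff.2 (by omega), by omega, hN⟩

end CfsgLib.Walter
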