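import Cfsg.Agent.Lib.Recog.Walter.SmallU2Local

/-!
Owner: helper23. Walter, slice S3 (Pairs): the component seen at another centralizer.

* `resOf`: the last term of the derived series of a subgroup.
* `perfect_le_normalizer`: without odd core, a perfect subgroup normalizes every component.
* `exists_seen`: if `u` centralizes the component `K` of `C(a)/O(C(a))`, some component `K'` of `C(u)/O(C(u))`
  has a larger pair and contains a perfect image `Q` of the preimage of `K` (`Image`).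
* `Image.iso_of_commute`: if `a` centralizes `K'`, then `K ≅ K'`.
* `Image.jr_of_not_commute`: otherwise `K'` is of Janko–Ree type and `K ≅ N`.
-/

set_option autoImplicit false
set_option linter.style.haveILetI false
set_option linter.unusedSectionVars false

namespace CfsgLib.Walter.Seen

open Subgroup
open scoped commutatorElement
open CfsgLib.AbelianSolvCent (AbSylow)

universe u

section gen

variable {G H : Type*} [Group G] [Finite G] [Group H] [Finite H]

/-- The last term of the derived series of a subgroup. -/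
def resOf (Y : Subgroup G) : Subgroup G := (Three.res ↥Y).map Y.subtype

theorem resOf_le (Y : Subgroup G) : resOf Y ≤ Y := map_subtype_le _

theorem resOf_perfect (Y : Subgroup G) : ⁅resOf Y, resOf Y⁆ = resOf Y := by
  rw [resOf, ← map_commutator, Three.res_perfect]

theorem le_resOf {P Y : Subgroup G} (hP : ⁅P, P⁆ = P) (h : P ≤ Y) : P ≤ resOf Y := by
  have h1 : P.subgroupOf Y ≤ Three.res ↥Y := Three.le_res (map_injective Y.subtype_injective (by
    rw [map_commutator, map_subgroupOf_eq_of_le h, hP]))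
  exact (map_subgroupOf_eq_of_le h).ge.trans (map_mono h1)

theorem resOf_eq {P : Subgroup G} (hP : ⁅P, P⁆ = P) : resOf P = P :=
  le_antisymm (resOf_le P) (le_resOf hP le_rfl)

theorem map_resOf (f : G →* H) (Y : Subgroup G) : (resOf Y).map f = resOf (Y.map f) := by
  rw [resOf, resOf, ← Three.map_res (MonoidHom.subgroupMap_surjective f Y), map_map, map_map]
  rfl

theorem normalizer_le_resOf (Y : Subgroup G) :
    normalizer (Y : Set G) ≤ normalizer (resOf Y : Set G) := fun g hg => by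
  rw [mem_normalizer_iff_map_conj_eq] at hg ⊢
  rw [map_resOf, hg]

/-- A perfect subgroup of an image is the image of a perfect subgroup. -/
theorem exists_perfect_lift (f : G →* H) {P : Subgroup H} (hP : ⁅P, P⁆ = P) (h : P ≤ f.range) :
    ∃ Z : Subgroup G, ⁅Z, Z⁆ = Z ∧ Z.map f = P :=
  ⟨resOf (P.comap f), resOf_perfect _, by rw [map_resOf, map_comap_eq_self h, resOf_eq hP]⟩

theorem eq_bot_of_solvable {P : Subgroup G} (hP : ⁅P, P⁆ = P) (h : Group.IsSolvable P) : P = ⊥ := by
  rw [← resOf_eq hP, resOf, Three.res_eq_bot h, Subgroup.map_bot]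

theorem eq_bot_of_odd {P : Subgroup G} (hP : ⁅P, P⁆ = P) (h : Odd (Nat.card P)) : P = ⊥ :=
  eq_bot_of_solvable hP (Cfsg.Agent.S0205.result h)

theorem not_comm_of_perfect {P : Subgroup G} (hP : ⁅P, P⁆ = P) (h : P ≠ ⊥) : ¬ IsMulCommutative ↥P :=
  fun hc => h (eq_bot_of_solvable hP (Group.isSolvable_of_comm hc.is_comm.comm))

/-- A normal subgroup covering a perfect group up to a subgroup of odd order is everything. -/
theorem le_of_odd_cover {P N M : Subgroup G} (hP : ⁅P, P⁆ = P) (hN : P ≤ normalizer (N : Set G))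
    (hM : Odd (Nat.card M)) (hcov : ∀ r ∈ P, ∃ n ∈ N, n⁻¹ * r ∈ M ∧ n ∈ P) : P ≤ N := by
  haveI : (N.subgroupOf P).Normal := ⟨fun x hx g => (mem_normalizer_iff.1 (hN g.2) _).1 hx⟩
  set q := QuotientGroup.mk' (N.subgroupOf P) with hq
  have hsurj : Function.Surjective (q.comp (M.subgroupOf P).subtype) := by
    intro y
    obtain ⟨r, rfl⟩ := QuotientGroup.mk'_surjective _ y
    obtain ⟨n, hn, hnr, hnP⟩ := hcov r r.2
    refine ⟨⟨⟨n⁻¹ * r, mul_mem (inv_mem hnP) r.2⟩, hnr⟩, ?_⟩
    show q ⟨n⁻¹ * r, _⟩ = q r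
    rw [hq, QuotientGroup.mk'_apply, QuotientGroup.mk'_apply, QuotientGroup.eq, mem_subgroupOf]
    have : ((n⁻¹ * (r : G))⁻¹ * (r : G)) = (r : G)⁻¹ * n * r := by group
    show (n⁻¹ * (r : G))⁻¹ * (r : G) ∈ N
    rw [this]
    simpa using (mem_normalizer_iff.1 (hN (inv_mem r.2)) n).1 hn
  have hodd : Odd (Nat.card (↥P ⧸ N.subgroupOf P)) := hM.of_dvd_nat
    ((card_dvd_of_surjective _ hsurj).trans (by
      rw [← card_map_of_injective P.subtype_injective]
      exact card_dvd_of_le (map_comap_le _ _)))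
  have h1 : (Three.res ↥P).map q = ⊥ := by
    rw [Three.map_res (QuotientGroup.mk'_surjective _), Three.res_eq_bot (Cfsg.Agent.S0205.result hodd)]
  intro r hr
  have htop : (⊤ : Subgroup ↥P) ≤ Three.res ↥P := Three.le_res (map_injective P.subtype_injective (by
    rw [map_commutator, ← MonoidHom.range_eq_map, range_subtype, hP]))
  have h2 : q ⟨r, hr⟩ = 1 := mem_bot.1 (h1 ▸ mem_map_of_mem q (htop (mem_top _)))
  have h3 : (⟨r, hr⟩ : ↥P) ∈ N.subgroupOf P := (QuotientGroup.eq_one_iff _).1 h2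
  exact h3

theorem le_normalizer_inf_ker (R : Subgroup G) {T : Type*} [Group T] (f : G →* T) :
    R ≤ normalizer ((R ⊓ f.ker : Subgroup G) : Set G) := fun y hy => mem_normalizer_iff.2 fun z => by
  simp only [Subgroup.mem_inf, MonoidHom.mem_ker, map_mul, map_inv]
  refine and_congr ⟨fun h => R.mul_mem (R.mul_mem hy h) (R.inv_mem hy), fun h => ?_⟩
    ⟨fun h => by rw [h, mul_one, mul_inv_cancel], fun h => ?_⟩
  · have h1 := R.mul_mem (R.mul_mem (R.inv_mem hy) h) hy
    rwa [show y⁻¹ * (y * z * y⁻¹) * y = z by group] at h1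
  · exact conj_eq_one_iff.1 h

end gen

section layer

variable {X : Type u} [Group X] [Finite X] (hA : AbSylow X) (hO : Cfsg.oddCore X = ⊥)
include hA hO

/-- A perfect subgroup lies in the layer. -/
theorem perfect_le_layer {P : Subgroup X} (hP : ⁅P, P⁆ = P) : P ≤ Cfsg.layer X := by
  haveI : Fact (Nat.Prime 2) := ⟨Nat.prime_two⟩
  haveI := CfsgLib.Components.layer_normal (G := X)
  set T := Cfsg.pCore 2 X ⊔ Cfsg.layer X with hT
  have hPT : P ≤ T := by
    intro p hp
    have hodd : Odd (Nat.card (X ⧸ T)) := Sections.odd_index hA hO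
    have h1 : (Three.res X).map (QuotientGroup.mk' T) = ⊥ := by
      rw [Three.map_res (QuotientGroup.mk'_surjective _), Three.res_eq_bot (Cfsg.Agent.S0205.result hodd)]
    exact (QuotientGroup.eq_one_iff _).1 (mem_bot.1 (h1 ▸ mem_map_of_mem _ (Three.le_res hP hp)))
  set q := QuotientGroup.mk' (Cfsg.layer X) with hq
  have hTq : ∀ g ∈ T, ∃ t ∈ Cfsg.pCore 2 X, q g = q t := fun g hg => by
    obtain ⟨t, ht, y, hy, rfl⟩ := (CfsgLib.Core.mem_sup_iff_mul (H := Cfsg.pCore 2 X) (N := Cfsg.layer X)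
      (by rw [normalizer_eq_top_iff.2 inferInstance]; exact le_top)).1 hg
    refine ⟨t, ht, ?_⟩
    rw [map_mul, show q y = 1 from (QuotientGroup.eq_one_iff _).2 hy, mul_one]
  rw [← hP]
  refine (commutator_mono hPT hPT).trans (commutator_le.2 fun g hg g' hg' => ?_)
  obtain ⟨t, ht, e⟩ := hTq g hg
  obtain ⟨t', ht', e'⟩ := hTq g' hg'
  obtain ⟨S⟩ := (inferInstance : Nonempty (Sylow 2 X))
  refine (QuotientGroup.eq_one_iff _).1 ?_
  show q ⁅g, g'⁆ = 1
  rw [map_commutatorElement, e, e', ← map_commutatorElement, commutatorElement_eq_one_iff_mul_comm.2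
    (Sections.sylow_comm S (hA S) (CfsgLib.Core.pCore_le_sylow S ht) (CfsgLib.Core.pCore_le_sylow S ht')),
    map_one]

/-- A perfect subgroup normalizes every component. -/
theorem perfect_le_normalizer {P : Subgroup X} (hP : ⁅P, P⁆ = P) {K : Subgroup X}
    (hK : Cfsg.IsComponent K) : P ≤ normalizer (K : Set X) :=
  (perfect_le_layer hA hO hP).trans (CfsgLib.Components.component_le_normalizer_layer_member hK)

/-- A perfect subgroup lies in `K C(K)`. -/
theorem perfect_le_sup {P : Subgroup X} (hP : ⁅P, P⁆ = P) {K : Subgroup X} (hK : Cfsg.IsComponent K) :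
    P ≤ K ⊔ centralizer (K : Set X) := by
  refine (perfect_le_layer hA hO hP).trans (CfsgLib.Components.layer_le_iff.2 fun L hL => ?_)
  rcases eq_or_ne L K with rfl | hne
  · exact le_sup_left
  · exact le_sup_of_le_right
      (commutator_eq_bot_iff_le_centralizer.1 (CfsgLib.Components.components_commute hL hK hne))

/-- A nontrivial perfect subgroup acts on some component. -/
theorem exists_component {P : Subgroup X} (hP : ⁅P, P⁆ = P) (hP1 : P ≠ ⊥) :
    ∃ K : Subgroup X, Cfsg.IsComponent K ∧ ¬ P ≤ centralizer (K : Set X) := by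
  by_contra hno
  push Not at hno
  refine hP1 ((eq_bot_iff_forall _).2 fun p hp => ?_)
  refine Sections.eq_one_of_mem_center_layer hA hO (perfect_le_layer hA hO hP hp) fun e he => ?_
  have hle : Cfsg.layer X ≤ centralizer ({p} : Set X) := CfsgLib.Components.layer_le_iff.2 fun L hL k hk =>
    mem_centralizer_singleton_iff.2 (mem_centralizer_iff.1 (hno L hL hp) k hk)
  exact (mem_centralizer_singleton_iff.1 (hle he)).symm

end layer

section sections

variable {K : Type u} [Group K] [Finite K] (hA : AbSylow K)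
include hA

/-- A perfect subgroup centralizing an involution of `PSL(2, q)`, `q ≡ 3, 5 (mod 8)`, is trivial. -/
theorem eq_bot_centralizer (D : CfsgLib.AbelianPSL.PSLData K) {x : K} (hx : orderOf x = 2) {Q : Subgroup K}
    (hQ : ⁅Q, Q⁆ = Q) (hQC : Q ≤ centralizer ({x} : Set K)) : Q = ⊥ := by
  haveI : Fact (Nat.Prime 2) := ⟨Nat.prime_two⟩
  refine eq_bot_of_solvable hQ (CfsgLib.OddGated.isSolvable_of_complement
    (fun N hN => Cfsg.Agent.S0205.result hN) ?_ : Group.IsSolvable ↥Q)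
  obtain ⟨T⟩ := (inferInstance : Nonempty (Sylow 2 ↥Q))
  refine CfsgLib.OddGated.complement_of_cyclic T ?_
  obtain ⟨P, hP⟩ := ((T.2.map Q.subtype).to_sup_of_normal_right'
    (CfsgLib.Signalizer.isPGroup_zpowers_involution hx) (by
      rintro _ ⟨g, _, rfl⟩
      refine mem_normalizer_iff_map_conj_eq.2 ?_
      rw [MonoidHom.map_zpowers]
      show zpowers ((g : K) * x * (g : K)⁻¹) = _
      rw [mem_centralizer_singleton_iff.1 (hQC g.2), mul_inv_cancel_right])).exists_le_sylow
  have hxP : x ∈ (P : Subgroup K) := hP (mem_sup_right (mem_zpowers x))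
  have hxT : x ∉ (T : Subgroup ↥Q).map Q.subtype := by
    rintro ⟨⟨y, hy⟩, hyT, rfl⟩
    have hperf : commutator ↥Q = ⊤ := map_injective Q.subtype_injective (by
      rw [map_subtype_commutator, ← MonoidHom.range_eq_map, range_subtype, hQ])
    exact Three.not_central_of_perfect hperf T (CfsgLib.AbelianSolvCent.abSylow_subgroup hA Q T)
      ((Subgroup.orderOf_mk _ _).trans hx) hyT
      (mem_center_iff.2 fun g => Subtype.ext (mem_centralizer_singleton_iff.1 (hQC g.2)))
  have h1 : Nat.card (T : Subgroup ↥Q) < 4 := by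
    rw [← card_map_of_injective Q.subtype_injective, ← Sections.card_sylow D P]
    refine lt_of_le_of_ne (card_le_of_le (le_sup_left.trans hP)) fun e => hxT ?_
    exact (eq_of_le_of_card_ge (le_sup_left.trans hP) e.ge).symm ▸ hxP
  obtain ⟨k, hk⟩ := T.2.exists_card_eq
  rw [hk] at h1
  rcases k with _ | _ | k
  · haveI : Subsingleton ↥(T : Subgroup ↥Q) := (Nat.card_eq_one_iff_unique.1 (by rw [hk, pow_zero])).1
    infer_instance
  · exact isCyclic_of_prime_card (p := 2) (by rw [hk, pow_one])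
  · rw [pow_succ, pow_succ] at h1
    have := Nat.one_le_pow k 2 two_pos
    omega

/-- A perfect subgroup of the centralizer lies in `N`. -/
theorem _root_.CfsgLib.Walter.Sections.Loc.perfect_le {t : K} {Y N : Subgroup K} (L : Sections.Loc t Y N)
    {P : Subgroup K} (hP : ⁅P, P⁆ = P) (hPC : P ≤ centralizer ({t} : Set K)) : P ≤ N := by
  haveI : Fact (Nat.Prime 2) := ⟨Nat.prime_two⟩
  have hPY : P ≤ Y := by
    rw [← hP]
    refine commutator_le.2 fun g hg g' hg' => ?_
    have key : ∀ c ∈ centralizer ({t} : Set K), ∀ d ∈ centralizer ({t} : Set K), ⁅t * c, d⁆ = ⁅c, d⁆ := by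
      intro c hc d hd
      have e1 : ⁅t, d⁆ = 1 := commutatorElement_eq_one_iff_mul_comm.2 (mem_centralizer_singleton_iff.1 hd).symm
      rw [commutatorElement_mul_left_eq_conj_mul, e1, mul_one]
      have hcd : ⁅c, d⁆ ∈ centralizer ({t} : Set K) :=
        commutator_le_self _ (commutator_mem_commutator hc hd)
      rw [← mem_centralizer_singleton_iff.1 hcd, mul_inv_cancel_right]
    have key' : ∀ c ∈ centralizer ({t} : Set K), ∀ d ∈ centralizer ({t} : Set K), ⁅c, t * d⁆ = ⁅c, d⁆ := by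
      intro c hc d hd
      rw [← commutatorElement_inv, key d hd c hc, commutatorElement_inv]
    obtain ⟨e, he, hge⟩ := L.form g (hPC hg)
    obtain ⟨e', he', hge'⟩ := L.form g' (hPC hg')
    have hee : ⁅e, e'⁆ ∈ Y := commutator_le_self Y (commutator_mem_commutator he he')
    have htm : t ∈ centralizer ({t} : Set K) := mem_centralizer_singleton_iff.2 rfl
    rcases hge with rfl | rfl <;> rcases hge' with rfl | rfl
    · exact hee
    · rwa [key' _ (L.le_C he) _ (L.le_C he')]
    · rwa [key _ (L.le_C he) _ (L.le_C he')]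
    · rwa [key _ (L.le_C he) _ (mul_mem htm (L.le_C he')), key' _ (L.le_C he) _ (L.le_C he')]
  haveI : (N.subgroupOf Y).Normal := (normal_subgroupOf_iff_le_normalizer L.le).2 L.nrm
  obtain ⟨T⟩ := (inferInstance : Nonempty (Sylow 2 ↥Y))
  have hT : (T : Subgroup ↥Y) ≤ N.subgroupOf Y := fun y hy => by
    obtain ⟨k, hk⟩ := IsPGroup.iff_orderOf.1 T.2 ⟨y, hy⟩
    rw [Subgroup.orderOf_mk] at hk
    exact L.mem_N_of_two_power hA y.2 ⟨k, (Subgroup.orderOf_coe y).trans hk⟩
  have hodd : Odd (Nat.card (↥Y ⧸ N.subgroupOf Y)) :=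
    (Nat.not_even_iff_odd.1 fun he => T.not_dvd_index (even_iff_two_dvd.1 he)).of_dvd_nat
      (index_dvd_of_le hT)
  have h1 : (Three.res ↥Y).map (QuotientGroup.mk' (N.subgroupOf Y)) = ⊥ := by
    rw [Three.map_res (QuotientGroup.mk'_surjective _), Three.res_eq_bot (Cfsg.Agent.S0205.result hodd)]
  intro p hp
  obtain ⟨y, hy, rfl⟩ := le_resOf hP hPY hp
  have h3 : y ∈ N.subgroupOf Y := (QuotientGroup.eq_one_iff _).1 (mem_bot.1 (h1 ▸ mem_map_of_mem _ hy))
  exact h3

/-- The simple groups `N` of the centralizers of two involutions are isomorphic. -/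
theorem _root_.CfsgLib.Walter.Sections.Loc.iso_of_loc (hT : IsJRType K) {t : K} {Y N : Subgroup K}
    (L : Sections.Loc t Y N) {t' : K} {Y' N' : Subgroup K} (L' : Sections.Loc t' Y' N') :
    Nonempty (↥N ≃* ↥N') := by
  obtain ⟨g, hg⟩ := isConj_iff.1 (Sections.jr_isConj hT L.ord L'.ord)
  have hperf : ∀ {s : K} {Y₀ N₀ : Subgroup K}, Sections.Loc s Y₀ N₀ → ⁅N₀, N₀⁆ = N₀ := fun {s} {Y₀ N₀} L₀ => by
    haveI := L₀.simple
    rw [← map_subtype_commutator, (Sections.simple_perfect L₀.not_comm_N).2, ← MonoidHom.range_eq_map,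
      range_subtype]
  have hmap : ∀ {s s' g : K} {Y₀ N₀ Y₁ N₁ : Subgroup K}, g * s * g⁻¹ = s' → Sections.Loc s Y₀ N₀ →
      Sections.Loc s' Y₁ N₁ → N₀.map (MulAut.conj g).toMonoidHom ≤ N₁ := fun {s s' g} {Y₀ N₀ Y₁ N₁} he L₀ L₁ => by
    refine L₁.perfect_le hA (by rw [← map_commutator, hperf L₀]) ?_
    rintro _ ⟨y, hy, rfl⟩
    refine mem_centralizer_singleton_iff.2 ?_
    show g * y * g⁻¹ * s' = s' * (g * y * g⁻¹)
    rw [← he]
    calc g * y * g⁻¹ * (g * s * g⁻¹) = g * (y * s) * g⁻¹ := by group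
      _ = g * (s * y) * g⁻¹ := by rw [mem_centralizer_singleton_iff.1 (L₀.N_le_C hy)]
      _ = g * s * g⁻¹ * (g * y * g⁻¹) := by group
  have heq : N.map (MulAut.conj g).toMonoidHom = N' := by
    refine le_antisymm (hmap hg L L') fun y hy => ⟨g⁻¹ * y * g, ?_, by simp [mul_assoc]⟩
    have := hmap (g := g⁻¹) (by rw [← hg]; group) L' L ⟨y, hy, rfl⟩
    simpa using this
  exact ⟨(equivMapOfInjective N _ (MulAut.conj g).injective).trans (MulEquiv.subgroupCongr heq)⟩

end sections

/-- The perfect image `Q ≤ K'` of a component isomorphic to `K₀`, centralized by `w`. -/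
structure Image {X : Type u} [Group X] (w : X) (K₀ : Type u) [Group K₀] (K' Q : Subgroup X) : Prop where
  le : Q ≤ K'
  perfect : ⁅Q, Q⁆ = Q
  ne_bot : Q ≠ ⊥
  comm : ∀ q ∈ Q, w * q = q * w
  nrm : ∀ P : Subgroup X, ⁅P, P⁆ = P → (∀ p ∈ P, w * p = p * w) → P ≤ normalizer (Q : Set X)
  iso : IsSimpleGroup ↥Q → Nonempty (K₀ ≃* ↥Q)

section image

variable {X : Type u} [Group X] [Finite X] {w : X} {K₀ : Type u} [Group K₀] {K' Q : Subgroup X}
  (I : Image w K₀ K' Q) (hA : AbSylow X) (hO : Cfsg.oddCore X = ⊥) (hK' : Cfsg.IsComponent K')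
include I hA hO hK'

/-- If `w` centralizes `K'`, then `Q = K'`. -/
theorem Image.iso_of_commute (hw : ∀ k ∈ K', w * k = k * w) : Q = K' ∧ Nonempty (K₀ ≃* ↥K') := by
  haveI := Sections.component_isSimple hA hO hK'
  have hn := I.nrm K' (CfsgLib.Components.IsComponent.commutator_eq_self hK') hw
  haveI : (Q.subgroupOf K').Normal := (normal_subgroupOf_iff_le_normalizer I.le).2 hn
  have he : Q = K' := le_antisymm I.le (subgroupOf_eq_top.1 ((Normal.eq_bot_or_eq_top
    (inferInstance : (Q.subgroupOf K').Normal)).resolve_left fun e => I.ne_bot (by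
      have := congrArg (Subgroup.map K'.subtype) e
      rwa [map_subgroupOf_eq_of_le I.le, Subgroup.map_bot] at this)))
  subst he
  exact ⟨rfl, I.iso inferInstance⟩

/-- If `w` is an involution acting on `K'`, then `K'` is of Janko–Ree type and `K₀ ≅ N`. -/
theorem Image.jr_of_not_commute (hW : IsWalterType ↥K') (S : Sylow 2 X) (hw : w ∈ (S : Subgroup X))
    (hw2 : w * w = 1) (hne : ¬ ∀ k ∈ K', w * k = k * w) :
    IsJRType ↥K' ∧
      ∀ (t : ↥K') (Y N : Subgroup ↥K'), Sections.Loc t Y N → Nonempty (K₀ ≃* ↥N) := by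
  haveI : Fact (Nat.Prime 2) := ⟨Nat.prime_two⟩
  haveI := Sections.component_isSimple hA hO hK'
  obtain ⟨x, hx, hxk⟩ := Sections.exists_projection hA hO S hK' hw
  set x' : ↥K' := ⟨x, hx.2⟩ with hx'
  have hcent : ∀ g : ↥K', g ∈ centralizer ({x'} : Set ↥K') ↔ w * (g : X) = (g : X) * w := fun g => by
    rw [mem_centralizer_singleton_iff, Subtype.ext_iff, Subgroup.coe_mul, Subgroup.coe_mul]
    have h1 := hxk g g.2
    constructor
    · intro e
      change (g : X) * x = x * g at e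
      rw [← e, mul_inv_cancel_right, mul_inv_eq_iff_eq_mul] at h1
      exact h1
    · intro e
      rw [e, mul_inv_cancel_right, eq_mul_inv_iff_mul_eq] at h1
      exact h1
  have hx1 : x' ≠ 1 := fun e => hne fun k hk => (hcent ⟨k, hk⟩).1 (by rw [e]; exact mem_centralizer_singleton_iff.2 (Commute.one_right _).eq)
  have hx2 : orderOf x' = 2 := by
    refine CfsgLib.Signalizer.orderOf_eq_two_of hx1 ?_
    have hc : x' * x' ∈ center ↥K' := mem_center_iff.2 fun g => Subtype.ext (by
      have h1 := hxk g g.2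
      have h2 := hxk _ ((mem_normalizer_iff.1 (Sections.sylow_le_normalizer_component hA hO S hK' hw) g).1 g.2)
      rw [show w * (w * (g : X) * w⁻¹) * w⁻¹ = (w * w) * (g : X) * (w * w)⁻¹ by group, hw2, h1] at h2
      show (g : X) * (x * x) = x * x * (g : X)
      calc (g : X) * (x * x) = (1 * (g : X) * (1 : X)⁻¹) * (x * x) := by simp
        _ = x * (x * (g : X) * x⁻¹) * x⁻¹ * (x * x) := by rw [h2]
        _ = x * x * (g : X) := by group)
    rw [Sections.center_component_eq_bot hA hO hK', mem_bot] at hc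
    exact hc
  set Q' := Q.subgroupOf K' with hQ'
  have hQp : ⁅Q', Q'⁆ = Q' := map_injective K'.subtype_injective (by
    rw [map_commutator, hQ', map_subgroupOf_eq_of_le I.le, I.perfect])
  have hQ1 : Q' ≠ ⊥ := fun e => I.ne_bot (by
    have := congrArg (Subgroup.map K'.subtype) e
    rwa [hQ', map_subgroupOf_eq_of_le I.le, Subgroup.map_bot] at this)
  have hQC : Q' ≤ centralizer ({x'} : Set ↥K') := fun g hg => (hcent g).2 (I.comm _ hg)
  have hAK : AbSylow ↥K' := CfsgLib.AbelianSolvCent.abSylow_subgroup hA K'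
  rcases hW with hT | hT | hT
  · obtain ⟨T⟩ := (inferInstance : Nonempty (Sylow 2 ↥K'))
    haveI := ((hT.elemCent T).hC x' hx2).1
    exact absurd ⟨⟨fun a b => Subtype.ext (congrArg Subtype.val
      ((inferInstance : IsMulCommutative ↥(centralizer ({x'} : Set ↥K'))).is_comm.comm
        ⟨a, hQC a.2⟩ ⟨b, hQC b.2⟩) : (a : ↥K') * b = b * a)⟩⟩ (not_comm_of_perfect hQp hQ1)
  · exact absurd (eq_bot_centralizer hAK hT.pslData hx2 hQp hQC) hQ1
  · refine ⟨hT, ?_⟩
    obtain ⟨Y, N, L⟩ := Sections.exists_loc_of_jr hT hx2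
    haveI := L.simple
    have hNp : ⁅N, N⁆ = N := by
      rw [← map_subtype_commutator, (Sections.simple_perfect L.not_comm_N).2, ← MonoidHom.range_eq_map,
        range_subtype]
    have hQN : Q' ≤ N := L.perfect_le hAK hQp hQC
    have hNQ : N ≤ normalizer (Q' : Set ↥K') := by
      have hle : N.map K'.subtype ≤ normalizer (Q : Set X) := I.nrm _ (by rw [← map_commutator, hNp]) (by
        rintro _ ⟨g, hg, rfl⟩
        exact (hcent g).1 (L.N_le_C hg))
      intro g hg
      have hg' : (g : X) ∈ normalizer (Q : Set X) := hle ⟨g, hg, rfl⟩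
      exact mem_normalizer_iff.2 fun y => mem_normalizer_iff.1 hg' y
    haveI : (Q'.subgroupOf N).Normal := (normal_subgroupOf_iff_le_normalizer hQN).2 hNQ
    have heq : Q' = N := le_antisymm hQN (subgroupOf_eq_top.1 ((Normal.eq_bot_or_eq_top
      (inferInstance : (Q'.subgroupOf N).Normal)).resolve_left fun e => hQ1 (by
        have := congrArg (Subgroup.map N.subtype) e
        rwa [map_subgroupOf_eq_of_le hQN, Subgroup.map_bot] at this)))
    have eQ : ↥Q ≃* ↥N := (subgroupOfEquivOfLe I.le).symm.trans (MulEquiv.subgroupCongr heq)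
    haveI : Nontrivial ↥Q := eQ.toEquiv.nontrivial
    obtain ⟨e⟩ := I.iso (IsSimpleGroup.isSimpleGroup_of_surjective eQ.symm.toMonoidHom eQ.symm.surjective)
    intro t Y' N' L'
    obtain ⟨f⟩ := L.iso_of_loc hAK hT L'
    exact ⟨(e.trans eQ).trans f⟩

end image

variable {G : Type u} [Group G] [Finite G]

open SmallU (Quo proj cK mem_cK)

/-- The part of `E` mapped into a subgroup of `C(a) / O(C(a))`. -/
def vK (E : Subgroup G) (a : G) (K : Subgroup (Quo a)) : Subgroup G :=
  E ⊓ (K.comap (proj a)).map (centralizer ({a} : Set G)).subtype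

theorem mem_vK {E : Subgroup G} {a : G} {K : Subgroup (Quo a)} {f : G} (hf : f ∈ E)
    (hC : f ∈ centralizer ({a} : Set G)) : f ∈ vK E a K ↔ proj a ⟨f, hC⟩ ∈ K := by
  constructor
  · rintro ⟨-, y, hy, hye⟩
    rwa [show (⟨f, hC⟩ : ↥(centralizer ({a} : Set G))) = y from Subtype.ext hye.symm]
  · exact fun h => ⟨hf, ⟨f, hC⟩, h, rfl⟩

/-- The kernel of the restriction of the projection has odd order. -/
theorem odd_ker {D : Subgroup G} {a : G} (hD : D ≤ centralizer ({a} : Set G)) :
    Odd (Nat.card ((proj a).comp (inclusion hD)).ker) :=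
  (CfsgLib.ZStar.odd_card_oddCore _).of_dvd_nat (by
    rw [← card_map_of_injective (inclusion_injective hD)]
    refine card_dvd_of_le ?_
    rintro _ ⟨x, hx, rfl⟩
    exact (QuotientGroup.eq_one_iff _).1 hx)

/-- An element of `C(a) / O(C(a))` commuting with the image of `u` comes from `C(a) ∩ C(u)`. -/
theorem exists_lift_pair {S : Sylow 2 G} {E : Subgroup G} (h : SmallU.Local S E) {a u : G} (ha : a ∈ E)
    (hu : u ∈ E) {k : Quo a} (hk : Commute (proj a ⟨u, h.le_cent ha hu⟩) k) :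
    ∃ g : ↥(centralizer ({a} : Set G)), (g : G) ∈ centralizer ({u} : Set G) ∧ proj a g = k := by
  obtain ⟨g, hg, hgk⟩ := h.exists_lift_centralizer ha (zpowers_le.2 hu) (k := k) fun p hp => by
    obtain ⟨i, hi⟩ := mem_zpowers_iff.1 hp
    rw [show p = (⟨u, h.le_cent ha hu⟩ : ↥(centralizer ({a} : Set G))) ^ i from Subtype.ext (by simp [hi]),
      map_zpow]
    exact (hk.zpow_left i).eq
  exact ⟨g, mem_centralizer_singleton_iff.2 (mem_centralizer_iff.1 hg u (mem_zpowers u)).symm, hgk⟩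

variable {S : Sylow 2 G} {E : Subgroup G} (h : SmallU.Local S E)
include h

/-- **The seen lemma.** -/
theorem exists_seen {a : G} (ha : a ∈ E) {K : Subgroup (Quo a)} (hK : Cfsg.IsComponent K) {u : G}
    (hu : u ∈ cK E a K) :
    ∃ K' : Subgroup (Quo u), Cfsg.IsComponent K' ∧ vK E a K ≤ vK E u K' ∧ cK E u K' ≤ cK E a K ∧
      ∃ Q : Subgroup (Quo u), Image (proj u ⟨a, h.le_cent hu.1 ha⟩) ↥K K' Q := by
  classical
  haveI : Fact (Nat.Prime 2) := ⟨Nat.prime_two⟩
  have huE : u ∈ E := hu.1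
  have hAa := h.quo_ab ha
  have hOa := SmallU.Local.quo_core (G := G) a
  have hAu := h.quo_ab huE
  have hOu := SmallU.Local.quo_core (G := G) u
  haveI := Sections.component_isSimple hAa hOa hK
  set D := centralizer ({a} : Set G) ⊓ centralizer ({u} : Set G) with hD
  set α : ↥D →* Quo a := (proj a).comp (inclusion inf_le_left) with hα
  set β : ↥D →* Quo u := (proj u).comp (inclusion inf_le_right) with hβ
  have hkA : Odd (Nat.card α.ker) := odd_ker inf_le_left
  have hkB : Odd (Nat.card β.ker) := odd_ker inf_le_right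
  set w := proj u ⟨a, h.le_cent huE ha⟩ with hw
  -- the images
  have hKrange : K ≤ α.range := fun k hk => by
    obtain ⟨g, hg, hgk⟩ := exists_lift_pair h ha huE (k := k) ((mem_cK huE (h.le_cent ha huE)).1 hu k hk)
    exact ⟨⟨g, g.2, hg⟩, hgk⟩
  have hwrange : ∀ q : Quo u, w * q = q * w → q ∈ β.range := fun q hq => by
    obtain ⟨g, hg, hgk⟩ := exists_lift_pair h huE ha (k := q) hq
    exact ⟨⟨g, hg, g.2⟩, hgk⟩
  have hβw : ∀ d : ↥D, w * β d = β d * w := fun d => by
    show proj u _ * proj u _ = proj u _ * proj u _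
    rw [← map_mul, ← map_mul]
    exact congrArg _ (Subtype.ext (mem_centralizer_singleton_iff.1 d.2.1).symm)
  -- the perfect preimage
  set Y := K.comap α with hY
  set R := resOf Y with hR
  have hKp := CfsgLib.Components.IsComponent.commutator_eq_self hK
  have hαR : R.map α = K := by rw [hR, map_resOf, map_comap_eq_self hKrange, resOf_eq hKp]
  have hRp : ⁅R, R⁆ = R := resOf_perfect Y
  have hR1 : R ≠ ⊥ := fun e => CfsgLib.Components.IsComponent.ne_bot hK (by rw [← hαR, e, Subgroup.map_bot])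
  have hYR : Y ≤ normalizer (R : Set ↥D) := le_normalizer.trans (normalizer_le_resOf Y)
  have hdich : ∀ N : Subgroup ↥D, N ≤ R → R ≤ normalizer (N : Set ↥D) → N.map α = ⊥ ∨ N = R := by
    intro N hNR hN
    have hle : N.map α ≤ K := hαR ▸ map_mono hNR
    haveI : ((N.map α).subgroupOf K).Normal := (normal_subgroupOf_iff_le_normalizer hle).2
      (hαR ▸ (map_mono hN).trans (le_normalizer_map α))
    rcases Normal.eq_bot_or_eq_top (inferInstance : ((N.map α).subgroupOf K).Normal) with e | e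
    · left
      have := congrArg (Subgroup.map K.subtype) e
      rwa [map_subgroupOf_eq_of_le hle, Subgroup.map_bot] at this
    · refine Or.inr (le_antisymm hNR (le_of_odd_cover hRp hN hkA fun r hr => ?_))
      obtain ⟨n, hn, hne⟩ : α r ∈ N.map α := subgroupOf_eq_top.1 e (hαR ▸ mem_map_of_mem α hr)
      exact ⟨n, hn, by rw [MonoidHom.mem_ker, map_mul, map_inv, hne, inv_mul_cancel], hNR hn⟩
  have hnR : ∀ d : ↥D, α d ∈ normalizer (K : Set (Quo a)) → d ∈ normalizer (R : Set ↥D) := fun d hd => by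
    refine normalizer_le_resOf Y (mem_normalizer_iff.2 fun y => ?_)
    show α y ∈ K ↔ α (d * y * d⁻¹) ∈ K
    rw [map_mul, map_mul, map_inv]
    exact mem_normalizer_iff.1 hd (α y)
  set Rb := R.map β with hRb
  have hRbp : ⁅Rb, Rb⁆ = Rb := by rw [hRb, ← map_commutator, hRp]
  have hRb1 : Rb ≠ ⊥ := fun e => hR1 (eq_bot_of_odd hRp (hkB.of_dvd_nat (card_dvd_of_le fun r hr =>
    mem_bot.1 (e ▸ mem_map_of_mem β hr))))
  -- perfect subgroups centralized by `w` normalize the image
  have hnorm : ∀ P : Subgroup (Quo u), ⁅P, P⁆ = P → (∀ p ∈ P, w * p = p * w) →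
      P ≤ normalizer (Rb : Set (Quo u)) := by
    intro P hP hPw
    obtain ⟨Z, hZp, hZ⟩ := exists_perfect_lift β hP fun p hp => hwrange p (hPw p hp)
    have hZK : Z.map α ≤ normalizer (K : Set (Quo a)) :=
      perfect_le_normalizer hAa hOa (by rw [← map_commutator, hZp]) hK
    rw [← hZ, hRb]
    exact (map_mono fun z hz => hnR z (hZK (mem_map_of_mem α hz))).trans (le_normalizer_map β)
  -- the component
  obtain ⟨K', hK', hnc⟩ := exists_component hAu hOu hRbp hRb1
  have hK'n : Rb ≤ normalizer (K' : Set (Quo u)) := perfect_le_normalizer hAu hOu hRbp hK'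
  set C' := centralizer (K' : Set (Quo u)) with hC'
  have hKC : ∀ x ∈ K', x ∈ C' → x = 1 := fun x hx hxC => by
    have hc : (⟨x, hx⟩ : ↥K') ∈ center ↥K' := mem_center_iff.2 fun g =>
      Subtype.ext (mem_centralizer_iff.1 hxC g g.2)
    rw [Sections.center_component_eq_bot hAu hOu hK', mem_bot] at hc
    exact congrArg Subtype.val hc
  have hNC : ∀ g ∈ normalizer (K' : Set (Quo u)), ∀ c ∈ C', g * c * g⁻¹ ∈ C' := fun g hg c hc =>
    mem_centralizer_iff.2 fun k hk => by
      have hk' : g⁻¹ * k * g ∈ K' := by simpa using (mem_normalizer_iff.1 (inv_mem hg) k).1 hk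
      calc k * (g * c * g⁻¹) = g * ((g⁻¹ * k * g) * c) * g⁻¹ := by group
        _ = g * (c * (g⁻¹ * k * g)) * g⁻¹ := by rw [mem_centralizer_iff.1 hc _ hk']
        _ = g * c * g⁻¹ * k := by group
  have hCn : normalizer (K' : Set (Quo u)) ≤ normalizer (C' : Set (Quo u)) := fun g hg =>
    mem_normalizer_iff.2 fun c => ⟨hNC g hg c, fun hc => by simpa [mul_assoc] using hNC g⁻¹ (inv_mem hg) _ hc⟩
  set Pl := (Rb ⊔ C') ⊓ K' with hPl
  have hdec : ∀ k ∈ Pl, ∃ r ∈ Rb, ∃ c ∈ C', k = r * c := fun k hk => by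
    obtain ⟨r, hr, c, hc, e⟩ := (CfsgLib.Core.mem_sup_iff_mul (hK'n.trans hCn)).1 hk.1
    exact ⟨r, hr, c, hc, e⟩
  have hproj : ∀ r ∈ Rb, ∃ k ∈ Pl, ∃ c ∈ C', r = k * c := fun r hr => by
    obtain ⟨k, hk, c, hc, e⟩ := (CfsgLib.Core.mem_sup_iff_mul (le_normalizer.trans hCn)).1
      (perfect_le_sup hAu hOu hRbp hK' hr)
    refine ⟨k, ⟨?_, hk⟩, c, hc, e⟩
    rw [show k = r * c⁻¹ from eq_mul_inv_of_mul_eq e.symm]
    exact mul_mem (mem_sup_left hr) (mem_sup_right (inv_mem hc))
  have hPlp : ⁅Pl, Pl⁆ = Pl := by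
    refine le_antisymm (commutator_le_self Pl) fun k hk => ?_
    have hRle : Rb ≤ ⁅Pl, Pl⁆ ⊔ C' := by
      rw [← hRbp]
      refine commutator_le.2 fun r₁ hr₁ r₂ hr₂ => ?_
      obtain ⟨k₁, hk₁, c₁, hc₁, rfl⟩ := hproj r₁ hr₁
      obtain ⟨k₂, hk₂, c₂, hc₂, rfl⟩ := hproj r₂ hr₂
      have hcc : ⁅c₁, c₂⁆ ∈ C' := commutator_le_self C' (commutator_mem_commutator hc₁ hc₂)
      have hval : ⁅k₁ * c₁, k₂ * c₂⁆ = ⁅c₁, c₂⁆ * ⁅k₁, k₂⁆ := by
        have e1 : ⁅c₁, k₂⁆ = 1 := commutatorElement_eq_one_iff_mul_comm.2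
          (mem_centralizer_iff.1 hc₁ k₂ hk₂.2).symm
        have e2 : ⁅k₁, c₂⁆ = 1 := commutatorElement_eq_one_iff_mul_comm.2 (mem_centralizer_iff.1 hc₂ k₁ hk₁.2)
        rw [commutatorElement_mul_left_eq_conj_mul, commutatorElement_mul_right_eq_mul_conj c₁ k₂ c₂, e1, one_mul,
          commutatorElement_mul_right_eq_mul_conj k₁ k₂ c₂, e2, mul_one, mul_inv_cancel_right]
        rw [mem_centralizer_iff.1 hcc k₂ hk₂.2, mul_inv_cancel_right, mem_centralizer_iff.1 hcc k₁ hk₁.2,
          mul_inv_cancel_right]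
      rw [hval]
      exact mul_mem (mem_sup_right hcc) (mem_sup_left (commutator_mem_commutator hk₁ hk₂))
    have hPn : ⁅Pl, Pl⁆ ≤ normalizer (C' : Set (Quo u)) :=
      (commutator_le_self Pl).trans (inf_le_right.trans (le_normalizer.trans hCn))
    obtain ⟨r, hr, c, hc, rfl⟩ := hdec k hk
    obtain ⟨y, hy, c', hc', e⟩ := (CfsgLib.Core.mem_sup_iff_mul hPn).1 (hRle hr)
    have h1 : c' * c = y⁻¹ * (r * c) := by rw [e]; group
    have h2 : c' * c = 1 := hKC _ (h1 ▸ mul_mem (inv_mem ((commutator_le_self Pl hy).2)) hk.2) (mul_mem hc' hc)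
    rwa [e, mul_assoc, h2, mul_one]
  have hwK' : w ∈ normalizer (K' : Set (Quo u)) :=
    Sections.sylow_le_normalizer_component hAu hOu (h.imS huE) hK' (h.mem_imS huE (h.le_sylow ha))
  have hPlw : ∀ k ∈ Pl, w * k = k * w := by
    intro k hk
    obtain ⟨r, hr, c, hc, rfl⟩ := hdec k hk
    obtain ⟨d, -, hd⟩ := hr
    have hwr : w * r * w⁻¹ = r := by rw [← hd, hβw d, mul_inv_cancel_right]
    have h1 : w * (r * c) * w⁻¹ = r * (w * c * w⁻¹) := by
      rw [show w * (r * c) * w⁻¹ = (w * r * w⁻¹) * (w * c * w⁻¹) by group, hwr]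
    have h2 : c⁻¹ * (w * c * w⁻¹) = 1 := hKC _ (by
      rw [show c⁻¹ * (w * c * w⁻¹) = (r * c)⁻¹ * (r * (w * c * w⁻¹)) by group, ← h1]
      exact mul_mem (inv_mem hk.2) ((mem_normalizer_iff.1 hwK' _).1 hk.2))
      (mul_mem (inv_mem hc) (hNC w hwK' c hc))
    rw [inv_mul_eq_one] at h2
    rwa [← h2, mul_inv_eq_iff_eq_mul] at h1
  have hPlR : Pl ≤ Rb := by
    have hn := hnorm Pl hPlp hPlw
    rw [← hPlp]
    refine commutator_le.2 fun p hp q hq => ?_
    obtain ⟨r, hr, c, hc, rfl⟩ := hdec q hq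
    have hpc : ⁅p, c⁆ = 1 := commutatorElement_eq_one_iff_mul_comm.2 (mem_centralizer_iff.1 hc p hp.2)
    have e : ⁅p, r * c⁆ = ⁅p, r⁆ := by
      rw [commutatorElement_mul_right_eq_mul_conj, hpc]
      group
    rw [e, commutatorElement_def]
    exact mul_mem ((mem_normalizer_iff.1 (hn hp) r).1 hr) (inv_mem hr)
  have hPl1 : Pl ≠ ⊥ := fun e => hnc fun r hr => by
    obtain ⟨k, hk, c, hc, rfl⟩ := hproj r hr
    rw [e, mem_bot] at hk
    rwa [hk, one_mul]
  -- so the image lies in `K'`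
  have hRK : Rb ≤ K' := by
    set N := R ⊓ K'.comap β with hN
    have hRN : R ≤ normalizer (N : Set ↥D) := fun r hr => mem_normalizer_iff.2 fun y => by
      have h1 := mem_normalizer_iff.1 (hK'n (mem_map_of_mem β hr)) (β y)
      have h2 : y ∈ R ↔ r * y * r⁻¹ ∈ R := mem_normalizer_iff.1 (le_normalizer hr) y
      show y ∈ R ∧ β y ∈ K' ↔ r * y * r⁻¹ ∈ R ∧ β (r * y * r⁻¹) ∈ K'
      rw [map_mul, map_mul, map_inv]
      exact and_congr h2 h1
    rcases hdich N inf_le_left hRN with e | e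
    · exfalso
      have hN2 : Pl ≤ N.map β := fun p hp => by
        obtain ⟨r, hr, hrp⟩ := hPlR hp
        exact ⟨r, ⟨hr, show β r ∈ K' from hrp ▸ hp.2⟩, hrp⟩
      refine hPl1 (eq_bot_of_odd hPlp (hkA.of_dvd_nat ?_))
      exact ((card_dvd_of_le hN2).trans (card_map_dvd N β)).trans (card_dvd_of_le fun n hn =>
        MonoidHom.mem_ker.2 (mem_bot.1 (e ▸ mem_map_of_mem α hn)))
    · rintro _ ⟨r, hr, rfl⟩
      rw [← e] at hr
      exact hr.2
  refine ⟨K', hK', ?_, ?_, Rb, ⟨hRK, hRbp, hRb1, fun q ⟨d, _, hd⟩ => hd ▸ hβw d, hnorm, fun hs => ?_⟩⟩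
  · intro f hf
    have hfa := h.le_cent ha hf.1
    have hfu := h.le_cent huE hf.1
    set d : ↥D := ⟨f, hfa, hfu⟩
    have hdY : d ∈ Y := (mem_vK hf.1 hfa).1 hf
    have hff : d * d = 1 := Subtype.ext (SmallU.sq_one h.elem hf.1)
    obtain ⟨r, hr, hre⟩ : α d ∈ R.map α := hαR.symm ▸ (show α d ∈ K from hdY)
    have hm : r⁻¹ * d ∈ α.ker := by rw [MonoidHom.mem_ker, map_mul, map_inv, hre, inv_mul_cancel]
    haveI : (R.subgroupOf Y).Normal := (normal_subgroupOf_iff_le_normalizer (resOf_le Y)).2 hYR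
    set q := QuotientGroup.mk' (R.subgroupOf Y)
    set dY : ↥Y := ⟨d, hdY⟩
    set mY : ↥Y := ⟨r⁻¹ * d, mul_mem (inv_mem (resOf_le Y hr)) hdY⟩
    have hqm : q dY = q mY := by
      rw [show dY = (⟨r, resOf_le Y hr⟩ : ↥Y) * mY from Subtype.ext (mul_inv_cancel_left r d).symm, map_mul,
        show q ⟨r, resOf_le Y hr⟩ = 1 from (QuotientGroup.eq_one_iff _).2 hr, one_mul]
    have h2 : orderOf (q dY) ∣ 2 := orderOf_dvd_of_pow_eq_one (by
      rw [← map_pow, pow_two, show dY * dY = 1 from Subtype.ext hff, map_one])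
    have hodd : Odd (orderOf (q dY)) := hkA.of_dvd_nat (by
      rw [hqm]
      refine (orderOf_map_dvd q mY).trans ?_
      rw [← Subgroup.orderOf_coe mY]
      exact Subgroup.orderOf_dvd_natCard _ hm)
    have hq1 : q dY = 1 := orderOf_eq_one_iff.1
      (Nat.eq_one_of_dvd_coprimes (Nat.coprime_two_right.2 hodd) dvd_rfl h2)
    have hdR : dY ∈ R.subgroupOf Y := (QuotientGroup.eq_one_iff _).1 hq1
    exact (mem_vK hf.1 hfu).2 (hRK ⟨d, hdR, rfl⟩)
  · intro f hf
    have hfa := h.le_cent ha hf.1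
    have hfu := h.le_cent huE hf.1
    set d : ↥D := ⟨f, hfa, hfu⟩
    have hdn : d ∈ normalizer (R : Set ↥D) := hnR d
      (Sections.sylow_le_normalizer_component hAa hOa (h.imS ha) hK (h.mem_imS ha (h.le_sylow hf.1)))
    have hdc : ∀ r ∈ R, β d * β r = β r * β d := fun r hr => (mem_cK hf.1 hfu).1 hf _ (hRK (mem_map_of_mem β hr))
    refine (mem_cK hf.1 hfa).2 fun k hk => ?_
    rw [← hαR] at hk
    obtain ⟨r, hr, rfl⟩ := hk
    have hN := le_normalizer_inf_ker R β
    rcases hdich (R ⊓ β.ker) inf_le_left hN with e | e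
    · have hmem : d * r * d⁻¹ * r⁻¹ ∈ R ⊓ β.ker := by
        refine ⟨R.mul_mem ((mem_normalizer_iff.1 hdn r).1 hr) (R.inv_mem hr), MonoidHom.mem_ker.2 ?_⟩
        rw [map_mul, map_mul, map_mul, map_inv, map_inv, hdc r hr]
        group
      have h1 : α (d * r * d⁻¹ * r⁻¹) = 1 := mem_bot.1 (e ▸ mem_map_of_mem α hmem)
      rw [map_mul, map_mul, map_mul, map_inv, map_inv, mul_inv_eq_one, mul_inv_eq_iff_eq_mul] at h1
      exact h1
    · refine absurd ((eq_bot_iff_forall _).2 ?_) hRb1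
      rintro _ ⟨y, hy, rfl⟩
      rw [← e] at hy
      exact hy.2
  · haveI := hs
    set φ := α.comp R.subtype with hφ
    set ψ := β.comp R.subtype with hψ
    have hker : φ.ker = ψ.ker := by
      have hαn := le_normalizer_inf_ker R α
      ext ⟨x, hx⟩
      constructor
      · intro hx'
        set M := (R ⊓ α.ker).map β
        have hMle : M ≤ Rb := map_mono inf_le_left
        haveI : (M.subgroupOf Rb).Normal :=
          (normal_subgroupOf_iff_le_normalizer hMle).2 ((map_mono hαn).trans (le_normalizer_map β))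
        rcases Normal.eq_bot_or_eq_top (inferInstance : (M.subgroupOf Rb).Normal) with e | e
        · have h1 : (⟨β x, mem_map_of_mem β hx⟩ : ↥Rb) ∈ M.subgroupOf Rb :=
            mem_map_of_mem β (show x ∈ R ⊓ α.ker from ⟨hx, hx'⟩)
          rw [e, mem_bot] at h1
          exact congrArg Subtype.val h1
        · refine absurd (eq_bot_of_odd hRbp (hkA.of_dvd_nat ?_)) hRb1
          exact ((card_dvd_of_le (subgroupOf_eq_top.1 e)).trans (card_map_dvd _ β)).trans
            (card_dvd_of_le inf_le_right)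
      · intro hx'
        rcases hdich (R ⊓ β.ker) inf_le_left (le_normalizer_inf_ker R β) with e | e
        · exact mem_bot.1 (e ▸ mem_map_of_mem α (show x ∈ R ⊓ β.ker from ⟨hx, hx'⟩))
        · refine absurd ((eq_bot_iff_forall _).2 ?_) hRb1
          rintro _ ⟨y, hy, rfl⟩
          rw [← e] at hy
          exact hy.2
    exact ⟨((MulEquiv.subgroupCongr (show φ.range = K by rw [hφ, MonoidHom.range_comp, range_subtype, hαR])).symm.trans
      ((QuotientGroup.quotientKerEquivRange φ).symm.trans (QuotientGroup.quotientMulEquivOfEq hker))).trans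
      ((QuotientGroup.quotientKerEquivRange ψ).trans (MulEquiv.subgroupCongr (show ψ.range = Rb by
        rw [hψ, MonoidHom.range_comp, range_subtype])))⟩

end CfsgLib.Walter.Seen
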