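import Cfsg.Agent.Lib.Recog.Walter.RankFourPairs

/-!
Owner: helper29. Walter, S4: commutation of the blocks where `θ` is trivial.

* `Pairs.perfect_le_centralizer_component`: a perfect subgroup fixing the involutions of a Sylow subgroup in a
  component centralises the component.
* `pairsComm`: `PairsComm` for the blocks.
-/

set_option autoImplicit false
set_option linter.style.haveILetI false
set_option linter.unusedSectionVars false

namespace CfsgLib.Walter

open Subgroup
open CfsgLib.AbelianSolvCent (AbSylow omegaS)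
open CfsgLib.InvCent (theta)
open CfsgLib.Walter.Pairs (Blk)
open scoped commutatorElement

universe u

section layer

variable {X : Type u} [Group X] [Finite X]

/-- A perfect subgroup fixing the involutions of a Sylow subgroup in a component centralises the component. -/
theorem Pairs.perfect_le_centralizer_component (hA : AbSylow X) (hO : Cfsg.oddCore X = ⊥) (S : Sylow 2 X)
    {Q K : Subgroup X} (hK : Cfsg.IsComponent K) (hp : ⁅Q, Q⁆ = Q)
    (hc : ∀ v ∈ (S : Subgroup X) ⊓ K, v * v = 1 → ∀ x ∈ Q, x * v = v * x) :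
    Q ≤ centralizer (K : Set X) := by
  set D := centralizer (K : Set X) with hD
  have hcomm : ∀ (k : ↥K) (d : ↥D), Commute (K.subtype k) (D.subtype d) := fun k d =>
    mem_centralizer_iff.1 d.2 k k.2
  set f : ↥K × ↥D →* X := MonoidHom.noncommCoprod K.subtype D.subtype hcomm with hf
  have hfapp : ∀ p : ↥K × ↥D, f p = (p.1 : X) * p.2 := fun _ => rfl
  have hinj : Function.Injective f := by
    refine (injective_iff_map_eq_one f).2 fun p hp1 => ?_
    rw [hfapp] at hp1
    have h1 : p.1 ∈ center ↥K := mem_center_iff.2 fun k => Subtype.ext (by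
      show (k : X) * p.1 = p.1 * k
      rw [eq_inv_of_mul_eq_one_left hp1]
      exact mem_centralizer_iff.1 (inv_mem p.2.2) k k.2)
    rw [Sections.center_component_eq_bot hA hO hK, mem_bot] at h1
    exact Prod.ext h1 (Subtype.ext (by rwa [h1, OneMemClass.coe_one, one_mul] at hp1))
  have hle : Q ≤ f.range := by
    refine (Pairs.perfect_le_layer hA hO hp).trans (CfsgLib.Components.layer_le_iff.2 fun L hL x hx => ?_)
    rcases eq_or_ne L K with rfl | hne
    · exact ⟨(⟨x, hx⟩, 1), by rw [hfapp]; simp⟩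
    · exact ⟨(1, ⟨x, commutator_eq_bot_iff_le_centralizer.1
        (CfsgLib.Components.components_commute hL hK hne) hx⟩), by rw [hfapp]; simp⟩
  set R := ((Q.comap f).map (MonoidHom.fst ↥K ↥D)).map K.subtype with hR
  have hmap : (Q.comap f).map f = Q := map_comap_eq_self hle
  have hperf : ⁅R, R⁆ = R := by
    rw [hR, ← map_commutator, ← map_commutator]
    congr 2
    exact map_injective hinj (by rw [map_commutator, hmap, hp])
  have hbot : R = ⊥ := Pairs.eq_bot_of_centralizes_omega hA hO S hK (map_subtype_le _) hperf (by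
    rintro v hv hv2 _ ⟨k, ⟨p, hpq, rfl⟩, rfl⟩
    have h1 := hc v hv hv2 _ hpq
    have h2 : v * (p.2 : X) = (p.2 : X) * v := mem_centralizer_iff.1 p.2.2 v hv.2
    show (p.1 : X) * v = v * p.1
    rw [hfapp, mul_assoc, ← h2, ← mul_assoc, ← mul_assoc] at h1
    exact mul_right_cancel h1)
  intro q hq
  obtain ⟨p, rfl⟩ := hle hq
  have h1 : (p.1 : X) ∈ R := ⟨p.1, ⟨p, hq, rfl⟩, rfl⟩
  rw [hbot, mem_bot] at h1
  rw [hfapp, h1, one_mul]
  exact p.2.2

/-- Two perfect subgroups, one of which centralises each given component, commute. -/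
theorem Pairs.commute_of_cover (hA : AbSylow X) (hO : Cfsg.oddCore X = ⊥) {Q R : Subgroup X}
    (hQ : ⁅Q, Q⁆ = Q) (hR : ⁅R, R⁆ = R)
    (h : ∀ K : Subgroup X, Cfsg.IsComponent K → Q ≤ centralizer (K : Set X) ∨ R ≤ centralizer (K : Set X))
    {x y : X} (hx : x ∈ Q) (hy : y ∈ R) : x * y = y * x := by
  have hxL := Pairs.perfect_le_layer hA hO hQ hx
  have hyL := Pairs.perfect_le_layer hA hO hR hy
  refine commutatorElement_eq_one_iff_mul_comm.1 (Sections.eq_one_of_mem_center_layer hA hO
    (z := ⁅x, y⁆) ?_ ?_)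
  · rw [commutatorElement_def]
    exact mul_mem (mul_mem (mul_mem hxL hyL) (inv_mem hxL)) (inv_mem hyL)
  have hz : Cfsg.layer X ≤ centralizer ({⁅x, y⁆} : Set X) := by
    refine CfsgLib.Components.layer_le_iff.2 fun K hK k hk => mem_centralizer_singleton_iff.2 ?_
    have hN := CfsgLib.Components.component_le_normalizer_layer_member hK
    suffices ⁅x, y⁆ * k * ⁅x, y⁆⁻¹ = k by exact (mul_inv_eq_iff_eq_mul.1 this).symm
    rcases h K hK with hc | hc
    · have hk' : y⁻¹ * k * y ∈ K := by
        simpa using (mem_normalizer_iff.1 (hN (inv_mem hyL)) k).1 hk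
      have h1 : x⁻¹ * (y⁻¹ * k * y) * x = y⁻¹ * k * y := by
        rw [mul_assoc, mem_centralizer_iff.1 (hc hx) _ hk', inv_mul_cancel_left]
      calc ⁅x, y⁆ * k * ⁅x, y⁆⁻¹
          = x * (y * (x⁻¹ * (y⁻¹ * k * y) * x) * y⁻¹) * x⁻¹ := by rw [commutatorElement_def]; group
        _ = x * k * x⁻¹ := by rw [h1]; group
        _ = k := by rw [← mem_centralizer_iff.1 (hc hx) k hk, mul_inv_cancel_right]
    · have hk' : x⁻¹ * k * x ∈ K := by
        simpa using (mem_normalizer_iff.1 (hN (inv_mem hxL)) k).1 hk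
      have h1 : y⁻¹ * k * y = k := by
        rw [mul_assoc, mem_centralizer_iff.1 (hc hy) _ hk, inv_mul_cancel_left]
      have h2 : y * (x⁻¹ * k * x) * y⁻¹ = x⁻¹ * k * x := by
        rw [← mem_centralizer_iff.1 (hc hy) _ hk', mul_inv_cancel_right]
      calc ⁅x, y⁆ * k * ⁅x, y⁆⁻¹
          = x * (y * (x⁻¹ * (y⁻¹ * k * y) * x) * y⁻¹) * x⁻¹ := by rw [commutatorElement_def]; group
        _ = k := by rw [h1, h2]; group
  exact fun e he => (mem_centralizer_singleton_iff.1 (hz he)).symm

end layer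

variable {G : Type u} [Group G] [Finite G] [IsSimpleGroup G]
  {S : Sylow 2 G} {hS : IsMulCommutative ↥(S : Subgroup G)}

/-- **Commutation of the blocks where `θ` is trivial.** -/
theorem pairsComm (hG : ¬ IsMulCommutative G) (_hA : AbSylow G) (hsm : Smaller G)
    (h16 : 16 ≤ Nat.card (omegaS S hS)) :
    PairsComm S hS := by
  intro a ha ha1 hθ i j hij x hx y hy
  set C := centralizer ({a} : Set G) with hC
  have hsub : ∀ l : Blk S hS, perfCent (l.C ⊔ zpowers a) ≤ C := fun l =>
    (perfCent_le _).trans (centralizer_le (Set.singleton_subset_iff.2 ((le_sup_right : zpowers a ≤ l.C ⊔ zpowers a) (mem_zpowers a))))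
  have hker : Function.Injective (Pairs.proj a) := by
    rw [← MonoidHom.ker_eq_bot_iff, QuotientGroup.ker_mk']
    exact map_injective C.subtype_injective (by rw [Subgroup.map_bot]; exact hθ)
  have hA := Pairs.abSylow_quo S hS a
  have hO := Pairs.oddCore_quo a
  set T := Pairs.quoSylow S hS ha
  let Q : Blk S hS → Subgroup (Pairs.Quo a) := fun l =>
    ((perfCent (l.C ⊔ zpowers a)).subgroupOf C).map (Pairs.proj a)
  have hQp : ∀ l, ⁅Q l, Q l⁆ = Q l := fun l => by
    show ⁅((perfCent (l.C ⊔ zpowers a)).subgroupOf C).map _, _⁆ = _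
    rw [← map_commutator]
    congr 1
    exact map_injective C.subtype_injective (by
      rw [map_commutator, map_subgroupOf_eq_of_le (hsub l), perfCent_perfect])
  have hcov : ∀ K : Subgroup (Pairs.Quo a), Cfsg.IsComponent K →
      Q i ≤ centralizer (K : Set (Pairs.Quo a)) ∨ Q j ≤ centralizer (K : Set (Pairs.Quo a)) := by
    intro K hK
    obtain ⟨k, hVk, -⟩ := Pairs.cover ha ha1 hK
    have key : ∀ l : Blk S hS, l ≠ k → Q l ≤ centralizer (K : Set (Pairs.Quo a)) := by
      intro l hl
      refine Pairs.perfect_le_centralizer_component hA hO T hK (hQp l) ?_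
      intro v hv hv2
      obtain ⟨w, hw, rfl⟩ := Pairs.exists_omega_of_sq S hS ha hv.1 hv2
      have hwC : w ∈ l.C := (Pairs.frame hG hsm h16).orth k l (Ne.symm hl)
        (hVk ((Pairs.mem_Vp S hS ha).2 ⟨hw, hv.2⟩))
      rintro _ ⟨z, hz, rfl⟩
      rw [← map_mul, ← map_mul]
      exact congrArg _ (Subtype.ext (mem_centralizer_iff.1 (perfCent_le _ hz) w ((le_sup_left : l.C ≤ l.C ⊔ zpowers a) hwC)).symm)
    rcases eq_or_ne i k with rfl | hi
    · exact Or.inr (key j (Ne.symm hij))
    · exact Or.inl (key i hi)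
  have hxC : x ∈ C := hsub i hx
  have hyC : y ∈ C := hsub j hy
  have h := Pairs.commute_of_cover hA hO (hQp i) (hQp j) hcov
    (x := Pairs.proj a ⟨x, hxC⟩) (y := Pairs.proj a ⟨y, hyC⟩) ⟨⟨x, hxC⟩, hx, rfl⟩ ⟨⟨y, hyC⟩, hy, rfl⟩
  rw [← map_mul, ← map_mul] at h
  exact congrArg Subtype.val (hker h)

end CfsgLib.Walter
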