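import Cfsg.Agent.Lib.Recog.Walter.RankFourPairs

/-!
Owner: helper15. Walter, S4: generation of the centralizers by the blocks.

* `pairsGen`: `C(a)` is generated by `O(C(a))`, `C(a) ∩ N(S)` and the residuals of `C(C i) ∩ C(a)`.
-/

set_option autoImplicit false
set_option linter.style.haveILetI false
set_option linter.unusedSectionVars false

namespace CfsgLib.Walter

open Subgroup
open CfsgLib.AbelianSolvCent (AbSylow omegaS)
open CfsgLib.Walter.Pairs (Blk)

universe u

variable {G : Type u} [Group G] [Finite G] [IsSimpleGroup G]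
  {S : Sylow 2 G} {hS : IsMulCommutative ↥(S : Subgroup G)}

/-- **Generation by the blocks.** -/
theorem pairsGen (hG : ¬ IsMulCommutative G) (hA : AbSylow G) (hsm : Smaller G) : PairsGen S hS := by
  intro a ha ha1
  refine (SmallU.local_of hS fun _ _ hb1 => secWalter_centralizer hG hA hsm hb1).centralizer_le_of_components
    ha ?_ ?_ fun K hK _ => ?_
  · exact le_sup_left.trans le_sup_left
  · exact (le_of_eq (inf_comm _ _)).trans (le_sup_right.trans le_sup_left)
  obtain ⟨i, -, hC⟩ := Pairs.cover ha ha1 hK
  obtain ⟨P, -, -, hPB, -, hPK⟩ := Pairs.exists_lift (S := S) (hS := hS) (ha := ha) (hK := hK)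
    (B := i.C ⊔ zpowers a) (sup_le hC (zpowers_le.2 (Pairs.mem_Cp_self S hS ha K)))
    (mem_sup_right (mem_zpowers a))
  refine hPK.ge.trans (map_mono (comap_mono (hPB.trans (le_trans ?_ le_sup_right))))
  exact le_iSup (fun i : Blk S hS => perfCent (i.C ⊔ zpowers a)) i

end CfsgLib.Walter
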