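import Cfsg.Agent.Lib.Recog.Walter.SmallU2Local
import Cfsg.Agent.Lib.Recog.Walter.Balanced
import Cfsg.Agent.Lib.ZStar.Main
import Cfsg.Agent.Lib.Recog.Walter.ProductLemma

/-!
Owner: helper23. Walter, slice S7: the case of rank at least five in which the points outside the blocks of
`J` see only components of type `q ≥ 11`.

* `meet`, `join`: `⋂ C i` and `⨆ V i` over a set of blocks; they split `Ω₁(S)`.
* `fuse`: the fusion hypothesis of the product lemma follows from the covering of the components.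
* `solvCent_of_small`: all involution centralizers are solvable.
-/

set_option autoImplicit false
set_option linter.style.haveILetI false
set_option linter.unusedSectionVars false

namespace CfsgLib.Walter.SmallU

open Subgroup
open CfsgLib.AbelianSolvCent (AbSylow SolvCent omegaS sylow_comm)

universe u v

variable {G : Type u} [Group G] [Finite G] {S : Sylow 2 G} {hS : IsMulCommutative ↥(S : Subgroup G)}
  {ι : Type v} {V C : ι → Subgroup G}

/-- The components `K` of type `q ≥ 11`. -/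
def IsBig (K : Type u) [Group K] : Prop :=
  (IsOddType K ∧ Nat.card K ≠ 60) ∨
    (IsJRType K ∧ ∀ (t : K) (X N : Subgroup K), Sections.Loc t X N → Nat.card N ≠ 60)

/-- `Ω₁(S) ∩ ⋂ C i`. -/
def meet (S : Sylow 2 G) (hS : IsMulCommutative ↥(S : Subgroup G)) (C : ι → Subgroup G) (I : Set ι) :
    Subgroup G :=
  omegaS S hS ⊓ ⨅ i : {i // i ∈ I}, C i

/-- `⨆ V i`. -/
def join (V : ι → Subgroup G) (I : Set ι) : Subgroup G := ⨆ i : {i // i ∈ I}, V i

theorem mem_meet {I : Set ι} {x : G} : x ∈ meet S hS C I ↔ x ∈ omegaS S hS ∧ ∀ i ∈ I, x ∈ C i := by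
  simp only [meet, Subgroup.mem_inf, Subgroup.mem_iInf, Subtype.forall]

theorem V_le_join {I : Set ι} {i : ι} (hi : i ∈ I) : V i ≤ join V I :=
  le_iSup (fun i : {i // i ∈ I} => V (i : ι)) ⟨i, hi⟩

variable (hF : Frame S hS V C)
include hF

theorem join_le (I : Set ι) : join V I ≤ omegaS S hS := iSup_le fun i => hF.V_le i

theorem finite_index : Finite ι := Finite.of_injective V hF.V_injective

theorem meet_inf_join (I : Set ι) : meet S hS C I ⊓ join V I = ⊥ := by
  classical
  haveI := finite_index hF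
  haveI := Fintype.ofFinite ι
  suffices h : ∀ c : Finset ι, ∀ x ∈ ⨆ i ∈ c, V i, (∀ i ∈ c, x ∈ C i) → x = 1 by
    refine (eq_bot_iff_forall _).2 fun x hx => ?_
    refine h (Finset.univ.filter (· ∈ I)) x ?_ fun i hi => (mem_meet.1 hx.1).2 i (Finset.mem_filter.1 hi).2
    exact (show join V I ≤ ⨆ i ∈ Finset.univ.filter (· ∈ I), V i from iSup_le fun i =>
      le_iSup₂_of_le (i : ι) (Finset.mem_filter.2 ⟨Finset.mem_univ _, i.2⟩) le_rfl) hx.2
  intro c
  induction c using Finset.induction_on with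
  | empty =>
    intro x hx _
    simpa using hx
  | @insert l c hl ih =>
    intro x hx hC
    rw [Finset.iSup_insert] at hx
    have hle : ⨆ i ∈ c, V i ≤ omegaS S hS := iSup₂_le fun i _ => hF.V_le i
    obtain ⟨w, hw, y, hy, rfl⟩ := (CfsgLib.Core.mem_sup_iff_mul (H := V l) (N := ⨆ i ∈ c, V i) fun v hv =>
      centralizer_le_normalizer _ (mem_centralizer_iff.2 fun z hz =>
        sylow_comm S hS (hle hz).1 (hF.V_le l hv).1)).1 hx
    have hyl : y ∈ C l := (iSup₂_le fun i hi => hF.orth i l (fun e => hl (e ▸ hi))) hy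
    have hwl : w ∈ C l := by
      have h := mul_mem (hC l (Finset.mem_insert_self l c)) (inv_mem hyl)
      rwa [mul_inv_cancel_right] at h
    have hw1 : w = 1 := by
      have h : w ∈ V l ⊓ C l := ⟨hw, hwl⟩
      rwa [hF.disj l, mem_bot] at h
    subst hw1
    rw [one_mul] at hC ⊢
    exact ih y hy fun i hi => hC i (Finset.mem_insert_of_mem hi)

theorem meet_sup_join (I : Set ι) : meet S hS C I ⊔ join V I = omegaS S hS := by
  classical
  haveI := finite_index hF
  haveI := Fintype.ofFinite ι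
  refine le_antisymm (sup_le inf_le_left (join_le hF I)) fun e he => ?_
  suffices h : ∀ c : Finset ι, (∀ i ∈ c, i ∈ I) → ∃ u ∈ join V I, ∀ i ∈ c, e * u ∈ C i by
    obtain ⟨u, hu, hc⟩ := h (Finset.univ.filter (· ∈ I)) fun i hi => (Finset.mem_filter.1 hi).2
    have h1 : e * u ∈ meet S hS C I := mem_meet.2 ⟨mul_mem he (join_le hF I hu), fun i hi =>
      hc i (Finset.mem_filter.2 ⟨Finset.mem_univ _, hi⟩)⟩
    have h2 := mul_mem (mem_sup_left h1 : e * u ∈ meet S hS C I ⊔ join V I) (mem_sup_right (inv_mem hu))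
    rwa [mul_inv_cancel_right] at h2
  intro c
  induction c using Finset.induction_on with
  | empty => exact fun _ => ⟨1, one_mem _, fun i hi => absurd hi (Finset.notMem_empty i)⟩
  | @insert l c hl ih =>
    intro hcI
    obtain ⟨u, hu, hc⟩ := ih fun i hi => hcI i (Finset.mem_insert_of_mem hi)
    obtain ⟨w, hw, y, hy, hwy⟩ := hF.exists_mul (i := l) (mul_mem he (join_le hF I hu))
    refine ⟨u * w⁻¹, mul_mem hu (inv_mem (V_le_join (hcI l (Finset.mem_insert_self l c)) hw)), fun i hi => ?_⟩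
    rw [← mul_assoc]
    rcases Finset.mem_insert.1 hi with rfl | hic
    · rw [hwy, sylow_comm S hS (hF.V_le i hw).1 (hF.C_le i hy).1, mul_inv_cancel_right]
      exact hy
    · exact mul_mem (hc i hic) (inv_mem (hF.orth l i (fun e => hl (e ▸ hic)) hw))

theorem normalizer_le_meet_join (I : Set ι)
    (hI : ∀ n ∈ normalizer ((S : Subgroup G) : Set G), ∀ i ∈ I, ∀ j,
      C j = (C i).map (MulAut.conj n).toMonoidHom → j ∈ I) :
    normalizer ((S : Subgroup G) : Set G) ≤ normalizer (meet S hS C I : Set G) ∧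
      normalizer ((S : Subgroup G) : Set G) ≤ normalizer (join V I : Set G) := by
  refine ⟨fun n hn => CfsgLib.Signalizer.Solv.mem_normalizer_of_forall_le fun x hx => ?_,
    fun n hn => CfsgLib.Signalizer.Solv.mem_normalizer_of_forall_le fun x hx => ?_⟩
  · obtain ⟨hxE, hxC⟩ := mem_meet.1 hx
    refine mem_meet.2 ⟨conj_mem_omega S hS hn hxE, fun i hi => ?_⟩
    obtain ⟨k, -, hk⟩ := hF.conj n⁻¹ (inv_mem hn) i
    have hxk := hxC k (hI n⁻¹ (inv_mem hn) i hi k hk)
    rw [hk] at hxk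
    obtain ⟨y, hy, rfl⟩ := hxk
    simpa [mul_assoc] using hy
  · have hle : (join V I).map (MulAut.conj n).toMonoidHom ≤ join V I := by
      rw [join, Subgroup.map_iSup]
      refine iSup_le fun i => ?_
      obtain ⟨j, hj, hjC⟩ := hF.conj n hn i
      rw [← hj]
      exact V_le_join (hI n hn i i.2 j hjC)
    exact hle ⟨x, hx, rfl⟩

variable (hns : ¬ Group.IsSolvable G)
  (hsec : ∀ a ∈ omegaS S hS, a ≠ 1 → Sections.SecWalter ↥(centralizer ({a} : Set G)))
  (hcov : ∀ a ∈ omegaS S hS, a ≠ 1 → ∀ K : Subgroup (Quo a), Cfsg.IsComponent K →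
    ∃ j, C j ≤ cK (omegaS S hS) a K)

omit hF in
theorem local_of (hS : IsMulCommutative ↥(S : Subgroup G)) (hsec : ∀ a ∈ omegaS S hS, a ≠ 1 →
    Sections.SecWalter ↥(centralizer ({a} : Set G))) : Local S (omegaS S hS) where
  ab := CfsgLib.AbelianSolvCent.abSylow_of_one S hS
  elem := ⟨isComm_omega S hS, fun x hx => by rw [pow_two]; exact hx.2⟩
  le_sylow := fun _ hx => hx.1
  omega := fun _ hs h => ⟨hs, h⟩
  sec := hsec

include hsec hcov in
/-- Fusion hypothesis of the product lemma. -/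
theorem fuse {I : Set ι}
    (hI : ∀ n ∈ normalizer ((S : Subgroup G) : Set G), ∀ i ∈ I, ∀ j,
      C j = (C i).map (MulAut.conj n).toMonoidHom → j ∈ I)
    {z : G} (hz : z ∈ omegaS S hS) (hz1 : z ≠ 1) {e : G} (he : e ∈ join V I) (hze : z * e ∈ meet S hS C I)
    {g : G} (hg : g ∈ centralizer ({z} : Set G)) : g * e * g⁻¹ * e⁻¹ ∈ core z := by
  have hloc := local_of hS hsec
  have heE := join_le hF I he
  have heC : e ∈ centralizer ({z} : Set G) := hloc.le_cent hz heE
  set CC := centralizer ({z} : Set G) with hCC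
  set π := proj z with hπ
  set H := ((centralizer ({π ⟨e, heC⟩} : Set (Quo z))).comap π).map CC.subtype with hH
  have hmem : ∀ c : ↥CC, π c * π ⟨e, heC⟩ = π ⟨e, heC⟩ * π c → (c : G) ∈ H := fun c hc =>
    ⟨c, mem_centralizer_singleton_iff.2 hc, rfl⟩
  have hcomm : ∀ x : G, ∀ hx : x ∈ CC, x * e = e * x → x ∈ H := fun x hx hxe =>
    hmem ⟨x, hx⟩ (by rw [← map_mul, ← map_mul]; exact congrArg _ (Subtype.ext hxe))
  have hle : CC ≤ H := by
    refine hloc.cover (Cb := C) hF.C_le hz (hcov z hz hz1) H ?_ ?_ ?_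
    · rintro _ ⟨o, ho, rfl⟩
      refine hmem o ?_
      rw [show π o = 1 from (QuotientGroup.eq_one_iff o).2 ho, one_mul, mul_one]
    · rintro n ⟨hn, hnz⟩
      refine hcomm n hnz ?_
      obtain ⟨hN1, hN2⟩ := normalizer_le_meet_join hF I hI
      have hnz' : n * z = z * n := mem_centralizer_singleton_iff.1 hnz
      have h1 : n * e * n⁻¹ ∈ join V I := (mem_normalizer_iff.1 (hN2 hn) e).1 he
      have h2 : n * (z * e) * n⁻¹ ∈ meet S hS C I := (mem_normalizer_iff.1 (hN1 hn) _).1 hze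
      have h3 : e⁻¹ * (n * e * n⁻¹) ∈ meet S hS C I ⊓ join V I := by
        refine ⟨?_, (join V I).mul_mem ((join V I).inv_mem he) h1⟩
        have h4 := (meet S hS C I).mul_mem ((meet S hS C I).inv_mem hze) h2
        have e4 : (z * e)⁻¹ * (n * (z * e) * n⁻¹) = e⁻¹ * (n * e * n⁻¹) := by
          rw [show n * (z * e) * n⁻¹ = (n * z) * (e * n⁻¹) by group, hnz']; group
        rwa [e4] at h4
      rw [meet_inf_join hF I, mem_bot, inv_mul_eq_one] at h3
      exact (mul_inv_eq_iff_eq_mul.1 h3.symm)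
    · rintro j x ⟨hxz, hxj⟩
      refine hcomm x hxz ?_
      by_cases hj : j ∈ I
      · have h1 : Commute x z := mem_centralizer_singleton_iff.1 hxz
        have h2 : Commute x (z * e) := (mem_centralizer_iff.1 hxj _ ((mem_meet.1 hze).2 j hj)).symm
        have h3 := h1.inv_right.mul_right h2
        rw [inv_mul_cancel_left] at h3
        exact h3.eq
      · exact (mem_centralizer_iff.1 hxj e ((iSup_le fun i : {i // i ∈ I} =>
          hF.orth i j (fun e => hj (e ▸ i.2))) he)).symm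
  obtain ⟨c, hc, rfl⟩ := hle hg
  refine ⟨c * ⟨e, heC⟩ * c⁻¹ * (⟨e, heC⟩ : ↥CC)⁻¹, (QuotientGroup.eq_one_iff _).1 ?_, rfl⟩
  show π (c * ⟨e, heC⟩ * c⁻¹ * (⟨e, heC⟩ : ↥CC)⁻¹) = 1
  rw [map_mul, map_mul, map_mul, map_inv, map_inv, mem_centralizer_singleton_iff.1 hc,
    mul_inv_cancel_right, mul_inv_cancel]

variable (h32 : 32 ≤ Nat.card (omegaS S hS))
  (hcomp : ∀ i, ∀ c ∈ C i, c ≠ 1 →
    ∃ K : Subgroup (Quo c), Cfsg.IsComponent K ∧
      (∀ v : ↥(centralizer ({c} : Set G)), (v : G) ∈ V i → proj c v ∈ K) ∧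
      ∀ w : ↥(centralizer ({c} : Set G)), (w : G) ∈ C i → ∀ k ∈ K, proj c w * k = k * proj c w)
  [IsSimpleGroup G]
include hns hsec hcov h32 hcomp

theorem blocks : Blocks S (omegaS S hS) V C where
  simple := inferInstance
  nonab h := hns (Group.isSolvable_of_comm h.is_comm.comm)
  ab := (local_of hS hsec).ab
  elem := (local_of hS hsec).elem
  le_sylow := fun _ hx => hx.1
  normalizer_le := fun _ hn => CfsgLib.Signalizer.Solv.mem_normalizer_of_forall_le fun _ hx =>
    conj_mem_omega S hS hn hx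
  big := h32
  V_le := hF.V_le
  C_le := hF.C_le
  V_big := hF.four_le_V
  C_big := hF.four_le_C
  disj := hF.disj
  orth i j hij := hF.orth j i hij.symm
  weight := (local_of hS hsec).weight hcov
  comp := hcomp

theorem exists_local (I : Set ι) (hIne : I.Nonempty) (U : Subgroup G) (hUE : U ≤ omegaS S hS) (hU : U ≠ ⊥)
    (hI : ∀ n ∈ normalizer ((S : Subgroup G) : Set G), ∀ i ∈ I, ∀ j,
      C j = (C i).map (MulAut.conj n).toMonoidHom → j ∈ I)
    (hmeet : ∀ i ∈ I, ∀ j, j ≠ i → ∀ v ∈ U, v ≠ 1 → v ∈ C i ∨ C i ⊓ C j ≠ ⊥)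
    (hbig : ∀ v ∈ U, v ≠ 1 → ∀ K : Subgroup (Quo v), Cfsg.IsComponent K → IsBig ↥K) :
    ∃ M : Subgroup G, M ≠ ⊤ ∧ normalizer ((S : Subgroup G) : Set G) ≤ M ∧ omegaS S hS ≤ M ∧
      ∀ u ∈ U, u ≠ 1 → centralizer ({u} : Set G) ≤ M :=
  (blocks hF hns hsec hcov h32 hcomp).exists_local I hIne U hUE hU
    (fun n hn i => (hF.conj n hn i).imp fun _ hj => ⟨hj.1.symm, hj.2.symm⟩)
    (fun n hn i hi j hj => hI n hn i hi j hj.symm) hmeet
    (fun v hv hv1 => (local_of hS hsec).cover hF.C_le (hUE hv) (hcov v (hUE hv) hv1))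
    (fun _ v hv hv1 => (local_of hS hsec).gen h32 (hUE hv) (hbig v hv hv1))

/-- The product step. -/
theorem product_step (hP : ProductAt S hS) (I : Set ι) (hIne : I.Nonempty) (hU : meet S hS C I ≠ ⊥)
    (hI : ∀ n ∈ normalizer ((S : Subgroup G) : Set G), ∀ i ∈ I, ∀ j,
      C j = (C i).map (MulAut.conj n).toMonoidHom → j ∈ I)
    (hbig : ∀ v ∈ meet S hS C I, v ≠ 1 → ∀ K : Subgroup (Quo v), Cfsg.IsComponent K → IsBig ↥K) : False := by
  haveI : Fact (Nat.Prime 2) := ⟨Nat.prime_two⟩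
  obtain ⟨M, hM, hNM, hEM, hC⟩ := exists_local hF hns hsec hcov h32 hcomp I hIne (meet S hS C I) inf_le_left hU
    hI (fun i hi j _ v hv _ => Or.inl ((mem_meet.1 hv).2 i hi)) hbig
  obtain ⟨hN1, hN2⟩ := normalizer_le_meet_join hF I hI
  have h4 : 4 ≤ Nat.card (meet S hS C I) := by
    obtain ⟨x, hx, hx1⟩ := (meet S hS C I).bot_or_exists_ne_one.resolve_left hU
    have hxE := (mem_meet.1 hx).1
    by_contra hlt
    have hall : ∀ y ∈ meet S hS C I, y = 1 ∨ y = x := by
      intro y hy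
      by_contra hne
      push Not at hne
      have hxy : x * y ≠ 1 := fun e => hne.2 (mul_left_cancel (e.trans hxE.2.symm))
      have hsub : ({1, x, y, x * y} : Set G) ⊆ (meet S hS C I : Set G) := by
        rintro z (rfl | rfl | rfl | rfl)
        exacts [one_mem _, hx, hy, mul_mem hx hy]
      have hcard : ({1, x, y, x * y} : Set G).ncard = 4 := by
        rw [Set.ncard_insert_of_notMem (by simp [Ne.symm hx1, Ne.symm hne.1, Ne.symm hxy]),
          Set.ncard_insert_of_notMem (by simp [Ne.symm hne.2, hne.1]),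
          Set.ncard_insert_of_notMem (by simp [hx1]), Set.ncard_singleton]
      have h := Set.ncard_le_ncard hsub (Set.toFinite _)
      rw [hcard, ← Nat.card_coe_set_eq] at h
      exact hlt h
    -- the only involution of the meet would be isolated
    have hfix : ∀ n ∈ normalizer ((S : Subgroup G) : Set G), n * x = x * n := by
      intro n hn
      rcases hall _ ((mem_normalizer_iff.1 (hN1 hn) x).1 hx) with h | h
      · exact absurd (conj_eq_one_iff.1 h) hx1
      · exact mul_inv_eq_iff_eq_mul.1 h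
    have hiso := Sections.isolated_of_normalizer S hS
      (CfsgLib.Signalizer.orderOf_eq_two_of hx1 hxE.2) hxE.1 hfix
    have hO : Cfsg.oddCore G = ⊥ :=
      ((inferInstance : (Cfsg.oddCore G).Normal).eq_bot_or_eq_top).resolve_right fun e => hns (by
        haveI : Group.IsSolvable (⊤ : Subgroup G) :=
          e ▸ Cfsg.Agent.S0205.result (CfsgLib.GW.DGroup.odd_oddCore G)
        exact Group.isSolvable_of_surjective (f := Subgroup.topEquiv.toMonoidHom) (MulEquiv.surjective _))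
    have hc : x ∈ center G := mem_center_iff.2 fun g => by
      have h := CfsgLib.ZStar.mem_oddCore_of_isolated hiso g
      rw [hO, mem_bot] at h
      calc g * x = 1 * (g * x) := (one_mul _).symm
        _ = (x * g * x⁻¹ * g⁻¹) * (g * x) := by rw [h]
        _ = x * g := by group
    rcases (inferInstance : (center G).Normal).eq_bot_or_eq_top with h | h
    · exact hx1 (mem_bot.1 (h ▸ hc))
    · exact hns (Group.isSolvable_of_comm fun a b => mem_center_iff.1 (h ▸ mem_top b) a)
  obtain ⟨i, hi⟩ := hIne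
  refine hP (meet S hS C I) (join V I) M (meet_inf_join hF I) (meet_sup_join hF I) hN1 hN2 h4
    (fun e => hF.V_ne_bot i (le_bot_iff.1 (e ▸ V_le_join hi))) hM hEM hC
    fun z hz hz1 e he hze g hg => fuse hF hsec hcov hI hz hz1 he hze hg

/-- **The small case.** -/
theorem solvCent_of_small (hP : ProductAt S hS) (J : Set ι) (hJne : J.Nonempty)
    (hJ : ∀ n ∈ normalizer ((S : Subgroup G) : Set G), ∀ i ∈ J, ∀ j,
      C j = (C i).map (MulAut.conj n).toMonoidHom → j ∈ J)
    (hbig : ∀ v ∈ omegaS S hS, v ≠ 1 → ((∀ j, j ∈ J) ∨ ∀ i ∈ J, v ∈ C i) →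
      ∀ K : Subgroup (Quo v), Cfsg.IsComponent K → IsBig ↥K) : SolvCent G := by
  by_cases hU : meet S hS C J ≠ ⊥
  · exact (product_step hF hns hsec hcov h32 hcomp hP J hJne hU hJ
      fun v hv hv1 => hbig v (mem_meet.1 hv).1 hv1 (Or.inr (mem_meet.1 hv).2)).elim
  have hall : ∀ j, j ∈ J := by
    intro j
    by_contra hj
    refine hF.V_ne_bot j (le_bot_iff.1 (le_trans (fun x hx => ?_) (not_not.1 hU).le))
    exact mem_meet.2 ⟨hF.V_le j hx, fun i hi => hF.orth j i (fun e => hj (e ▸ hi)) hx⟩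
  by_cases hmt : ∀ i j, i ≠ j → C i ⊓ C j ≠ ⊥
  · have h4 : 4 ≤ Nat.card (omegaS S hS) := le_trans (by norm_num) h32
    obtain ⟨M, hM, hNM, -, hC⟩ := exists_local hF hns hsec hcov h32 hcomp J hJne (omegaS S hS) le_rfl
      (fun e => by rw [e, Subgroup.card_bot] at h4; omega) hJ (fun i _ j hji v _ _ => Or.inr (hmt i j hji.symm))
      fun v hv hv1 => hbig v hv hv1 (Or.inl hall)
    exact solvCent_of_contains S hS h4 hM hNM hC
  push Not at hmt
  obtain ⟨i, j, hij, hmt⟩ := hmt
  refine (product_step hF hns hsec hcov h32 hcomp hP {i} ⟨i, rfl⟩ ?_ ?_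
    fun v hv hv1 => hbig v (mem_meet.1 hv).1 hv1 (Or.inl hall)).elim
  · intro e
    refine hF.C_ne_bot i (le_bot_iff.1 (le_trans (fun x hx => mem_meet.2 ⟨hF.C_le i hx, ?_⟩) e.le))
    rintro k rfl
    exact hx
  · rintro n hn k rfl l hl
    rw [(hF.map_eq_self hij hmt hn).2] at hl
    by_contra hne
    exact hF.V_ne_bot l (le_bot_iff.1 ((le_inf le_rfl (hl ▸ hF.orth l k hne)).trans (hF.disj l).le))

end CfsgLib.Walter.SmallU
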