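import Cfsg.Agent.Lib.Recog.Walter.PairsSeen
import Cfsg.Agent.Lib.Recog.Walter.SmallU2Case
import Cfsg.Agent.Lib.Recog.Walter.Pairs.Defs

/-!
Owner: helper23. Walter, slice S3 (Pairs): consequences of the seen lemma, for any maximal pair.

* `eq_of_mem_vK`: a component is determined by a nontrivial element of its first member.
* `comp_of_max`: a maximal pair is the pair of a component at each point of its second member (`hcomp`).
* `iso_or_jr`: the component above is isomorphic, or of Janko–Ree type with the small one as `N`.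
* `pairs_seen`: the hypothesis `Pairs.Seen`.
* `isBig_of_above`: below a block above a component which is not locally balanced, all components are big.
-/

set_option autoImplicit false
set_option linter.style.haveILetI false
set_option linter.unusedSectionVars false

namespace CfsgLib.Walter.Seen

open Subgroup
open CfsgLib.AbelianSolvCent (AbSylow)
open SmallU (Quo proj cK mem_cK IsBig)

universe u

section iso

variable {K L : Type u} [Group K] [Group L]

theorem isOddType_congr (e : K ≃* L) (h : IsOddType K) : IsOddType L := by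
  obtain ⟨F, iF, iT, h5, hq, ⟨f⟩⟩ := h
  exact ⟨F, iF, iT, h5, hq, ⟨e.symm.trans f⟩⟩

/-- The two types are different. -/
theorem not_jr_of_odd [Finite K] (h : IsOddType K) : ¬ IsJRType K := fun hJ => hJ.2.2.1 fun A hAc hA2 => by
  haveI : Fact (Nat.Prime 2) := ⟨Nat.prime_two⟩
  obtain ⟨P, hP⟩ := (show IsPGroup 2 A from fun a => ⟨1, Subtype.ext (by simpa using hA2 a a.2)⟩).exists_le_sylow
  exact ((card_le_of_le hP).trans (Sections.card_sylow h.pslData P).le).trans (by norm_num)

/-- A type which is not locally balanced is odd and of order other than sixty. -/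
theorem odd_of_not_locBal [Finite K] (h : IsWalterType K) (hL : ¬ LocBal K) : IsOddType K ∧ Nat.card K ≠ 60 := by
  rcases h with h | h | h
  · exact absurd h.locBal hL
  · exact ⟨h, fun e => hL (h.locBal_sixty e)⟩
  · exact absurd h.locBal hL

theorem isTwoType_congr (e : K ≃* L) (h : IsTwoType K) : IsTwoType L := by
  obtain ⟨n, hn, F, iF, iT, hF, ⟨f⟩⟩ := h
  exact ⟨n, hn, F, iF, iT, hF, ⟨e.symm.trans f⟩⟩

theorem not_jr_of_two [Finite K] (h : IsTwoType K) : ¬ IsJRType K := fun hJ => by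
  haveI := hJ.1
  obtain ⟨T⟩ := (inferInstance : Nonempty (Sylow 2 K))
  haveI : Fact (Nat.Prime 2) := ⟨Nat.prime_two⟩
  obtain ⟨t, ht⟩ := exists_prime_orderOf_dvd_card' (G := K) 2 (by
    have := (h.elemCent T).four_le_card
    obtain ⟨n, hn⟩ := T.2.exists_card_eq
    rcases n with _ | n
    · rw [hn] at this; norm_num at this
    · exact (hn ▸ dvd_pow_self 2 n.succ_ne_zero : 2 ∣ Nat.card (T : Subgroup K)).trans
        (card_subgroup_dvd_card _))
  obtain ⟨Y, N, hloc⟩ := Sections.exists_loc_of_jr hJ ht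
  exact hloc.not_comm_N ⟨⟨fun x y => Subtype.ext (by
    have h1 := congrArg Subtype.val
      (((h.elemCent T).hC t ht).1.is_comm.comm ⟨x, hloc.N_le_C x.2⟩ ⟨y, hloc.N_le_C y.2⟩)
    simpa using h1)⟩⟩

/-- The data of a centralizer under an isomorphism. -/
theorem loc_map (e : K ≃* L) {t : K} {Y N : Subgroup K} (h : Sections.Loc t Y N) :
    Sections.Loc (e t) (Y.map e.toMonoidHom) (N.map e.toMonoidHom) where
  ord := (e.orderOf_eq t).trans h.ord
  le := map_mono h.le
  comm := by
    rintro _ ⟨y, hy, rfl⟩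
    show e y * e t = e t * e y
    rw [← map_mul, h.comm y hy, map_mul]
  nrm := (map_mono h.nrm).trans (le_normalizer_map _)
  data := h.data.of_equiv (N.equivMapOfInjective e.toMonoidHom e.injective).symm
  simple := by
    haveI := h.simple
    have f := N.equivMapOfInjective e.toMonoidHom e.injective
    haveI : Nontrivial ↥(N.map e.toMonoidHom) := f.toEquiv.symm.nontrivial
    exact IsSimpleGroup.isSimpleGroup_of_surjective f.toMonoidHom f.surjective
  not_mem := by
    rintro ⟨y, hy, hye⟩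
    exact h.not_mem (e.injective hye ▸ hy)
  form := fun c hc => by
    obtain ⟨y, hy, hyc⟩ := h.form (e.symm c) (mem_centralizer_singleton_iff.2 (e.injective (by
      rw [map_mul, map_mul, e.apply_symm_apply]
      exact mem_centralizer_singleton_iff.1 hc)))
    refine ⟨e y, ⟨y, hy, rfl⟩, hyc.imp (fun he => ?_) fun he => ?_⟩
    · rw [← he, e.apply_symm_apply]
    · rw [← map_mul, ← he, e.apply_symm_apply]
  cen := by
    rintro _ ⟨y, hy, rfl⟩ hc
    have h1 := h.cen y hy fun z hz => e.injective (by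
      rw [map_mul, map_mul]
      exact hc _ ⟨z, hz, rfl⟩)
    rw [h1]
    exact map_one e

/-- `IsBig` transports along an isomorphism with a group of Walter type. -/
theorem isBig_congr [Finite K] [Finite L] (e : K ≃* L) (hL : IsWalterType L) (h : IsBig K) : IsBig L := by
  rcases h with ⟨h, h60⟩ | ⟨h, hN⟩
  · exact Or.inl ⟨isOddType_congr e h, (Nat.card_congr e.toEquiv) ▸ h60⟩
  · refine Or.inr ⟨?_, fun t Y N hloc h60 => ?_⟩
    · rcases hL with hT | hT | hT
      · exact absurd h (not_jr_of_two (isTwoType_congr e.symm hT))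
      · exact absurd h (not_jr_of_odd (isOddType_congr e.symm hT))
      · exact hT
    · refine hN _ _ _ (loc_map e.symm hloc) ?_
      rw [card_map_of_injective (f := e.symm.toMonoidHom) e.symm.injective]
      exact h60

end iso

variable {G : Type u} [Group G] [Finite G] {S : Sylow 2 G} {E : Subgroup G} (h : SmallU.Local S E)
include h

theorem exists_mem_vK {a : G} (ha : a ∈ E) {K : Subgroup (Quo a)} (hK : Cfsg.IsComponent K) :
    ∃ f ∈ vK E a K, f ≠ 1 := by
  haveI : Fact (Nat.Prime 2) := ⟨Nat.prime_two⟩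
  haveI : Nontrivial ↥((h.imS ha : Subgroup (Quo a)) ⊓ K) :=
    (nontrivial_iff_ne_bot _).2 (Sections.inf_component_ne_bot (h.imS ha) hK)
  have hp : IsPGroup 2 ↥((h.imS ha : Subgroup (Quo a)) ⊓ K) := (h.imS ha).2.to_le inf_le_left
  obtain ⟨⟨x, hx⟩, hx2⟩ := exists_prime_orderOf_dvd_card' (p := 2) (G := ↥((h.imS ha : Subgroup (Quo a)) ⊓ K)) (by
    obtain ⟨n, hn⟩ := hp.exists_card_eq
    rcases n with _ | n
    · exact absurd hn (Finite.one_lt_card).ne'
    · exact hn ▸ dvd_pow_self 2 n.succ_ne_zero)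
  rw [Subgroup.orderOf_mk] at hx2
  obtain ⟨e, he, hex⟩ := h.exists_lift ha hx.1 (CfsgLib.Signalizer.involution_sq hx2)
  refine ⟨e, (mem_vK he (h.le_cent ha he)).2 (by rw [hex]; exact hx.2), fun e1 => ?_⟩
  subst e1
  exact CfsgLib.Signalizer.involution_ne_one hx2 (hex.symm.trans (map_one (proj a)))

theorem eq_of_mem_vK {a : G} (ha : a ∈ E) {K K' : Subgroup (Quo a)} (hK : Cfsg.IsComponent K)
    (hK' : Cfsg.IsComponent K') {f : G} (hf : f ∈ vK E a K) (hf' : f ∈ vK E a K') (hf1 : f ≠ 1) : K = K' := by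
  by_contra hne
  exact hf1 (h.proj_eq_one ha (h.le_sylow hf.1) (Sections.eq_one_of_mem_components (h.quo_ab ha)
    (SmallU.Local.quo_core a) hK hK' hne ((mem_vK hf.1 _).1 hf) ((mem_vK hf'.1 _).1 hf')))

/-- A maximal pair is the pair of a component at every point of its second member. -/
theorem comp_of_max {a : G} (ha : a ∈ E) {K : Subgroup (Quo a)} (hK : Cfsg.IsComponent K) {c : G}
    (hc : c ∈ cK E a K)
    (hmax : ∀ K' : Subgroup (Quo c), Cfsg.IsComponent K' → vK E a K ≤ vK E c K' → cK E c K' ≤ cK E a K →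
      vK E c K' = vK E a K ∧ cK E c K' = cK E a K) :
    ∃ K' : Subgroup (Quo c), Cfsg.IsComponent K' ∧
      (∀ v : ↥(centralizer ({c} : Set G)), (v : G) ∈ vK E a K → proj c v ∈ K') ∧
      ∀ w : ↥(centralizer ({c} : Set G)), (w : G) ∈ cK E a K → ∀ k ∈ K', proj c w * k = k * proj c w := by
  obtain ⟨K', hK', hV, hC, -⟩ := exists_seen h ha hK hc
  refine ⟨K', hK', fun v hv => (mem_vK hv.1 v.2).1 (hV hv), fun w hw => ?_⟩
  rw [← (hmax K' hK' hV hC).2] at hw
  exact (mem_cK hw.1 w.2).1 hw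

/-- The component above is isomorphic, or of Janko–Ree type with `N` isomorphic to the small one. -/
theorem iso_or_jr {a : G} (ha : a ∈ E) {K : Subgroup (Quo a)} (hK : Cfsg.IsComponent K) {u : G}
    (hu : u ∈ cK E a K) (hu1 : u ≠ 1) {L : Subgroup (Quo u)} (hL : Cfsg.IsComponent L)
    (hV : vK E a K ≤ vK E u L) :
    Nonempty (↥K ≃* ↥L) ∨ IsJRType ↥L ∧
      ∀ (t : ↥L) (Y N : Subgroup ↥L), Sections.Loc t Y N → Nonempty (↥K ≃* ↥N) := by
  obtain ⟨L', hL', hV', -, Q, I⟩ := exists_seen h ha hK hu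
  obtain ⟨f, hf, hf1⟩ := exists_mem_vK h ha hK
  obtain rfl := eq_of_mem_vK h hu.1 hL hL' (hV hf) (hV' hf) hf1
  have hA := h.quo_ab hu.1
  have hO := SmallU.Local.quo_core (G := G) u
  set w := proj u ⟨a, h.le_cent hu.1 ha⟩ with hw
  by_cases hc : ∀ k ∈ L, w * k = k * w
  · exact Or.inl (I.iso_of_commute hA hO hL' hc).2
  · refine Or.inr (I.jr_of_not_commute hA hO hL' (h.component_type hu.1 hu1 hL') (h.imS hu.1)
      (h.mem_imS hu.1 (h.le_sylow ha)) ?_ hc)
    rw [hw, ← map_mul, show (⟨a, h.le_cent hu.1 ha⟩ * ⟨a, h.le_cent hu.1 ha⟩ :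
      ↥(centralizer ({u} : Set G))) = 1 from Subtype.ext (SmallU.sq_one h.elem ha), map_one]

/-- Components with the same pair are isomorphic. -/
theorem iso_of_pair {a : G} (ha : a ∈ E) {K : Subgroup (Quo a)} (hK : Cfsg.IsComponent K) {b : G}
    (hb : b ∈ E) {L : Subgroup (Quo b)} (hL : Cfsg.IsComponent L) (hV : vK E b L = vK E a K)
    (hC : cK E b L = cK E a K) : Nonempty (↥K ≃* ↥L) := by
  have hu : b ∈ cK E a K := hC ▸ h.a_mem_cK hb
  obtain ⟨L', hL', hV', -, Q, I⟩ := exists_seen h ha hK hu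
  obtain ⟨f, hf, hf1⟩ := exists_mem_vK h ha hK
  obtain rfl := eq_of_mem_vK h hb hL hL' (hV.symm ▸ hf) (hV' hf) hf1
  exact (I.iso_of_commute (h.quo_ab hb) (SmallU.Local.quo_core b) hL'
    ((mem_cK ha (h.le_cent hb ha)).1 (hC.symm ▸ h.a_mem_cK ha))).2

/-- A component below a block above a component that is not locally balanced is big. -/
theorem isBig_of_above {a : G} (ha : a ∈ E) {K : Subgroup (Quo a)} (hK : Cfsg.IsComponent K) {b : G}
    (hb : b ∈ E) (hb1 : b ≠ 1) (ha1 : a ≠ 1) {L : Subgroup (Quo b)} (hL : Cfsg.IsComponent L) (hnL : ¬ LocBal ↥L) {u : G}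
    (huK : u ∈ cK E a K) (huL : u ∈ cK E b L) (hu1 : u ≠ 1) {M : Subgroup (Quo u)} (hM : Cfsg.IsComponent M)
    (hVK : vK E a K ≤ vK E u M) (hVL : vK E b L ≤ vK E u M) : IsBig ↥K ∧ IsBig ↥M := by
  obtain ⟨hLo, hL60⟩ := odd_of_not_locBal (h.component_type hb hb1 hL) hnL
  rcases iso_or_jr h hb hL huL hu1 hM hVL with ⟨⟨e⟩⟩ | ⟨hJ, hN⟩
  · have hMo := isOddType_congr e hLo
    have h60 : Nat.card ↥M ≠ 60 := (Nat.card_congr e.toEquiv).symm ▸ hL60
    refine ⟨?_, Or.inl ⟨hMo, h60⟩⟩
    rcases iso_or_jr h ha hK huK hu1 hM hVK with ⟨⟨f⟩⟩ | ⟨hJ, -⟩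
    · exact Or.inl ⟨isOddType_congr f.symm hMo, (Nat.card_congr f.toEquiv).symm ▸ h60⟩
    · exact absurd hJ (not_jr_of_odd hMo)
  · have hbigM : IsBig ↥M := Or.inr ⟨hJ, fun t Y N hloc => by
      obtain ⟨f⟩ := hN t Y N hloc
      rw [← Nat.card_congr f.toEquiv]
      exact hL60⟩
    refine ⟨?_, hbigM⟩
    haveI : Fact (Nat.Prime 2) := ⟨Nat.prime_two⟩
    haveI := Sections.component_isSimple (h.quo_ab huK.1) (SmallU.Local.quo_core u) hM
    obtain ⟨t, ht⟩ := CfsgLib.AbelianSolvCent.exists_involution (H := ↥M)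
      (CfsgLib.Components.IsComponent.not_isSolvable hM)
    obtain ⟨Y, N, hloc⟩ := Sections.exists_loc_of_jr hJ ht
    rcases iso_or_jr h ha hK huK hu1 hM hVK with ⟨⟨f⟩⟩ | ⟨-, hN'⟩
    · exact isBig_congr f.symm (h.component_type ha ha1 hK) hbigM
    · obtain ⟨f⟩ := hN t Y N hloc
      obtain ⟨f'⟩ := hN' t Y N hloc
      exact Or.inl ⟨isOddType_congr (f.trans f'.symm) hLo,
        (Nat.card_congr (f.trans f'.symm).toEquiv) ▸ hL60⟩

omit h in
/-- The hypothesis `Pairs.Seen`. -/
theorem pairs_seen (hS : IsMulCommutative ↥(S : Subgroup G))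
    (hsec : ∀ a ∈ CfsgLib.AbelianSolvCent.omegaS S hS, a ≠ 1 →
      Sections.SecWalter ↥(centralizer ({a} : Set G))) : Pairs.Seen S hS := by
  intro a ha _ K hK u hu _
  obtain ⟨K', hK', hV, hC, -⟩ := exists_seen (SmallU.local_of hS hsec) ha hK hu
  exact ⟨K', hK', hV, hC⟩

end CfsgLib.Walter.Seen
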