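import Cfsg.Agent.Lib.Recog.Walter.SmallU2
import Cfsg.Agent.Lib.Recog.Walter.Sections.Balance
import Cfsg.Agent.Lib.Recog.Walter.Sections.Aut

/-!
Owner: helper23. Walter, slice S7: the three local hypotheses of `SmallU` from the sections.

* `centralizes_component`: `O(C(a))` in a group without odd core centralizes the components which are locally
  balanced or centralized by `a`.
* `Local.exists_weight_component`, `Local.weight`: the hypothesis `Blocks.weight`.
* `Local.cover`: `C(v)` is generated by `O(C(v))`, `N(S)` and the `C(Cb i)`.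
* `Local.gen`: by `O(C(v))`, `N(S)` and the `C(D)`, `|D| ≥ 16`, if all components are of type `q ≥ 11`.
-/

set_option autoImplicit false
set_option linter.style.haveILetI false
set_option linter.unusedSectionVars false

namespace CfsgLib.Walter.SmallU

open Subgroup
open CfsgLib.AbelianSolvCent (AbSylow)

universe u

section core

variable {X : Type u} [Group X] [Finite X] (hA : AbSylow X) (hO : Cfsg.oddCore X = ⊥) (S : Sylow 2 X) {a : X}
  (ha : a ∈ (S : Subgroup X)) {D : Subgroup X} (hD : Odd (Nat.card D))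
  (hCD : centralizer ({a} : Set X) ≤ normalizer (D : Set X))

include hA ha hCD in
omit [Finite X] in
theorem comm_mem {s : X} (hs : s ∈ (S : Subgroup X)) {d : X} (hd : d ∈ D) : s * d * s⁻¹ * d⁻¹ ∈ D :=
  mul_mem ((mem_normalizer_iff.1 (hCD (mem_centralizer_singleton_iff.2 (Sections.sylow_comm S (hA S) hs ha))) d).1 hd)
    (inv_mem hd)

include hD in
omit [Finite X] in
theorem eq_one_of_sq {z : X} (hz : z ∈ D) (h : z * z = 1) : z = 1 := orderOf_eq_one_iff.1
  (Nat.eq_one_of_dvd_coprimes (Nat.coprime_two_right.2 (hD.of_dvd_nat (D.orderOf_dvd_natCard hz)))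
    dvd_rfl (orderOf_dvd_of_pow_eq_one (by rw [pow_two]; exact h)))

include hA hO ha hD hCD in
/-- `D` normalizes every component. -/
theorem normalizes_component {K : Subgroup X} (hK : Cfsg.IsComponent K) : D ≤ normalizer (K : Set X) := by
  haveI : Fact (Nat.Prime 2) := ⟨Nat.prime_two⟩
  have hSD : ∀ s ∈ (S : Subgroup X), ∀ d ∈ D, s * d * s⁻¹ * d⁻¹ ∈ D := fun s hs d hd =>
    comm_mem hA S ha hCD hs hd
  have hodd1 : ∀ z ∈ D, z * z = 1 → z = 1 := fun z hz h => eq_one_of_sq hD hz h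
  obtain ⟨y, hy, hy1⟩ := (bot_or_exists_ne_one _).resolve_left (Sections.inf_component_ne_bot S hK)
  obtain ⟨n, hn⟩ := IsPGroup.iff_orderOf.1 S.2 ⟨y, hy.1⟩
  rw [Subgroup.orderOf_mk] at hn
  rcases n with _ | n
  · exact absurd (orderOf_eq_one_iff.1 (hn.trans (pow_zero 2))) hy1
  set s := y ^ 2 ^ n with hs
  have hs2 : orderOf s = 2 := by
    rw [hs, orderOf_pow_of_dvd (pow_ne_zero _ two_ne_zero) (hn ▸ pow_dvd_pow 2 n.le_succ), hn, pow_succ,
      Nat.mul_div_cancel_left _ (pow_pos two_pos n)]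
  have hsS : s ∈ (S : Subgroup X) := pow_mem hy.1 _
  have hsK : s ∈ K := pow_mem hy.2 _
  intro d hd
  refine mem_normalizer_iff_map_conj_eq.2 ?_
  by_contra hne
  have hK' := CfsgLib.Components.isComponent_map_equiv (MulAut.conj d) hK
  have hs' : d * s * d⁻¹ ∈ K.map (MulAut.conj d).toMonoidHom := ⟨s, hsK, rfl⟩
  have hc : d * s * d⁻¹ * s = s * (d * s * d⁻¹) := (mem_centralizer_iff.1
    (commutator_eq_bot_iff_le_centralizer.1 (CfsgLib.Components.components_commute hK hK' (Ne.symm hne)) hsK)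
    _ hs')
  have hsi : s⁻¹ = s := CfsgLib.Signalizer.involution_inv hs2
  have hss : s * s = 1 := CfsgLib.Signalizer.involution_sq hs2
  have hz : s * d * s⁻¹ * d⁻¹ ∈ D := hSD s hsS d hd
  have he : s * d * s⁻¹ * d⁻¹ = s * (d * s * d⁻¹) := by rw [hsi]; group
  have hsq : s * (d * s * d⁻¹) * (s * (d * s * d⁻¹)) = 1 := by
    calc s * (d * s * d⁻¹) * (s * (d * s * d⁻¹))
        = s * ((d * s * d⁻¹) * s) * (d * s * d⁻¹) := by group
      _ = s * (s * (d * s * d⁻¹)) * (d * s * d⁻¹) := by rw [hc]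
      _ = (s * s) * (d * (s * s) * d⁻¹) := by group
      _ = 1 := by rw [hss]; group
  have h1 := hodd1 _ hz (he ▸ hsq)
  rw [he] at h1
  have h2 : d * s * d⁻¹ = s := (eq_inv_of_mul_eq_one_right h1).trans hsi
  exact CfsgLib.Signalizer.involution_ne_one hs2
    (Sections.eq_one_of_mem_components hA hO hK hK' (Ne.symm hne) hsK (h2 ▸ hs'))

include hA hO ha hD hCD in
/-- A component which is locally balanced, or centralized by `a`, is centralized by `D`. -/
theorem centralizes_component (ha2 : orderOf a = 2) (hDC : D ≤ centralizer ({a} : Set X))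
    {K : Subgroup X} (hK : Cfsg.IsComponent K) (hL : LocBal ↥K ∨ ∀ k ∈ K, a * k * a⁻¹ = k) :
    ∀ d ∈ D, ∀ k ∈ K, d * k * d⁻¹ = k := by
  classical
  haveI : Fact (Nat.Prime 2) := ⟨Nat.prime_two⟩
  haveI := Sections.component_isSimple hA hO hK
  have hDn := normalizes_component hA hO S ha hD hCD hK
  obtain ⟨x, hx, hxk⟩ := Sections.exists_projection hA hO S hK ha
  have hcent : ∀ k ∈ K, k * x = x * k → k ∈ centralizer ({a} : Set X) := fun k hk hkx =>
    mem_centralizer_singleton_iff.2 (by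
      have h := hxk k hk
      rw [← hkx, mul_inv_cancel_right, mul_inv_eq_iff_eq_mul] at h
      exact h.symm)
  have hxc : ∀ k ∈ K, k ∈ centralizer ({a} : Set X) → k * x = x * k := fun k hk hka => by
    have h := hxk k hk
    rw [← mem_centralizer_singleton_iff.1 hka, mul_inv_cancel_right, eq_mul_inv_iff_mul_eq] at h
    exact h
  have hcomm : ∀ d ∈ D, ∀ k ∈ K, k * x = x * k → d * k * d⁻¹ * k⁻¹ ∈ D ⊓ K := fun d hd k hk hkx => by
    refine ⟨?_, K.mul_mem ((mem_normalizer_iff.1 (hDn hd) k).1 hk) (K.inv_mem hk)⟩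
    rw [show d * k * d⁻¹ * k⁻¹ = d * (k * d⁻¹ * k⁻¹) by group]
    exact mul_mem hd ((mem_normalizer_iff.1 (hCD (hcent k hk hkx)) _).1 (inv_mem hd))
  by_cases hx1 : x = 1
  · subst hx1
    have hKC : ∀ k ∈ K, k ∈ centralizer ({a} : Set X) := fun k hk => hcent k hk (by simp)
    haveI : ((D ⊓ K).subgroupOf K).Normal := ⟨fun z hz g =>
      ⟨(mem_normalizer_iff.1 (hCD (hKC _ g.2)) _).1 hz.1, K.mul_mem (K.mul_mem g.2 hz.2) (K.inv_mem g.2)⟩⟩
    have hbot : (D ⊓ K).subgroupOf K = ⊥ := (Normal.eq_bot_or_eq_top inferInstance).resolve_right fun e => by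
      refine CfsgLib.Components.IsComponent.not_isSolvable hK (Cfsg.Agent.S0205.result ?_)
      have hle : K ≤ D ⊓ K := subgroupOf_eq_top.1 e
      exact (odd_inf hD).of_dvd_nat (card_dvd_of_le hle)
    intro d hd k hk
    have h := hcomm d hd k hk (by simp)
    have h' : (⟨d * k * d⁻¹ * k⁻¹, h.2⟩ : K) ∈ (D ⊓ K).subgroupOf K := h
    rw [hbot, mem_bot] at h'
    exact mul_inv_eq_one.1 (congrArg Subtype.val h')
  have hLB : LocBal ↥K := hL.resolve_right fun hc => hx1 (by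
    have h1 : (⟨x, hx.2⟩ : K) ∈ center ↥K := mem_center_iff.2 fun g => Subtype.ext (by
      have h2 := (hxk g g.2).symm.trans (hc g g.2)
      exact (mul_inv_eq_iff_eq_mul.1 h2).symm)
    rw [Sections.center_component_eq_bot hA hO hK, mem_bot] at h1
    exact congrArg Subtype.val h1)
  have hx2 : orderOf (⟨x, hx.2⟩ : K) = 2 := by
    refine CfsgLib.Signalizer.orderOf_eq_two_of (fun e => hx1 (congrArg Subtype.val e)) ?_
    have hc : (⟨x, hx.2⟩ * ⟨x, hx.2⟩ : K) ∈ center ↥K := mem_center_iff.2 fun g => Subtype.ext (by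
      have h1 := hxk g g.2
      have h2 := hxk _ ((mem_normalizer_iff.1 (Sections.sylow_le_normalizer_component hA hO S hK ha) g).1 g.2)
      rw [show a * (a * (g : X) * a⁻¹) * a⁻¹ = (a * a) * (g : X) * (a * a)⁻¹ by group,
        CfsgLib.Signalizer.involution_sq ha2, h1] at h2
      show (g : X) * (x * x) = x * x * (g : X)
      calc (g : X) * (x * x) = (1 * (g : X) * (1 : X)⁻¹) * (x * x) := by simp
        _ = x * (x * (g : X) * x⁻¹) * x⁻¹ * (x * x) := by rw [h2]
        _ = x * x * (g : X) := by group)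
    rw [Sections.center_component_eq_bot hA hO hK, mem_bot] at hc
    exact hc
  have hCK : ∀ c : ↥K, c ∈ centralizer ({(⟨x, hx.2⟩ : K)} : Set ↥K) ↔ (c : X) * x = x * c := fun c =>
    mem_centralizer_singleton_iff.trans ⟨fun h => congrArg Subtype.val h, fun h => Subtype.ext h⟩
  set Cx := centralizer ({(⟨x, hx.2⟩ : K)} : Set ↥K) with hCx
  have hDK : ∀ z ∈ D ⊓ K, z = 1 := by
    intro z hz
    set P := ((D ⊓ K).subgroupOf K).subgroupOf Cx
    have hPn : P.Normal := ⟨fun w hw g => ⟨(mem_normalizer_iff.1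
      (hCD (hcent _ (g : ↥K).2 ((hCK _).1 g.2))) _).1 hw.1, K.mul_mem (K.mul_mem (g : ↥K).2 hw.2) (K.inv_mem (g : ↥K).2)⟩⟩
    have hPodd : Odd (Nat.card P) := (odd_inf (K := K) hD).of_dvd_nat (by
      rw [← Nat.card_congr (subgroupOfEquivOfLe (inf_le_right : D ⊓ K ≤ K)).toEquiv,
        ← Nat.card_congr (equivMapOfInjective P Cx.subtype Cx.subtype_injective).toEquiv.symm]
      exact card_dvd_of_le (map_comap_le _ _))
    have h1 : (⟨⟨z, hz.2⟩, (hCK _).2 (hxc z hz.2 (hDC hz.1))⟩ : Cx) ∈ P := hz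
    have h2 := CfsgLib.ZStar.le_oddCore hPn hPodd h1
    rw [hLB.core _ hx2, mem_bot] at h2
    exact congrArg (fun w : Cx => ((w : ↥K) : X)) h2
  intro d hd k hk
  set α : MulAut ↥K := MulDistribMulAction.toMulAut ↥(normalizer (K : Set X)) ↥K ⟨d, hDn hd⟩
  have hαv : ∀ g : ↥K, ((α g : ↥K) : X) = d * (g : X) * d⁻¹ := fun g => rfl
  have hα : α = 1 := by
    refine hLB.fix _ hx2 α ((hD.of_dvd_nat (D.orderOf_dvd_natCard hd)).of_dvd_nat
      ((orderOf_map_dvd (MulDistribMulAction.toMulAut ↥(normalizer (K : Set X)) ↥K) ⟨d, hDn hd⟩).trans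
        (by rw [Subgroup.orderOf_mk]))) fun c hc => Subtype.ext ?_
    rw [hαv]
    exact mul_inv_eq_one.1 (hDK _ (hcomm d hd c c.2 ((hCK c).1 hc)))
  exact (hαv ⟨k, hk⟩).symm.trans (by rw [hα]; rfl)

include hA hO ha hD hCD in
/-- An element of `D` centralizing every component is trivial. -/
theorem eq_one_of_centralizes_components {d : X} (hd : d ∈ D)
    (hK : ∀ K : Subgroup X, Cfsg.IsComponent K → ∀ k ∈ K, d * k * d⁻¹ = k) : d = 1 := by
  haveI : Fact (Nat.Prime 2) := ⟨Nat.prime_two⟩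
  have hSD : ∀ s ∈ (S : Subgroup X), ∀ d ∈ D, s * d * s⁻¹ * d⁻¹ ∈ D := fun s hs d hd =>
    comm_mem hA S ha hCD hs hd
  -- the fitting subgroup is centralised
  have hF : ∀ d ∈ D, ∀ y ∈ Cfsg.pCore 2 X, d * y = y * d := by
    intro d hd y hy
    have hyS := CfsgLib.Core.pCore_le_sylow S hy
    have hn : (Cfsg.pCore 2 X).Normal := inferInstance
    have h1 : y * d * y⁻¹ * d⁻¹ ∈ D := hSD y hyS d hd
    have h2 : y * d * y⁻¹ * d⁻¹ ∈ Cfsg.pCore 2 X := by
      rw [show y * d * y⁻¹ * d⁻¹ = y * (d * y⁻¹ * d⁻¹) by group]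
      exact mul_mem hy (hn.conj_mem _ (inv_mem hy) d)
    obtain ⟨k, hk⟩ := IsPGroup.iff_orderOf.1 (IsPGroup.to_le S.2 (CfsgLib.Core.pCore_le_sylow S)) ⟨_, h2⟩
    rw [Subgroup.orderOf_mk] at hk
    have h3 : y * d * y⁻¹ * d⁻¹ = 1 := orderOf_eq_one_iff.1 (Nat.eq_one_of_dvd_coprimes
      ((Nat.coprime_two_right.2 (hD.of_dvd_nat (D.orderOf_dvd_natCard h1))).pow_right k) dvd_rfl (hk ▸ dvd_rfl))
    rw [mul_inv_eq_one, mul_inv_eq_iff_eq_mul] at h3
    exact h3.symm
  set C := centralizer (Cfsg.generalizedFittingSubgroup X : Set X)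
  have hdC : d ∈ C := by
    have hle : Cfsg.generalizedFittingSubgroup X ≤ centralizer ({d} : Set X) := sup_le
      (CfsgLib.Components.layer_le_iff.2 fun K hK' k hk => mem_centralizer_singleton_iff.2
        (mul_inv_eq_iff_eq_mul.1 (hK K hK' k hk)).symm)
      (fun r hr => mem_centralizer_singleton_iff.2 (hF d hd r (Sections.fitting_eq hO ▸ hr)).symm)
    exact mem_centralizer_iff.2 fun g hg => mem_centralizer_singleton_iff.1 (hle hg)
  haveI := CfsgLib.Components.gFitting_normal (G := X)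
  have hCle : C ≤ Cfsg.generalizedFittingSubgroup X := CfsgLib.Components.centralizer_gFitting_le
  have hCf : C ≤ Cfsg.fittingSubgroup X := by
    have hCn : C.Normal := inferInstance
    haveI : IsMulCommutative ↥C := ⟨⟨fun a b => Subtype.ext
      (mem_centralizer_iff.1 b.2 (a : X) (hCle a.2))⟩⟩
    letI : CommGroup ↥C := { (inferInstance : Group ↥C) with mul_comm := fun a b => mul_comm' a b }
    exact le_sSup ⟨hCn, inferInstance⟩
  have hd2 : d ∈ Cfsg.pCore 2 X := Sections.fitting_eq hO ▸ hCf hdC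
  obtain ⟨k, hk⟩ := IsPGroup.iff_orderOf.1 (IsPGroup.to_le S.2 (CfsgLib.Core.pCore_le_sylow S)) ⟨_, hd2⟩
  rw [Subgroup.orderOf_mk] at hk
  exact orderOf_eq_one_iff.1 (Nat.eq_one_of_dvd_coprimes
    ((Nat.coprime_two_right.2 (hD.of_dvd_nat (D.orderOf_dvd_natCard hd))).pow_right k) dvd_rfl (hk ▸ dvd_rfl))


end core

variable {G : Type u} [Group G] [Finite G]

/-- `C(a) / O(C(a))`. -/
abbrev Quo (a : G) : Type u := ↥(centralizer ({a} : Set G)) ⧸ Cfsg.oddCore ↥(centralizer ({a} : Set G))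

/-- The projection. -/
abbrev proj (a : G) : ↥(centralizer ({a} : Set G)) →* Quo a :=
  QuotientGroup.mk' (Cfsg.oddCore ↥(centralizer ({a} : Set G)))

/-- The part of `E` centralizing a subgroup of `C(a) / O(C(a))`. -/
def cK (E : Subgroup G) (a : G) (K : Subgroup (Quo a)) : Subgroup G :=
  E ⊓ ((centralizer (K : Set (Quo a))).comap (proj a)).map (centralizer ({a} : Set G)).subtype

/-- The standing hypotheses. -/
structure Local (S : Sylow 2 G) (E : Subgroup G) : Prop where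
  ab : AbSylow G
  elem : Cfsg.IsElementaryAbelian 2 E
  le_sylow : E ≤ (S : Subgroup G)
  omega : ∀ s ∈ (S : Subgroup G), s * s = 1 → s ∈ E
  sec : ∀ a ∈ E, a ≠ 1 → Sections.SecWalter ↥(centralizer ({a} : Set G))

theorem mem_cK {E : Subgroup G} {a : G} {K : Subgroup (Quo a)} {f : G} (hf : f ∈ E)
    (hC : f ∈ centralizer ({a} : Set G)) :
    f ∈ cK E a K ↔ ∀ k ∈ K, proj a ⟨f, hC⟩ * k = k * proj a ⟨f, hC⟩ := by
  constructor
  · rintro ⟨-, y, hy, hye⟩ k hk
    rw [show (⟨f, hC⟩ : ↥(centralizer ({a} : Set G))) = y from Subtype.ext hye.symm]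
    exact (mem_centralizer_iff.1 hy k hk).symm
  · intro h
    exact ⟨hf, ⟨f, hC⟩, mem_centralizer_iff.2 fun k hk => (h k hk).symm, rfl⟩

namespace Local

variable {S : Sylow 2 G} {E : Subgroup G} (h : Local S E) {a : G} (ha : a ∈ E) (ha1 : a ≠ 1)
include h ha

theorem sylow_le : (S : Subgroup G) ≤ centralizer ({a} : Set G) := fun _ hs =>
  mem_centralizer_singleton_iff.2 (Sections.sylow_comm S (h.ab S) hs (h.le_sylow ha))

theorem le_cent : E ≤ centralizer ({a} : Set G) := h.le_sylow.trans (h.sylow_le ha)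

/-- The image of `S`. -/
noncomputable def imS : Sylow 2 (Quo a) :=
  haveI : Fact (Nat.Prime 2) := ⟨Nat.prime_two⟩
  (S.subtype (h.sylow_le ha)).mapSurjective (f := proj a) (QuotientGroup.mk'_surjective _)

theorem mem_imS {f : G} (hf : f ∈ (S : Subgroup G)) :
    proj a ⟨f, h.sylow_le ha hf⟩ ∈ (h.imS ha : Subgroup (Quo a)) := ⟨_, hf, rfl⟩

theorem quo_ab : AbSylow (Quo a) := CfsgLib.AbelianSolvCent.abSylow_of_surjective
  (CfsgLib.AbelianSolvCent.abSylow_subgroup h.ab _) (proj a) (QuotientGroup.mk'_surjective _)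

omit h ha in
theorem quo_core (a : G) : Cfsg.oddCore (Quo a) = ⊥ :=
  haveI : Fact (Nat.Prime 2) := ⟨Nat.prime_two⟩
  CfsgLib.Core.pPrimeCore_quotient_pPrimeCore 2 _

include ha1 in
theorem component_type {K : Subgroup (Quo a)} (hK : Cfsg.IsComponent K) : IsWalterType ↥K :=
  Sections.component_type (h.quo_ab ha) (quo_core a)
    (Sections.secWalter_of_surjective (h.sec a ha ha1) (proj a) (QuotientGroup.mk'_surjective _)) hK

theorem proj_eq_one {f : G} (hf : f ∈ (S : Subgroup G))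
    (hp : proj a ⟨f, h.sylow_le ha hf⟩ = 1) : f = 1 := by
  haveI : Fact (Nat.Prime 2) := ⟨Nat.prime_two⟩
  have hO : f ∈ core a := ⟨_, (QuotientGroup.eq_one_iff _).1 hp, rfl⟩
  obtain ⟨k, hk⟩ := IsPGroup.iff_orderOf.1 S.2 ⟨f, hf⟩
  rw [Subgroup.orderOf_mk] at hk
  exact orderOf_eq_one_iff.1 (Nat.eq_one_of_dvd_coprimes
    ((Nat.coprime_two_right.2 ((odd_core a).of_dvd_nat (Subgroup.orderOf_dvd_natCard _ hO))).pow_right k)
    dvd_rfl hk.dvd)

/-- An involution of the image of `S` comes from `E`. -/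
theorem exists_lift {v : Quo a} (hv : v ∈ (h.imS ha : Subgroup (Quo a))) (hv2 : v * v = 1) :
    ∃ e, ∃ he : e ∈ E, proj a ⟨e, h.le_cent ha he⟩ = v := by
  obtain ⟨s, hs, rfl⟩ := hv
  have hss : (s : G) * s = 1 := h.proj_eq_one ha (mul_mem hs hs)
    (by rw [← hv2, ← map_mul]; rfl)
  exact ⟨s, h.omega _ hs hss, rfl⟩

theorem a_mem_cK {K : Subgroup (Quo a)} : a ∈ cK E a K := by
  refine (mem_cK ha (h.le_cent ha ha)).2 fun k _ => ?_
  obtain ⟨c, rfl⟩ := QuotientGroup.mk'_surjective _ k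
  rw [← map_mul, ← map_mul]
  exact congrArg _ (Subtype.ext (mem_centralizer_singleton_iff.1 c.2).symm)

/-- `|E : C_E(K)| ≤ |S̄ ∩ K|`. -/
theorem card_le_cK {K : Subgroup (Quo a)} (hK : Cfsg.IsComponent K) :
    Nat.card E ≤ Nat.card ↥((h.imS ha : Subgroup (Quo a)) ⊓ K) * Nat.card (cK E a K) := by
  classical
  choose g hg hgk using fun f : E => Sections.exists_projection (h.quo_ab ha) (quo_core a) (h.imS ha) hK
    (h.mem_imS ha (h.le_sylow f.2))
  have hidx : ((cK E a K).subgroupOf E).index ≤ Nat.card ↥((h.imS ha : Subgroup (Quo a)) ⊓ K) := by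
    refine Nat.card_le_card_of_injective (fun q : E ⧸ (cK E a K).subgroupOf E => (⟨g q.out, hg q.out⟩ :
      ↥((h.imS ha : Subgroup (Quo a)) ⊓ K))) fun q r hqr => ?_
    have he : g q.out = g r.out := congrArg Subtype.val hqr
    rw [← QuotientGroup.out_eq' q, ← QuotientGroup.out_eq' r, QuotientGroup.eq, mem_subgroupOf]
    refine (mem_cK (mul_mem (inv_mem (q.out : E).2) (r.out : E).2) (h.le_cent ha
      (mul_mem (inv_mem (q.out : E).2) (r.out : E).2))).2 fun k hk => ?_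
    set p := proj a ⟨(q.out : E), h.le_cent ha (q.out : E).2⟩ with hp
    set s := proj a ⟨(r.out : E), h.le_cent ha (r.out : E).2⟩ with hs
    have h1 : p * k * p⁻¹ = g q.out * k * (g q.out)⁻¹ := hgk q.out k hk
    have h2 : s * k * s⁻¹ = g q.out * k * (g q.out)⁻¹ := he ▸ hgk r.out k hk
    have h3 : proj a ⟨((q.out : E) : G)⁻¹ * (r.out : E), h.le_cent ha
        (mul_mem (inv_mem (q.out : E).2) (r.out : E).2)⟩ = p⁻¹ * s := by
      rw [hp, hs, ← map_inv, ← map_mul]; rfl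
    rw [h3]
    calc p⁻¹ * s * k = p⁻¹ * (s * k * s⁻¹) * s := by group
      _ = p⁻¹ * (p * k * p⁻¹) * s := by rw [h2, ← h1]
      _ = k * (p⁻¹ * s) := by group
  have hmul := ((cK E a K).subgroupOf E).card_mul_index
  rw [Nat.card_congr (subgroupOfEquivOfLe (show cK E a K ≤ E from inf_le_left)).toEquiv] at hmul
  rw [← hmul, mul_comm (Nat.card _) (Nat.card (cK E a K))]
  exact Nat.mul_le_mul_left _ hidx

theorem card_inf_odd {K : Subgroup (Quo a)} (hK : Cfsg.IsComponent K) (hT : IsOddType ↥K) :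
    Nat.card ↥((h.imS ha : Subgroup (Quo a)) ⊓ K) = 4 := by
  obtain ⟨P, hP⟩ := Sections.exists_sylow_component (h.imS ha) hK
  rw [← Sections.card_sylow hT.pslData P, hP]
  exact Nat.card_congr ((subgroupOfEquivOfLe (inf_le_right : (h.imS ha : Subgroup (Quo a)) ⊓ K ≤ K)).symm.trans
    (MulEquiv.subgroupCongr (inf_subgroupOf_right _ _))).toEquiv

include ha1 in
/-- The hypothesis on weights. -/
theorem exists_weight_component {x : G} (hxa : x ∈ centralizer ({a} : Set G)) (hw : IsWeight E x)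
    (hxna : x ∉ core a) {b : G} (hb : b ∈ E) (hb1 : b ≠ 1) (hxb : x ∈ core b) :
    ∃ K : Subgroup (Quo a), Cfsg.IsComponent K ∧ IsOddType ↥K ∧ Nat.card E ≤ 4 * Nat.card (cK E a K) ∧
      (∀ f ∈ cK E a K, f * x = x * f) ∧ ∀ b' ∈ E, b' ≠ 1 → x ∈ core b' → b' ∉ cK E a K := by
  classical
  haveI : Fact (Nat.Prime 2) := ⟨Nat.prime_two⟩
  have hA := h.quo_ab ha
  have hO := quo_core a
  set C := centralizer ({a} : Set G) with hC
  set π := proj a with hπ
  set xb := π ⟨x, hxa⟩ with hxb'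
  -- the image of `O(C(b')) ∩ C(a)`
  have hD : ∀ b' ∈ E, ∀ hb'1 : b' ≠ 1, ∀ hb'C : b' ∈ C, x ∈ core b' →
      ∃ D : Subgroup (Quo a), Odd (Nat.card D) ∧ xb ∈ D ∧ orderOf (π ⟨b', hb'C⟩) = 2 ∧
        D ≤ centralizer ({π ⟨b', hb'C⟩} : Set (Quo a)) ∧
        centralizer ({π ⟨b', hb'C⟩} : Set (Quo a)) ≤ normalizer (D : Set (Quo a)) := by
    intro b' hb' hb'1 hb'C hxb'
    have hb2 : orderOf (⟨b', hb'C⟩ : ↥C) = 2 := by
      rw [Subgroup.orderOf_mk]; exact CfsgLib.Signalizer.orderOf_eq_two_of hb'1 (sq_one h.elem hb')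
    have hmap := CfsgLib.GW.DGroup.map_centralizer_singleton hb2
    refine ⟨((core b').subgroupOf C).map π, ?_, ⟨⟨x, hxa⟩, hxb', rfl⟩, ?_, ?_, ?_⟩
    · refine ((odd_core b').of_dvd_nat ?_).of_dvd_nat (((core b').subgroupOf C).card_map_dvd π)
      rw [Nat.card_congr (equivMapOfInjective _ C.subtype C.subtype_injective).toEquiv]
      exact card_dvd_of_le (map_comap_le _ _)
    · refine CfsgLib.Signalizer.orderOf_eq_two_of (fun e => hb'1 (h.proj_eq_one ha (h.le_sylow hb') e)) ?_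
      rw [← map_mul, show (⟨b', hb'C⟩ * ⟨b', hb'C⟩ : ↥C) = 1 from Subtype.ext (sq_one h.elem hb'), map_one]
    · rintro _ ⟨y, hy, rfl⟩
      rw [mem_centralizer_singleton_iff, ← map_mul, ← map_mul]
      exact congrArg _ (Subtype.ext (mem_centralizer_singleton_iff.1 (core_le b' hy)))
    · rw [← hmap]
      rintro _ ⟨c, hc, rfl⟩
      refine le_normalizer_map π ⟨c, ?_, rfl⟩
      have hcb : (c : G) * b' = b' * c := congrArg Subtype.val (mem_centralizer_singleton_iff.1 hc)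
      refine CfsgLib.Signalizer.Solv.mem_normalizer_of_forall_le fun y hy => ?_
      have h1 := core_conj (c : G) b' hy
      rw [hcb, mul_inv_cancel_right] at h1
      exact h1
  have hbC : b ∈ C := h.le_cent ha hb
  obtain ⟨Db, hDodd, hxD, hb2, hDle, hDn⟩ := hD b hb hb1 hbC hxb
  have hbS : π ⟨b, hbC⟩ ∈ (h.imS ha : Subgroup (Quo a)) := h.mem_imS ha (h.le_sylow hb)
  obtain ⟨K, hK, k0, hk0, hne⟩ :
      ∃ K : Subgroup (Quo a), Cfsg.IsComponent K ∧ ∃ k ∈ K, xb * k * xb⁻¹ ≠ k := by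
    by_contra hno
    push Not at hno
    refine hxna ⟨⟨x, hxa⟩, (QuotientGroup.eq_one_iff _).1 ?_, rfl⟩
    exact eq_one_of_centralizes_components hA hO (h.imS ha) hbS hDodd hDn hxD hno
  have hnLB : ¬ LocBal ↥K := fun hL =>
    hne (centralizes_component hA hO (h.imS ha) hbS hDodd hDn hb2 hDle hK (Or.inl hL) _ hxD k0 hk0)
  have hodd : IsOddType ↥K := by
    rcases h.component_type ha ha1 hK with h2 | h2 | h2
    · exact absurd h2.locBal hnLB
    · exact h2
    · exact absurd h2.locBal hnLB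
  refine ⟨K, hK, hodd, ?_, fun f hf => ?_, fun b' hb' hb'1 hxb'' hb'K => ?_⟩
  · have := h.card_le_cK ha hK
    rwa [h.card_inf_odd ha hK hodd] at this
  · rcases hw f hf.1 with hfx | hfx
    · exact mul_inv_eq_iff_eq_mul.1 hfx
    exfalso
    have hfC : f ∈ C := h.le_cent ha hf.1
    have hfK := (mem_cK hf.1 hfC).1 hf
    have hN := normalizes_component hA hO (h.imS ha) hbS hDodd hDn hK
    set fb := π ⟨f, hfC⟩ with hfb
    have hinv : fb * xb * fb⁻¹ = xb⁻¹ := by
      rw [hfb, hxb', ← map_inv, ← map_inv, ← map_mul, ← map_mul]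
      exact congrArg π (Subtype.ext hfx)
    have hfix : ∀ k ∈ K, fb * k * fb⁻¹ = k := fun k hk => by rw [hfK k hk, mul_inv_cancel_right]
    have hsq : ∀ k ∈ K, xb * xb * k * (xb * xb)⁻¹ = k := by
      intro k hk
      have hxk : xb * k * xb⁻¹ ∈ K := (mem_normalizer_iff.1 (hN hxD) k).1 hk
      have e : xb⁻¹ * k * xb = xb * k * xb⁻¹ := by
        calc xb⁻¹ * k * xb = (fb * xb * fb⁻¹) * (fb * k * fb⁻¹) * (fb * xb * fb⁻¹)⁻¹ := by
              rw [hinv, hfix k hk, inv_inv]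
          _ = fb * (xb * k * xb⁻¹) * fb⁻¹ := by group
          _ = xb * k * xb⁻¹ := hfix _ hxk
      calc xb * xb * k * (xb * xb)⁻¹ = xb * (xb * k * xb⁻¹) * xb⁻¹ := by group
        _ = xb * (xb⁻¹ * k * xb) * xb⁻¹ := by rw [e]
        _ = k := by group
    have hc : xb * xb ∈ centralizer (K : Set (Quo a)) := mem_centralizer_iff.2 fun k hk =>
      (mul_inv_eq_iff_eq_mul.1 (hsq k hk)).symm
    obtain ⟨j, hj⟩ := hDodd.of_dvd_nat (Subgroup.orderOf_dvd_natCard Db hxD)
    have hxc : xb ∈ centralizer (K : Set (Quo a)) := by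
      have : xb = (xb * xb) ^ (j + 1) := by
        rw [← pow_two, ← pow_mul, show 2 * (j + 1) = orderOf xb + 1 by omega, pow_succ, pow_orderOf_eq_one,
          one_mul]
      rw [this]
      exact pow_mem hc _
    exact hne (by rw [← mem_centralizer_iff.1 hxc k0 hk0, mul_inv_cancel_right])
  · have hb'C : b' ∈ C := h.le_cent ha hb'
    obtain ⟨D', hD'odd, hxD', hb'2, hD'le, hD'n⟩ := hD b' hb' hb'1 hb'C hxb''
    exact hne (centralizes_component hA hO (h.imS ha) (h.mem_imS ha (h.le_sylow hb')) hD'odd hD'n hb'2 hD'le hK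
      (Or.inr fun k hk => by rw [(mem_cK hb' hb'C).1 hb'K k hk, mul_inv_cancel_right]) _ hxD' k0 hk0)

/-- Elements of the quotient commuting with a 2-subgroup of `E` lift into its centralizer. -/
theorem exists_lift_centralizer {P : Subgroup G} (hP : P ≤ E) {k : Quo a}
    (hk : ∀ p : ↥(centralizer ({a} : Set G)), (p : G) ∈ P → proj a p * k = k * proj a p) :
    ∃ g : ↥(centralizer ({a} : Set G)), (g : G) ∈ centralizer (P : Set G) ∧ proj a g = k := by
  haveI : Fact (Nat.Prime 2) := ⟨Nat.prime_two⟩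
  set P' := P.subgroupOf (centralizer ({a} : Set G)) with hP'
  have hp : IsPGroup 2 P' :=
    ((CfsgLib.Signalizer.elementary_isPGroup h.elem).to_le hP).comap_of_injective _
      (centralizer ({a} : Set G)).subtype_injective
  have hmap := CfsgLib.PLocal.map_centralizer_eq (p := 2) (Cfsg.oddCore ↥(centralizer ({a} : Set G)))
    (CfsgLib.Core.coprime_card_pPrimeCore 2 _) hp
  have hkc : k ∈ centralizer ((P'.map (proj a) : Subgroup (Quo a)) : Set (Quo a)) := mem_centralizer_iff.2 (by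
    rintro _ ⟨p, hpP, rfl⟩
    exact hk p hpP)
  rw [← hmap] at hkc
  obtain ⟨g, hg, rfl⟩ := hkc
  exact ⟨g, mem_centralizer_iff.2 fun p hpP => congrArg Subtype.val
    (mem_centralizer_iff.1 hg ⟨p, h.le_cent ha (hP hpP)⟩ hpP), rfl⟩

omit a ha in
/-- `C(v)` lies in `H` if `O(C(v))`, `N(S)` and the components do. -/
theorem centralizer_le_of_components {v : G} (hv : v ∈ E) {H : Subgroup G} (hH1 : core v ≤ H)
    (hH2 : normalizer ((S : Subgroup G) : Set G) ⊓ centralizer ({v} : Set G) ≤ H)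
    (hK : ∀ K : Subgroup (Quo v), Cfsg.IsComponent K →
      normalizer ((h.imS hv : Subgroup (Quo v)) : Set (Quo v)) ≤ (H.subgroupOf (centralizer ({v} : Set G))).map (proj v) →
      K ≤ (H.subgroupOf (centralizer ({v} : Set G))).map (proj v)) :
    centralizer ({v} : Set G) ≤ H := by
  haveI : Fact (Nat.Prime 2) := ⟨Nat.prime_two⟩
  set C := centralizer ({v} : Set G) with hC
  set π := proj v with hπ
  set H' := H.subgroupOf C with hH'
  have hSC := h.sylow_le hv
  have hSH : ∀ s ∈ (S : Subgroup G), s ∈ H := fun s hs => hH2 ⟨le_normalizer hs, hSC hs⟩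
  -- Frattini
  have hN : normalizer ((h.imS hv : Subgroup (Quo v)) : Set (Quo v)) ≤ H'.map π := by
    intro q hq
    obtain ⟨n, rfl⟩ := QuotientGroup.mk'_surjective _ q
    set M := ((h.imS hv : Subgroup (Quo v)).comap π).map C.subtype with hM
    have hSM : (S : Subgroup G) ≤ M := fun s hs => ⟨⟨s, hSC hs⟩, h.mem_imS hv hs, rfl⟩
    have hXM : (S : Subgroup G).map (MulAut.conj (n : G)).toMonoidHom ≤ M := by
      rintro _ ⟨s, hs, rfl⟩
      refine ⟨n * ⟨s, hSC hs⟩ * n⁻¹, ?_, rfl⟩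
      show π (n * ⟨s, hSC hs⟩ * n⁻¹) ∈ (h.imS hv : Subgroup (Quo v))
      rw [map_mul, map_mul, map_inv]
      exact (mem_normalizer_iff.1 hq _).1 (h.mem_imS hv hs)
    have hiT : ¬ 2 ∣ (S : Subgroup G).relIndex M := fun hd =>
      S.not_dvd_index (hd.trans (relIndex_dvd_index_of_le hSM))
    obtain ⟨m, ⟨m', hm', hmm⟩, hmS⟩ := CfsgLib.Transfer.exists_conj_le S.2 hiT hXM (S.2.map _)
    have hmH : π m' ∈ H'.map π := by
      obtain ⟨s, hs, hse⟩ := hm'
      exact ⟨s, hSH _ hs, hse⟩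
    have hn : (m'⁻¹ * n : ↥C) ∈ H' := hH2 ⟨CfsgLib.Signalizer.Solv.mem_normalizer_of_forall_le fun s hs => by
      have := hmS _ ⟨s, hs, rfl⟩
      rw [← hmm] at this
      simpa [mul_assoc] using this, (m'⁻¹ * n : ↥C).2⟩
    have := mul_mem hmH (mem_map_of_mem π hn)
    rwa [← map_mul, mul_inv_cancel_left] at this
  have hA := h.quo_ab hv
  have hO := quo_core v
  have hSN : Cfsg.pCore 2 (Quo v) ≤ normalizer ((h.imS hv : Subgroup (Quo v)) : Set (Quo v)) :=
    (CfsgLib.Core.pCore_le_sylow (h.imS hv)).trans le_normalizer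
  haveI := CfsgLib.Components.layer_normal (G := Quo v)
  have hFr := Sylow.normalizer_sup_eq_top' (N := Cfsg.pCore 2 (Quo v) ⊔ Cfsg.layer (Quo v)) (h.imS hv)
    (Sections.sylow_le hA hO (h.imS hv))
  have htop : H'.map π = ⊤ := top_le_iff.1 (hFr ▸ sup_le hN (sup_le (hSN.trans hN)
    (CfsgLib.Components.layer_le_iff.2 fun K hK' => hK K hK' hN)))
  intro g hg
  obtain ⟨y, hy, hye⟩ : π ⟨g, hg⟩ ∈ H'.map π := htop ▸ mem_top _
  have ho : y⁻¹ * ⟨g, hg⟩ ∈ Cfsg.oddCore ↥C := (QuotientGroup.eq_one_iff _).1 (by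
    show π (y⁻¹ * ⟨g, hg⟩) = 1
    rw [map_mul, map_inv, hye, inv_mul_cancel])
  have h2 := mul_mem hy (show y⁻¹ * ⟨g, hg⟩ ∈ H' from hH1 ⟨_, ho, rfl⟩)
  rwa [mul_inv_cancel_left] at h2

omit a ha in
/-- The hypothesis `hcover`. -/
theorem cover {ι : Type*} {Cb : ι → Subgroup G} (hCE : ∀ i, Cb i ≤ E) {v : G} (hv : v ∈ E)
    (hcov : ∀ K : Subgroup (Quo v), Cfsg.IsComponent K → ∃ j, Cb j ≤ cK E v K)
    (H : Subgroup G) (hH1 : core v ≤ H)
    (hH2 : normalizer ((S : Subgroup G) : Set G) ⊓ centralizer ({v} : Set G) ≤ H)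
    (hH3 : ∀ i, centralizer ({v} : Set G) ⊓ centralizer (Cb i : Set G) ≤ H) :
    centralizer ({v} : Set G) ≤ H := by
  refine h.centralizer_le_of_components hv hH1 hH2 fun K hK _ k hk => ?_
  obtain ⟨j, hj⟩ := hcov K hK
  obtain ⟨g, hg, rfl⟩ := h.exists_lift_centralizer hv (hCE j) (k := k) fun p hp =>
    (mem_cK (hCE j hp) p.2).1 (hj hp) k hk
  exact mem_map_of_mem _ (hH3 j ⟨g.2, hg⟩)

omit a ha in
/-- An element of `S̄` normalized into `S̄` by the normalizer of `S̄ ∩ K` in `K`. -/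
theorem normalizer_component_le {v : G} (hv : v ∈ E) {K : Subgroup (Quo v)} (hK : Cfsg.IsComponent K)
    {P : Sylow 2 ↥K} (hP : (P : Subgroup ↥K) = (h.imS hv : Subgroup (Quo v)).subgroupOf K) {n : ↥K}
    (hn : n ∈ normalizer ((P : Subgroup ↥K) : Set ↥K)) :
    (n : Quo v) ∈ normalizer ((h.imS hv : Subgroup (Quo v)) : Set (Quo v)) := by
  refine CfsgLib.Signalizer.Solv.mem_normalizer_of_forall_le fun s hs => ?_
  obtain ⟨y, hy, hyk⟩ := Sections.exists_projection (h.quo_ab hv) (quo_core v) (h.imS hv) hK hs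
  have h1 : (n : Quo v) * y * (n : Quo v)⁻¹ ∈ (h.imS hv : Subgroup (Quo v)) := by
    have h2 := (mem_normalizer_iff.1 hn ⟨y, hy.2⟩).1 (by rw [hP]; exact hy.1)
    rw [hP] at h2
    exact h2
  have hc : (y⁻¹ * s) * (n : Quo v) * (y⁻¹ * s)⁻¹ = n := by
    calc (y⁻¹ * s) * (n : Quo v) * (y⁻¹ * s)⁻¹ = y⁻¹ * (s * n * s⁻¹) * y := by group
      _ = y⁻¹ * (y * n * y⁻¹) * y := by rw [hyk n n.2]
      _ = n := by group
  have e : (n : Quo v) * s * (n : Quo v)⁻¹ = (n * y * (n : Quo v)⁻¹) * (y⁻¹ * s) := by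
    calc (n : Quo v) * s * (n : Quo v)⁻¹ = n * y * ((y⁻¹ * s) * (n : Quo v)⁻¹ * (y⁻¹ * s)⁻¹) * (y⁻¹ * s) := by
          group
      _ = n * y * ((y⁻¹ * s) * n * (y⁻¹ * s)⁻¹)⁻¹ * (y⁻¹ * s) := by group
      _ = _ := by rw [hc]
  rw [e]
  exact mul_mem h1 (mul_mem (inv_mem hy.1) hs)

omit h a ha in
theorem card_double {A : Subgroup G} {f : G} (hfA : f ∉ A) :
    2 * Nat.card A ≤ Nat.card ↥(A ⊔ zpowers f) := by
  have hle : A ≤ A ⊔ zpowers f := le_sup_left
  obtain ⟨c, hc⟩ := card_dvd_of_le hle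
  rcases c with _ | _ | c
  · rw [mul_zero] at hc
    exact absurd hc Nat.card_pos.ne'
  · exact absurd (eq_of_le_of_card_ge hle (by omega) ▸ mem_sup_right (mem_zpowers f)) hfA
  · rw [hc, mul_comm 2]; exact Nat.mul_le_mul_left _ (by omega)

omit a ha in
/-- The hypothesis `Blocks.weight`. -/
theorem weight {ι : Type*} {Cb : ι → Subgroup G}
    (hcov : ∀ a ∈ E, a ≠ 1 → ∀ K : Subgroup (Quo a), Cfsg.IsComponent K → ∃ j, Cb j ≤ cK E a K) :
    ∀ a ∈ E, a ≠ 1 → ∀ x ∈ centralizer ({a} : Set G), IsWeight E x → x ∉ core a →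
      ∀ b ∈ E, b ≠ 1 → x ∈ core b →
        ∃ C' : Subgroup G, C' ≤ E ∧ Nat.card E ≤ 4 * Nat.card C' ∧ (∀ f ∈ C', f * x = x * f) ∧
          (∃ j, Cb j ≤ C') ∧ ∀ b' ∈ E, b' ≠ 1 → x ∈ core b' → b' ∉ C' := by
  intro a ha ha1 x hxa hw hxna b hb hb1 hxb
  obtain ⟨K, hK, -, h4, hfix, hout⟩ := h.exists_weight_component ha ha1 hxa hw hxna hb hb1 hxb
  exact ⟨cK E a K, inf_le_left, h4, hfix, hcov a ha ha1 K hK, hout⟩

omit a ha in
/-- Generation by the `C(D)`, `|D| ≥ m`, for `2 m ≤ |E|`. -/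
theorem gen_of_le (m : ℕ) (hm : 2 * m ≤ Nat.card E) {v : G} (hv : v ∈ E)
    (hbig : ∀ K : Subgroup (Quo v), Cfsg.IsComponent K →
      (IsOddType ↥K ∧ Nat.card K ≠ 60) ∨
      (IsJRType ↥K ∧ ∀ (t : ↥K) (X N : Subgroup ↥K), Sections.Loc t X N → Nat.card N ≠ 60))
    (H : Subgroup G) (hH1 : core v ≤ H)
    (hH2 : normalizer ((S : Subgroup G) : Set G) ⊓ centralizer ({v} : Set G) ≤ H)
    (hH3 : ∀ D ≤ E, v ∈ D → m ≤ Nat.card D →
      centralizer ({v} : Set G) ⊓ centralizer (D : Set G) ≤ H) :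
    centralizer ({v} : Set G) ≤ H := by
  classical
  haveI : Fact (Nat.Prime 2) := ⟨Nat.prime_two⟩
  refine h.centralizer_le_of_components hv hH1 hH2 fun K hK hN => ?_
  have hA := h.quo_ab hv
  have hO := quo_core v
  haveI := Sections.component_isSimple hA hO hK
  set HQ := (H.subgroupOf (centralizer ({v} : Set G))).map (proj v) with hHQ
  suffices htop : HQ.subgroupOf K = ⊤ from subgroupOf_eq_top.1 htop
  obtain ⟨P, hP⟩ := Sections.exists_sylow_component (h.imS hv) hK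
  have hNP : normalizer ((P : Subgroup ↥K) : Set ↥K) ≤ HQ.subgroupOf K := fun n hn =>
    hN (h.normalizer_component_le hv hK hP hn)
  -- elements centralizing enough of `E`
  have hcent : ∀ D : Subgroup G, D ≤ E → m ≤ Nat.card D → cK E v K ≤ D → ∀ k : ↥K,
      (∀ p : ↥(centralizer ({v} : Set G)), (p : G) ∈ D → proj v p * k = k * proj v p) →
      k ∈ HQ.subgroupOf K := by
    intro D hDE hDm' hKD k hk
    obtain ⟨g, hg, hge⟩ := h.exists_lift_centralizer hv hDE (k := (k : Quo v)) hk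
    exact ⟨g, hH3 D hDE (hKD (h.a_mem_cK hv)) hDm' ⟨g.2, hg⟩, hge⟩
  have hcKs : ∀ p : ↥(centralizer ({v} : Set G)), (p : G) ∈ cK E v K → ∀ k ∈ K, proj v p * k = k * proj v p :=
    fun p hp => (mem_cK hp.1 p.2).1 hp
  have hlift : ∀ w : ↥K, w ∈ (P : Subgroup ↥K) → w ≠ 1 → orderOf w = 2 →
      ∃ e, ∃ he : e ∈ E, proj v ⟨e, h.le_cent hv he⟩ = w ∧ e ∉ cK E v K := by
    intro w hw hw1 hw2
    obtain ⟨e, he, hew⟩ := h.exists_lift hv (v := (w : Quo v)) (by rw [hP] at hw; exact hw) (by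
      exact congrArg Subtype.val (CfsgLib.Signalizer.involution_sq hw2))
    refine ⟨e, he, hew, fun heK => hw1 ?_⟩
    have hc : w ∈ center ↥K := mem_center_iff.2 fun g => Subtype.ext (by
      have := (mem_cK he (h.le_cent hv he)).1 heK g g.2
      rw [hew] at this
      exact this.symm)
    rw [Sections.center_component_eq_bot hA hO hK, mem_bot] at hc
    exact hc
  rcases hbig K hK with ⟨hT, h60⟩ | ⟨hT, hNbig⟩
  · obtain ⟨w, hw, hw1⟩ := (P : Subgroup ↥K).bot_or_exists_ne_one.resolve_left fun e => by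
      have := Sections.card_sylow hT.pslData P
      rw [e, Subgroup.card_bot] at this
      omega
    have hw2 := Sections.orderOf_of_mem hT.pslData P hw hw1
    obtain ⟨e, he, hew, henK⟩ := hlift w hw hw1 hw2
    have h4 : Nat.card E ≤ 4 * Nat.card (cK E v K) := by
      have := h.card_le_cK hv hK
      rwa [h.card_inf_odd hv hK hT] at this
    refine Sections.eq_top_of_contains hT.pslData h60 P hw hw2 (fun k hk => ?_) hNP
    refine hcent (cK E v K ⊔ zpowers e) (sup_le inf_le_left (zpowers_le.2 he)) (by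
      have := card_double henK
      omega) le_sup_left k fun p hp => ?_
    have hsub : cK E v K ⊔ zpowers e ≤
        ((centralizer ({(k : Quo v)} : Set (Quo v))).comap (proj v)).map (centralizer ({v} : Set G)).subtype := by
      refine sup_le (fun f hf => ⟨⟨f, h.le_cent hv hf.1⟩, mem_centralizer_singleton_iff.2
        (hcKs ⟨f, h.le_cent hv hf.1⟩ hf k k.2), rfl⟩) (zpowers_le.2 ⟨⟨e, h.le_cent hv he⟩, ?_, rfl⟩)
      refine mem_centralizer_singleton_iff.2 ?_
      rw [hew]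
      exact (congrArg Subtype.val (mem_centralizer_singleton_iff.1 hk)).symm
    obtain ⟨q, hq, hqp⟩ := hsub hp
    rw [← show q = p from Subtype.ext hqp]
    exact mem_centralizer_singleton_iff.1 hq
  · obtain ⟨t, ht, ht1⟩ := (P : Subgroup ↥K).bot_or_exists_ne_one.resolve_left fun e => by
      refine CfsgLib.Components.IsComponent.not_isSolvable hK (Cfsg.Agent.S0205.result ?_)
      have h0 := P.not_dvd_index
      rw [e, Subgroup.index_bot] at h0
      exact Nat.not_even_iff_odd.1 fun h2 => h0 h2.two_dvd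
    have hsq : ∀ s ∈ (P : Subgroup ↥K), s ≠ 1 → orderOf s = 2 := fun s hs hs1 =>
      CfsgLib.Signalizer.orderOf_eq_two_of hs1 (Sections.jr_sq hT P hs)
    obtain ⟨X, N, L⟩ := Sections.exists_loc_of_jr hT (hsq t ht ht1)
    have h8 := (Sections.jr_card hT P ht L).1
    obtain ⟨t', ht', ht'1, ht't⟩ : ∃ t' ∈ (P : Subgroup ↥K), t' ≠ 1 ∧ t' ≠ t := by
      by_contra hno
      push Not at hno
      have hsub : ((P : Subgroup ↥K) : Set ↥K) ⊆ {1, t} := fun s hs => by
        rcases eq_or_ne s 1 with rfl | h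
        · exact Or.inl rfl
        · exact Or.inr (hno s hs h)
      have h2 : ((P : Subgroup ↥K) : Set ↥K).ncard ≤ 2 := le_trans
        (Set.ncard_le_ncard hsub (Set.toFinite _)) ((Set.ncard_insert_le _ _).trans (by simp))
      rw [← Nat.card_coe_set_eq] at h2
      change Nat.card ↥(P : Subgroup ↥K) ≤ 2 at h2
      omega
    obtain ⟨e, he, hew, henK⟩ := hlift t ht ht1 (hsq t ht ht1)
    obtain ⟨e', he', hew', -⟩ := hlift t' ht' ht'1 (hsq t' ht' ht'1)
    have he'D : e' ∉ cK E v K ⊔ zpowers e := by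
      intro hmem
      obtain ⟨f, hf, z, hz, hfz⟩ := (CfsgLib.Core.mem_sup_iff_mul (H := cK E v K) (N := zpowers e) (by
        intro f hf
        refine centralizer_le_normalizer _ (mem_centralizer_iff.2 fun z hz => ?_)
        exact comm h.elem (zpowers_le.2 he hz) hf.1)).1 hmem
      obtain ⟨i, rfl⟩ := mem_zpowers_iff.1 hz
      have hti : (t ^ i)⁻¹ * t' ∈ center ↥K := mem_center_iff.2 fun g => Subtype.ext (by
        have h1 : proj v ⟨e', h.le_cent hv he'⟩ = proj v ⟨f, h.le_cent hv hf.1⟩ *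
            proj v ⟨e, h.le_cent hv he⟩ ^ i := by
          rw [← map_zpow, ← map_mul]
          exact congrArg _ (Subtype.ext hfz)
        rw [hew, hew'] at h1
        have h2 : (t' : Quo v) * ((t : Quo v) ^ i)⁻¹ = proj v ⟨f, h.le_cent hv hf.1⟩ := by
          rw [h1]; group
        have h3 := hcKs ⟨f, h.le_cent hv hf.1⟩ hf g g.2
        rw [← h2] at h3
        have hc : Commute (t : Quo v) t' := congrArg Subtype.val
          (Sections.sylow_comm P (CfsgLib.AbelianSolvCent.abSylow_subgroup hA K P) ht ht')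
        show (g : Quo v) * (((t : Quo v) ^ i)⁻¹ * t') = ((t : Quo v) ^ i)⁻¹ * t' * g
        rw [((hc.zpow_left i).inv_left).eq]
        exact h3.symm)
      rw [Sections.center_component_eq_bot hA hO hK, mem_bot, inv_mul_eq_one] at hti
      have hmem' : t' ∈ zpowers t := hti ▸ zpow_mem (mem_zpowers t) i
      have h2 := Nat.card_zpowers t
      rw [hsq t ht ht1] at h2
      have hor : t' = 1 ∨ t' = t := by
        obtain ⟨j, hj, rfl⟩ := (isOfFinOrder_of_finite t).mem_zpowers_iff_mem_range_orderOf.1 hmem' |>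
          Finset.mem_image.1
        rw [hsq t ht ht1, Finset.mem_range] at hj
        interval_cases j
        · exact Or.inl (pow_zero t)
        · exact Or.inr (pow_one t)
      exact hor.elim ht'1 ht't
    have hDm : m ≤ Nat.card ↥(cK E v K ⊔ zpowers e ⊔ zpowers e') := by
      have h1 := card_double henK
      have h2 := card_double he'D
      have h3 := h.card_le_cK hv hK
      have h4 : Nat.card ↥((h.imS hv : Subgroup (Quo v)) ⊓ K) = 8 := by
        rw [← h8, hP]
        exact Nat.card_congr ((subgroupOfEquivOfLe (inf_le_right : (h.imS hv : Subgroup (Quo v)) ⊓ K ≤ K)).symm.trans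
          (MulEquiv.subgroupCongr (inf_subgroupOf_right _ _))).toEquiv
      rw [h4] at h3
      omega
    refine Sections.jr_generated hT P hNbig ht ht' ht1 ht'1 ht't.symm (fun k hk => ?_) hNP
    refine hcent _ (sup_le (sup_le inf_le_left (zpowers_le.2 he)) (zpowers_le.2 he')) hDm
      (le_sup_left.trans le_sup_left) k fun p hp => ?_
    have hsub : cK E v K ⊔ zpowers e ⊔ zpowers e' ≤
        ((centralizer ({(k : Quo v)} : Set (Quo v))).comap (proj v)).map (centralizer ({v} : Set G)).subtype := by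
      refine sup_le (sup_le (fun f hf => ⟨⟨f, h.le_cent hv hf.1⟩, mem_centralizer_singleton_iff.2
        (hcKs ⟨f, h.le_cent hv hf.1⟩ hf k k.2), rfl⟩) (zpowers_le.2 ⟨⟨e, h.le_cent hv he⟩, ?_, rfl⟩))
        (zpowers_le.2 ⟨⟨e', h.le_cent hv he'⟩, ?_, rfl⟩)
      · refine mem_centralizer_singleton_iff.2 ?_
        rw [hew]
        exact (congrArg Subtype.val (mem_centralizer_singleton_iff.1 hk.1)).symm
      · refine mem_centralizer_singleton_iff.2 ?_
        rw [hew']
        exact (congrArg Subtype.val (mem_centralizer_singleton_iff.1 hk.2)).symm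
    obtain ⟨q, hq, hqp⟩ := hsub hp
    rw [← show q = p from Subtype.ext hqp]
    exact mem_centralizer_singleton_iff.1 hq

omit a ha in
/-- The hypothesis `hgen`. -/
theorem gen (h32 : 32 ≤ Nat.card E) {v : G} (hv : v ∈ E)
    (hbig : ∀ K : Subgroup (Quo v), Cfsg.IsComponent K →
      (IsOddType ↥K ∧ Nat.card K ≠ 60) ∨
      (IsJRType ↥K ∧ ∀ (t : ↥K) (X N : Subgroup ↥K), Sections.Loc t X N → Nat.card N ≠ 60))
    (H : Subgroup G) (hH1 : core v ≤ H)
    (hH2 : normalizer ((S : Subgroup G) : Set G) ⊓ centralizer ({v} : Set G) ≤ H)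
    (hH3 : ∀ D ≤ E, v ∈ D → 16 ≤ Nat.card D →
      centralizer ({v} : Set G) ⊓ centralizer (D : Set G) ≤ H) :
    centralizer ({v} : Set G) ≤ H :=
  h.gen_of_le 16 (by omega) hv hbig H hH1 hH2 hH3

end Local

end CfsgLib.Walter.SmallU
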