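import Cfsg.Agent.Lib.Recog.Walter.Transport
import Cfsg.Agent.Lib.Recog.Walter.BalancedCase
import Cfsg.Agent.Lib.Recog.Walter.SmallU2Case
import Cfsg.Agent.Lib.Recog.Walter.Main

/-!
Owner: helper15. Walter, S9: rank at least four, the case distinction.

* `PairData`: what the pairs slice delivers; `TypeTransfer`: one big component makes the whole block big.
* `badBlocks`: the blocks above a component that is not locally balanced.
* `rankFourStep_of`: `RankFourStep` from the pairs, the split case and the case of rank four.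
-/

set_option autoImplicit false
set_option linter.style.haveILetI false
set_option linter.unusedSectionVars false

namespace CfsgLib.Walter

open Subgroup
open CfsgLib.AbelianSolvCent (AbSylow SolvCent omegaS sylow_comm)
open CfsgLib.InvCent (theta)
open CfsgLib.Walter.SmallU (Quo proj cK IsBig meet mem_cK mem_meet)

universe u

variable {G : Type u} [Group G] [Finite G] (S : Sylow 2 G) (hS : IsMulCommutative ↥(S : Subgroup G))

/-- The blocks of `Ω₁(S)` with their properties. -/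
structure PairData {ι : Type u} (V C : ι → Subgroup G) : Prop where
  frame : Frame S hS V C
  cover : ∀ a ∈ omegaS S hS, a ≠ 1 → ∀ K : Subgroup (Quo a), Cfsg.IsComponent K →
    ∃ j, C j ≤ cK (omegaS S hS) a K
  gen : ∀ a ∈ omegaS S hS, a ≠ 1 → centralizer ({a} : Set G) ≤
    theta a ⊔ (centralizer ({a} : Set G) ⊓ normalizer ((S : Subgroup G) : Set G)) ⊔
      ⨆ i, perfCent (C i ⊔ zpowers a)
  comm : ∀ a ∈ omegaS S hS, a ≠ 1 → theta a = ⊥ → ∀ i j, i ≠ j →
    ∀ x ∈ perfCent (C i ⊔ zpowers a), ∀ y ∈ perfCent (C j ⊔ zpowers a), x * y = y * x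
  comp : ∀ i, ∀ c ∈ C i, c ≠ 1 →
    ∃ K : Subgroup (Quo c), Cfsg.IsComponent K ∧
      (∀ v : ↥(centralizer ({c} : Set G)), (v : G) ∈ V i → proj c v ∈ K) ∧
      ∀ w : ↥(centralizer ({c} : Set G)), (w : G) ∈ C i → ∀ k ∈ K, proj c w * k = k * proj c w

/-- One component that is not locally balanced makes every component of the block big. -/
def TypeTransfer {ι : Type u} (C : ι → Subgroup G) : Prop :=
  ∀ a ∈ omegaS S hS, a ≠ 1 → ∀ K : Subgroup (Quo a), Cfsg.IsComponent K → ¬ LocBal ↥K →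
    ∀ i, C i ≤ cK (omegaS S hS) a K → ∀ v ∈ omegaS S hS, v ≠ 1 → ∀ L : Subgroup (Quo v),
      Cfsg.IsComponent L → C i ≤ cK (omegaS S hS) v L → IsBig ↥L

/-- The blocks above a component that is not locally balanced. -/
def badBlocks {ι : Type u} (C : ι → Subgroup G) : Set ι :=
  {i | ∃ a ∈ omegaS S hS, a ≠ 1 ∧ ∃ K : Subgroup (Quo a),
    Cfsg.IsComponent K ∧ ¬ LocBal ↥K ∧ C i ≤ cK (omegaS S hS) a K}

variable {S hS} {ι : Type u} {V C : ι → Subgroup G}

/-- The centralized part of a component has index at least four. -/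
theorem four_mul_cK_le (hsec : ∀ a ∈ omegaS S hS, a ≠ 1 → Sections.SecWalter ↥(centralizer ({a} : Set G)))
    {a : G} (ha : a ∈ omegaS S hS) (ha1 : a ≠ 1) {K : Subgroup (Quo a)} (hK : Cfsg.IsComponent K) :
    4 * Nat.card (cK (omegaS S hS) a K) ≤ Nat.card (omegaS S hS) := by
  classical
  haveI : Fact (Nat.Prime 2) := ⟨Nat.prime_two⟩
  have hloc := SmallU.local_of hS hsec
  have hA := hloc.quo_ab ha
  have hO := SmallU.Local.quo_core a
  obtain ⟨Q⟩ := (inferInstance : Nonempty (Sylow 2 ↥K))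
  have hK4 : ∃ A : Subgroup ↥K, (∀ x ∈ A, x * x = 1) ∧ 4 ≤ Nat.card A := by
    rcases type_facts (hloc.component_type ha ha1 hK) with ⟨h1, h2⟩ | ⟨A, hA2, hA8⟩
    · exact ⟨Q, h1 Q, h2 Q⟩
    · exact ⟨A, hA2, le_trans (by norm_num) hA8⟩
  obtain ⟨A, hA2, hA4⟩ := hK4
  -- into the image of `S`
  set T := ((hloc.imS ha : Subgroup (Quo a))).subgroupOf K
  obtain ⟨P, hP⟩ := ((hloc.imS ha).2.comap_of_injective K.subtype K.subtype_injective :
    IsPGroup 2 T).exists_le_sylow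
  have hPS : (P : Subgroup ↥K) = T := by
    refine (hP.antisymm ?_).symm
    have hi : ¬ 2 ∣ T.index := by
      have := CfsgLib.LocalEvenB.not_dvd_relIndex_inf_of_subnormal (hloc.imS ha) hK.1
      rwa [inf_relIndex_right] at this
    exact (Subgroup.relIndex_eq_one.1 (by
      obtain ⟨k, hk⟩ := (IsPGroup.iff_card.1 P.2)
      have h1 := (Subgroup.relIndex_dvd_card T (P : Subgroup ↥K))
      rw [hk] at h1
      obtain ⟨j, -, hj⟩ := (Nat.dvd_prime_pow Nat.prime_two).1 h1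
      rcases j with _ | j
      · simpa using hj
      · refine absurd (dvd_trans ⟨2 ^ j, ?_⟩ (Subgroup.relIndex_dvd_index_of_le hP)) hi
        exact hj.trans (pow_succ' 2 j)))
  obtain ⟨R, hR⟩ := (show IsPGroup 2 A from fun x => ⟨1, Subtype.ext (by simpa [pow_two] using hA2 x x.2)⟩).exists_le_sylow
  obtain ⟨g, hg⟩ := MulAction.exists_smul_eq (↥K) R P
  have hlift : ∀ x : A, ∃ e : ↥(omegaS S hS), ∃ he : (e : G) ∈ centralizer ({a} : Set G),
      proj a ⟨e, he⟩ = ((g * (x : ↥K) * g⁻¹ : ↥K) : Quo a) := by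
    intro x
    have h1 : g * (x : ↥K) * g⁻¹ ∈ T := by
      rw [← hPS, ← hg, Sylow.coe_subgroup_smul]
      exact ⟨x, hR x.2, rfl⟩
    obtain ⟨⟨s, hsC⟩, hs, hps⟩ := h1
    change s ∈ (S : Subgroup G) at hs
    change proj a ⟨s, hsC⟩ = _ at hps
    refine ⟨⟨s, hs, ?_⟩, hsC, hps⟩
    have h2 : proj a ⟨s * s, mul_mem hsC hsC⟩ = 1 := by
      rw [show (⟨s * s, mul_mem hsC hsC⟩ : ↥(centralizer ({a} : Set G))) = ⟨s, hsC⟩ * ⟨s, hsC⟩ from rfl,
        map_mul, hps]
      have h0 : g * (x : ↥K) * g⁻¹ * (g * (x : ↥K) * g⁻¹) = 1 := by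
        rw [show g * (x : ↥K) * g⁻¹ * (g * (x : ↥K) * g⁻¹) = g * ((x : ↥K) * x) * g⁻¹ by group, hA2 x x.2]
        group
      exact congrArg Subtype.val h0
    obtain ⟨k, hk⟩ := IsPGroup.iff_orderOf.1 S.2 ⟨s * s, mul_mem hs hs⟩
    rw [Subgroup.orderOf_mk] at hk
    have h3 := (CfsgLib.GW.DGroup.odd_oddCore ↥(centralizer ({a} : Set G))).of_dvd_nat
      (Subgroup.orderOf_dvd_natCard _ ((QuotientGroup.eq_one_iff _).1 h2))
    rw [← Subgroup.orderOf_coe, hk] at h3
    rcases k with _ | k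
    · exact orderOf_eq_one_iff.1 (hk.trans (pow_zero 2))
    · exact absurd h3 (Nat.not_odd_iff_even.2 (even_iff_two_dvd.2 (dvd_pow_self 2 k.succ_ne_zero)))
  choose f hfC hf using hlift
  let F : A × ↥(cK (omegaS S hS) a K) → ↥(omegaS S hS) := fun p => f p.1 * ⟨p.2, p.2.2.1⟩
  refine le_trans (Nat.mul_le_mul hA4 le_rfl) ?_
  rw [← Nat.card_prod]
  refine Nat.card_le_card_of_injective F ?_
  rintro ⟨x, c⟩ ⟨y, d⟩ h
  have h' : (f x : G) * (c : G) = (f y : G) * (d : G) := congrArg Subtype.val h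
  have hcC : ∀ c : ↥(cK (omegaS S hS) a K), (c : G) ∈ centralizer ({a} : Set G) := fun c => hloc.le_cent ha c.2.1
  have h2 : proj a ⟨f x, hfC x⟩ * proj a ⟨c, hcC c⟩ = proj a ⟨f y, hfC y⟩ * proj a ⟨d, hcC d⟩ := by
    rw [← map_mul, ← map_mul]; exact congrArg _ (Subtype.ext h')
  rw [hf, hf] at h2
  have hker : ((g * (y : ↥K) * g⁻¹)⁻¹ * (g * (x : ↥K) * g⁻¹) : ↥K) ∈ center ↥K := mem_center_iff.2 fun k => by
    refine Subtype.ext ?_
    have hd := (mem_cK d.2.1 (hcC d)).1 d.2 k k.2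
    have hc := (mem_cK c.2.1 (hcC c)).1 c.2 k k.2
    have he : (((g * (y : ↥K) * g⁻¹)⁻¹ * (g * (x : ↥K) * g⁻¹) : ↥K) : Quo a) =
        proj a ⟨d, hcC d⟩ * (proj a ⟨c, hcC c⟩)⁻¹ := by
      rw [Subgroup.coe_mul, Subgroup.coe_inv, eq_mul_inv_iff_mul_eq, mul_assoc, h2, inv_mul_cancel_left]
    show (k : Quo a) * (((g * (y : ↥K) * g⁻¹)⁻¹ * (g * (x : ↥K) * g⁻¹) : ↥K) : Quo a) =
      (((g * (y : ↥K) * g⁻¹)⁻¹ * (g * (x : ↥K) * g⁻¹) : ↥K) : Quo a) * (k : Quo a)
    rw [he]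
    exact ((Commute.mul_left (show Commute (proj a ⟨d, hcC d⟩) (k : Quo a) from hd)
      (Commute.inv_left (show Commute (proj a ⟨c, hcC c⟩) (k : Quo a) from hc))).symm).eq
  rw [Sections.center_component_eq_bot hA hO hK, mem_bot, inv_mul_eq_one, mul_left_inj, mul_right_inj] at hker
  have hxy : x = y := Subtype.ext hker.symm
  subst hxy
  exact Prod.ext rfl (Subtype.ext (mul_left_cancel h'))

variable (S hS)

/-- The split case (slice S6). -/
def SplitAt (V C : ι → Subgroup G) : Prop :=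
  (badBlocks S hS C).Nonempty → 8 ≤ Nat.card (meet S hS C (badBlocks S hS C)) → SolvCent G

/-- Rank four (slice S8). -/
def FourAt (V C : ι → Subgroup G) : Prop :=
  (badBlocks S hS C).Nonempty → Nat.card (omegaS S hS) = 16 → SolvCent G

variable {S hS}

/-- The bad blocks are permuted by `N(S)`. -/
theorem badBlocks_invariant (hsec : ∀ a ∈ omegaS S hS, a ≠ 1 → Sections.SecWalter ↥(centralizer ({a} : Set G))) :
    ∀ n ∈ normalizer ((S : Subgroup G) : Set G), ∀ i ∈ badBlocks S hS C, ∀ j,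
      C j = (C i).map (MulAut.conj n).toMonoidHom → j ∈ badBlocks S hS C := by
  intro n hn i ⟨a, ha, ha1, K, hK, hnb, hi⟩ j hj
  obtain ⟨K', hK', ⟨e⟩, hmap⟩ := exists_conj (E := omegaS S hS) (fun f hf => conj_mem_omega S hS hn hf)
    ((SmallU.local_of hS hsec).le_cent ha) hK
  refine ⟨n * a * n⁻¹, conj_mem_omega S hS hn ha, fun e => ha1 (conj_eq_one_iff.1 e), K', hK',
    fun h => hnb (h.of_equiv e.symm), ?_⟩
  rw [hj]
  rintro _ ⟨x, hx, rfl⟩
  exact hmap x (hi hx)

/-- **The case distinction in rank at least four.** -/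
theorem solvCent_of_pairData [IsSimpleGroup G] (hG : ¬ IsMulCommutative G)
    (hsec : ∀ a ∈ omegaS S hS, a ≠ 1 → Sections.SecWalter ↥(centralizer ({a} : Set G)))
    (h16 : 16 ≤ Nat.card (omegaS S hS)) (hD : PairData S hS V C) (hT : TypeTransfer S hS C)
    (hsplit : SplitAt S hS V C) (hfour : FourAt S hS V C) : SolvCent G := by
  classical
  haveI : Fact (Nat.Prime 2) := ⟨Nat.prime_two⟩
  have hns : ¬ Group.IsSolvable G := fun h => hG ⟨⟨fun a b => IsSimpleGroup.comm_iff_isSolvable.mpr h a b⟩⟩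
  have hF := hD.frame
  set J := badBlocks S hS C with hJdef
  by_cases hJ : J.Nonempty
  swap
  · refine solvCent_of_allLocBal hG (fun b hb hb1 K hK => ?_) (le_trans (by norm_num) h16) hF hD.gen hD.comm
    by_contra hnb
    obtain ⟨j, hj⟩ := hD.cover b hb hb1 K hK
    exact hJ ⟨j, b, hb, hb1, K, hK, hnb, hj⟩
  by_cases h8 : 8 ≤ Nat.card (meet S hS C J)
  · exact hsplit hJ h8
  have hp : IsPGroup 2 (omegaS S hS) := fun x => ⟨1, Subtype.ext (by simpa [pow_two] using x.2.2)⟩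
  obtain ⟨k, hk⟩ := hp.exists_card_eq
  rw [hk] at h16
  have h4 : 4 ≤ k := (Nat.pow_le_pow_iff_right (le_refl 2)).1 h16
  rcases Nat.eq_or_lt_of_le h4 with rfl | h5
  · exact hfour hJ (hk.trans (by norm_num))
  have h32 : 32 ≤ Nat.card (omegaS S hS) :=
    hk ▸ le_trans (by norm_num) (Nat.pow_le_pow_right two_pos (show 5 ≤ k by omega))
  refine SmallU.solvCent_of_small hF hns hsec hD.cover h32 hD.comp (productAt hG S hS) J hJ
    (badBlocks_invariant hsec) fun v hv hv1 hor L hL => ?_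
  obtain ⟨j, hj⟩ := hD.cover v hv hv1 L hL
  by_cases hjJ : j ∈ J
  · obtain ⟨a, ha, ha1, K, hK, hnb, hi⟩ := hjJ
    exact hT a ha ha1 K hK hnb j hi v hv hv1 L hL hj
  exfalso
  have hvJ : ∀ i ∈ J, v ∈ C i := hor.resolve_left fun h => hjJ (h j)
  have hVm : V j ≤ meet S hS C J := fun x hx => mem_meet.2
    ⟨hF.V_le j hx, fun i hi => hF.orth j i (fun e => hjJ (e ▸ hi)) hx⟩
  have hmp : IsPGroup 2 (meet S hS C J) := hp.to_le inf_le_left
  obtain ⟨m, hm⟩ := hmp.exists_card_eq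
  have hm3 : m < 3 := by
    by_contra h
    exact h8 (hm ▸ (show 8 = 2 ^ 3 by norm_num) ▸ Nat.pow_le_pow_right two_pos (not_lt.1 h))
  have hm4 : Nat.card (meet S hS C J) ≤ 4 :=
    hm ▸ le_trans (Nat.pow_le_pow_right two_pos (show m ≤ 2 by omega)) (by norm_num)
  have hVeq : V j = meet S hS C J := eq_of_le_of_card_ge hVm (hm4.trans (hF.four_le_V j))
  have hvV : v ∈ V j := hVeq ▸ mem_meet.2 ⟨hv, hvJ⟩
  set D := C j ⊔ zpowers v
  have hDle : D ≤ cK (omegaS S hS) v L :=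
    sup_le hj (zpowers_le.2 ((SmallU.local_of hS hsec).a_mem_cK hv))
  have hlt : Nat.card (C j) < Nat.card D := by
    refine lt_of_le_of_ne (card_le_of_le le_sup_left) fun e => ?_
    have hvC : v ∈ C j := by
      have := eq_of_le_of_card_ge (le_sup_left : C j ≤ D) e.ge
      rw [this]; exact mem_sup_right (mem_zpowers v)
    exact hv1 (mem_bot.1 (hF.disj j ▸ (⟨hvV, hvC⟩ : v ∈ V j ⊓ C j)))
  have hE : Nat.card (omegaS S hS) ≤ Nat.card (V j) * Nat.card (C j) := by
    rw [← Nat.card_prod]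
    refine Nat.card_le_card_of_surjective (fun p : ↥(V j) × ↥(C j) =>
      (⟨(p.1 : G) * p.2, mul_mem (hF.V_le j p.1.2) (hF.C_le j p.2.2)⟩ : ↥(omegaS S hS))) fun x => ?_
    obtain ⟨w, hw, c, hc, e⟩ := hF.exists_mul (i := j) x.2
    exact ⟨(⟨w, hw⟩, ⟨c, hc⟩), Subtype.ext e.symm⟩
  have h4K := four_mul_cK_le hsec hv hv1 hL
  have hVc : Nat.card (V j) ≤ 4 := hVeq ▸ hm4
  have := (Nat.mul_le_mul_left 4 (card_le_of_le hDle)).trans (h4K.trans hE)
  have := Nat.mul_le_mul_right (Nat.card (C j)) hVc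
  omega

/-- The sections of the centralizers. -/
theorem secWalter_centralizer [IsSimpleGroup G] (hG : ¬ IsMulCommutative G) (hA : AbSylow G) (hI : Smaller G)
    {a : G} (ha1 : a ≠ 1) : Sections.SecWalter ↥(centralizer ({a} : Set G)) :=
  Sections.secWalter_of_smaller hI (CfsgLib.AbelianSolvCent.abSylow_subgroup hA _)
    (lt_of_le_of_ne (card_le_card_group _) fun e => by
      have hc : a ∈ center G := mem_center_iff.2 fun g =>
        mem_centralizer_singleton_iff.1 (((card_eq_iff_eq_top _).1 e).ge (mem_top g))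
      rcases (inferInstance : (center G).Normal).eq_bot_or_eq_top with h | h
      · exact ha1 (mem_bot.1 (h ▸ hc))
      · exact hG ⟨⟨fun x y => mem_center_iff.1 (h ▸ mem_top y) x⟩⟩)

/-- **`RankFourStep` from the slices.** -/
theorem rankFourStep_of (h : ∀ (G : Type u) [Group G] [Finite G] [IsSimpleGroup G], ¬ IsMulCommutative G →
    ∀ (hA : AbSylow G), Smaller G → ∀ S : Sylow 2 G, 16 ≤ Nat.card (omegaS S (hA S)) → ¬ SolvCent G →
      ∃ (ι : Type u) (V C : ι → Subgroup G), PairData S (hA S) V C ∧ TypeTransfer S (hA S) C ∧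
        SplitAt S (hA S) V C ∧ FourAt S (hA S) V C) : RankFourStep.{u} := by
  intro G _ _ _ hG hA hI S h16
  by_contra hC
  obtain ⟨ι, V, C, hD, hT, hsp, h4⟩ := h G hG hA hI S h16 hC
  exact hC (solvCent_of_pairData hG (fun a _ ha1 => secWalter_centralizer hG hA hI ha1) h16 hD hT hsp h4)

end CfsgLib.Walter
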