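import Cfsg.Agent.Lib.Recog.Walter.Main
import Cfsg.Agent.Lib.Recog.Walter.Three.CaseBTwo

/-!
Owner: helper29. Walter, rank three: the step `RankThreeStep`.
-/

set_option autoImplicit false

namespace CfsgLib.Walter

universe u

/-- **Rank three**: the group is of Janko–Ree type. -/
theorem rankThreeStep : RankThreeStep.{u} := by
  intro G _ _ _ S hI h
  exact Or.inr (Or.inr (h.isJRType_of_caseBTwo (h.caseBTwo hI)))

end CfsgLib.Walter
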