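import Cfsg.Agent.S0217
import Cfsg.Agent.Lib.Recog.Walter.Fixed
import Cfsg.Agent.Lib.Bender.Dichotomy.Setup

/-!
Owner: helper11. Walter, slice S6: the split case with `8 ≤ |U₂|` (notes/walter_blueprint_helper15.md,
part 2, P2).

`U₁`, `U₂` are commuting elementary 2-groups. From balance on `U₂`, the two relations
`[O_c ∩ C(v), U₂] ≤ O_v`, `[O_v ∩ C(c), U₂] ≤ O_c` (`v ∈ U₁`, `c ∈ U₂`) and generation of `C(a)`,
`a ∈ U₂`, by `O_a`, `C(a) ∩ C(U₁)` and `C(a) ∩ N(U₂)`, some `R ≠ 1` is normalised by all `C(a)`,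
`a ∈ U₂#`: either the completion `W` of the functor `O(C(a))`, or a given subgroup if `W = 1`.
-/

set_option autoImplicit false
set_option linter.all false

namespace CfsgLib.Walter.Split

open Subgroup
open CfsgLib.Bender.Dichotomy (core2)
open CfsgLib.Walter.Fixed
open scoped commutatorElement

variable {G : Type*} [Group G]

/-- The hypotheses. -/
structure Ctx (U1 U2 : Subgroup G) : Prop where
  elem1 : Cfsg.IsElementaryAbelian 2 U1
  card1 : 4 ≤ Nat.card U1
  elem2 : Cfsg.IsElementaryAbelian 2 U2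
  card2 : 8 ≤ Nat.card U2
  comm : ∀ v ∈ U1, ∀ c ∈ U2, v * c = c * v
  balance : ∀ a ∈ U2, a ≠ 1 → ∀ b ∈ U2, b ≠ 1 →
    core2 a ⊓ centralizer ({b} : Set G) ≤ core2 b
  rel12 : ∀ v ∈ U1, v ≠ 1 → ∀ c ∈ U2, c ≠ 1 → ∀ y ∈ core2 v ⊓ centralizer ({c} : Set G),
    ∀ u ∈ U2, ⁅y, u⁆ ∈ core2 c
  rel21 : ∀ c ∈ U2, c ≠ 1 → ∀ v ∈ U1, v ≠ 1 → ∀ y ∈ core2 c ⊓ centralizer ({v} : Set G),
    ∀ u ∈ U2, ⁅y, u⁆ ∈ core2 v
  gen : ∀ a ∈ U2, a ≠ 1 → centralizer ({a} : Set G) ≤
    core2 a ⊔ (centralizer ({a} : Set G) ⊓ centralizer (U1 : Set G)) ⊔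
      (centralizer ({a} : Set G) ⊓ normalizer (U2 : Set G))

variable [Finite G]

theorem cent_le_normalizer_core2 (a : G) :
    centralizer ({a} : Set G) ≤ normalizer (core2 a : Set G) := by
  intro g hg
  refine CfsgLib.Bender.Dichotomy.mem_normalizer_of_cj ?_
  rw [← CfsgLib.Bender.Dichotomy.core2_conj, mem_centralizer_singleton_iff.mp hg, mul_inv_cancel_right]


/-- The completion of the functor `a ↦ O(C(a))` on `U₂`. -/
def closure2 (U2 : Subgroup G) : Subgroup G := ⨆ a : {a : G // a ∈ U2 ∧ a ≠ 1}, core2 (a : G)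

namespace Ctx

variable {U1 U2 : Subgroup G} (h : Ctx U1 U2)
include h

theorem comm2 {a b : G} (ha : a ∈ U2) (hb : b ∈ U2) : a * b = b * a :=
  CfsgLib.Signalizer.elementary_comm h.elem2 ha hb

theorem mem_normalizer_core2 {a b : G} (hab : a * b = b * a) : b ∈ normalizer (core2 a : Set G) :=
  cent_le_normalizer_core2 a (mem_centralizer_singleton_iff.mpr hab.symm)

theorem closure2_spec : Odd (Nat.card (closure2 U2)) ∧
    ∀ a ∈ U2, a ≠ 1 → closure2 U2 ⊓ centralizer ({a} : Set G) = core2 a := by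
  obtain ⟨h1, h2⟩ := Cfsg.Agent.S0217.result (p := 2) U2 (fun a ha b hb => h.comm2 ha hb) h.elem2.2
    (by simpa using h.card2) (fun a => core2 a) (fun a _ _ => CfsgLib.Bender.Dichotomy.core2_le a)
    (fun a _ _ hd => Nat.not_even_iff_odd.mpr (CfsgLib.Bender.Dichotomy.odd_core2 a) (even_iff_two_dvd.mpr hd))
    (fun a ha _ b hb x hx => cj_mem (h.mem_normalizer_core2 (h.comm2 ha hb)) hx)
    (fun a _ _ => Cfsg.Agent.S0205.result (CfsgLib.Bender.Dichotomy.odd_core2 a)) h.balance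
  exact ⟨Nat.not_even_iff_odd.mp fun he => h1 (even_iff_two_dvd.mp he), h2⟩

theorem core2_le_closure2 {a : G} (ha : a ∈ U2) (ha1 : a ≠ 1) : core2 a ≤ closure2 U2 :=
  le_iSup (fun b : {a : G // a ∈ U2 ∧ a ≠ 1} => core2 (b : G)) ⟨a, ha, ha1⟩

theorem normalizer_le_normalizer_closure2 :
    normalizer (U2 : Set G) ≤ normalizer (closure2 U2 : Set G) := by
  have key : ∀ g ∈ normalizer (U2 : Set G), ∀ x ∈ closure2 U2, g * x * g⁻¹ ∈ closure2 U2 := by
    intro g hg
    have hle : closure2 U2 ≤ (closure2 U2).comap (MulAut.conj g).toMonoidHom :=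
      iSup_le fun a x hx => by
        have h1 : g * x * g⁻¹ ∈ core2 (g * (a : G) * g⁻¹) := by
          rw [CfsgLib.Bender.Dichotomy.core2_conj]; exact CfsgLib.Bender.Dichotomy.conj_mem_cj hx
        exact h.core2_le_closure2 (cj_mem hg a.2.1) (fun e => a.2.2 (by
          have := congrArg (fun z => g⁻¹ * z * g) e
          simpa [mul_assoc] using this)) h1
    exact fun x hx => hle hx
  intro g hg
  refine mem_normalizer_iff.mpr fun x => ⟨key g hg x, fun hx => ?_⟩
  have := key g⁻¹ (inv_mem hg) _ hx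
  simpa [mul_assoc] using this

theorem U2_le_normalizer : U2 ≤ normalizer (closure2 U2 : Set G) :=
  le_normalizer.trans h.normalizer_le_normalizer_closure2

theorem U1_le_normalizer : U1 ≤ normalizer (closure2 U2 : Set G) := fun v hv =>
  h.normalizer_le_normalizer_closure2 (centralizer_le_normalizer _
    (mem_centralizer_iff.mpr fun c hc => (h.comm v hv c hc).symm))

/-- `[O_v, U₂] ⊆ W` and `O_v` normalises `W`. -/
theorem core2_commutators {v : G} (hv : v ∈ U1) (hv1 : v ≠ 1) :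
    core2 v ≤ normalizer (closure2 U2 : Set G) ∧
      ∀ y ∈ core2 v, ∀ u ∈ U2, ⁅y, u⁆ ∈ closure2 U2 := by
  have hU2v : U2 ≤ normalizer (core2 v : Set G) := fun c hc => h.mem_normalizer_core2 (h.comm v hv c hc)
  have hodd := CfsgLib.Bender.Dichotomy.odd_core2 v
  have hN : core2 v ≤ normalizer (closure2 U2 : Set G) := by
    refine CfsgLib.Signalizer.Solv.le_of_fixed_le h.elem2 (le_trans (by norm_num) h.card2) hU2v
      (fun hd => Nat.not_even_iff_odd.mpr hodd (even_iff_two_dvd.mpr hd)) fun c hc hc1 y hy => ?_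
    haveI := h.elem2.1
    set K := core2 v ⊓ centralizer ({c} : Set G)
    have hU2K : U2 ≤ normalizer (K : Set G) := fun u hu => inf_normalizer_le_normalizer_inf
      ⟨hU2v hu, le_normalizer (mem_centralizer_singleton_iff.mpr (h.comm2 hu hc))⟩
    obtain ⟨w, hw, z, hz, rfl⟩ := CfsgLib.Core.exists_mul_centralizing hU2K
      (Signalizer.coprime_card_of_pGroup (Signalizer.elementary_isPGroup h.elem2) (fun hd =>
        Nat.not_even_iff_odd.mpr (hodd.of_dvd_nat (card_dvd_of_le inf_le_left)) (even_iff_two_dvd.mpr hd)))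
      (Or.inl (Group.isSolvable_of_comm fun x y => IsMulCommutative.is_comm.comm x y)) hy
    refine mul_mem (le_normalizer (h.core2_le_closure2 hc hc1 ?_))
      (h.normalizer_le_normalizer_closure2 (centralizer_le_normalizer _ hz.2))
    exact (commutator_le.mpr fun y' hy' u hu => h.rel12 v hv hv1 c hc hc1 y' hy' u hu) hw
  exact ⟨hN, commutators_mem_of_fixed h.elem2 (le_trans (by norm_num) h.card2) hU2v hodd hN
    fun c hc hc1 y hy u hu => h.core2_le_closure2 hc hc1 (h.rel12 v hv hv1 c hc hc1 y hy u hu)⟩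

/-- `W = ⟨O_a, [O_v, a] : v ∈ U₁#⟩` for each `a ∈ U₂#`. -/
theorem closure2_eq {a : G} (ha : a ∈ U2) (ha1 : a ≠ 1) :
    closure2 U2 = core2 a ⊔ ⨆ v : {v : G // v ∈ U1 ∧ v ≠ 1}, ⁅core2 (v : G), zpowers a⁆ := by
  obtain ⟨hWodd, hWfix⟩ := h.closure2_spec
  refine le_antisymm ?_ (sup_le (h.core2_le_closure2 ha ha1) (iSup_le fun v => commutator_le.mpr
    fun y hy u hu => (h.core2_commutators v.2.1 v.2.2).2 y hy u (zpowers_le.mpr ha hu)))
  refine CfsgLib.Signalizer.Solv.le_of_fixed_le h.elem1 (by simpa using h.card1) h.U1_le_normalizer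
    (fun hd => Nat.not_even_iff_odd.mpr hWodd (even_iff_two_dvd.mpr hd)) fun v hv hv1 x hx => ?_
  set K := closure2 U2 ⊓ centralizer ({v} : Set G) with hK
  have hKn : U2 ≤ normalizer (K : Set G) := fun u hu => inf_normalizer_le_normalizer_inf
    ⟨h.U2_le_normalizer hu, le_normalizer (mem_centralizer_singleton_iff.mpr (h.comm v hv u hu).symm)⟩
  have hKodd : Odd (Nat.card K) := hWodd.of_dvd_nat (card_dvd_of_le inf_le_left)
  -- `[C_W(v), U₂] ⊆ O_v`
  have hKv : ∀ y ∈ K, ∀ u ∈ U2, ⁅y, u⁆ ∈ core2 v :=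
    commutators_mem_of_fixed h.elem2 (le_trans (by norm_num) h.card2) hKn hKodd
      (inf_le_right.trans (cent_le_normalizer_core2 v)) fun c hc hc1 y hy =>
        h.rel21 c hc hc1 v hv hv1 y
          ⟨(hWfix c hc hc1).le ⟨hy.1.1, hy.2⟩, hy.1.2⟩
  have hza : zpowers a ≤ U2 := zpowers_le.mpr ha
  have hsol : Group.IsSolvable (zpowers a) :=
    Group.isSolvable_of_comm fun x y => IsMulCommutative.is_comm.comm x y
  have hcop : (Nat.card (zpowers a)).Coprime (Nat.card K) :=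
    Signalizer.coprime_card_of_pGroup ((Signalizer.elementary_isPGroup h.elem2).to_le hza) (fun hd =>
      Nat.not_even_iff_odd.mpr hKodd (even_iff_two_dvd.mpr hd))
  obtain ⟨w, hw, z, hz, rfl⟩ :=
    CfsgLib.Core.exists_mul_centralizing (hza.trans hKn) hcop (Or.inl hsol) hx
  refine mul_mem (mem_sup_right (mem_iSup_of_mem ⟨v, hv, hv1⟩ ?_)) (mem_sup_left ?_)
  · rw [← CfsgLib.Core.commutator_commutator_eq (hza.trans hKn) hcop (Or.inl hsol)] at hw
    exact commutator_mono (commutator_le.mpr fun y hy u hu => hKv y hy u (hza hu)) le_rfl hw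
  · exact (hWfix a ha ha1).le ⟨hz.1.1, centralizer_le (Set.singleton_subset_iff.mpr (mem_zpowers a)) hz.2⟩

theorem centralizer_le_normalizer_closure2 {a : G} (ha : a ∈ U2) (ha1 : a ≠ 1) :
    centralizer ({a} : Set G) ≤ normalizer (closure2 U2 : Set G) := by
  refine (h.gen a ha ha1).trans (sup_le (sup_le ?_ ?_) ?_)
  · exact (h.core2_le_closure2 ha ha1).trans le_normalizer
  · intro g hg
    rw [h.closure2_eq ha ha1]
    have hgv : ∀ v ∈ U1, v * g = g * v := fun v hv => mem_centralizer_iff.mp hg.2 v hv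
    have hga : g * a * g⁻¹ = a :=
      mul_inv_eq_iff_eq_mul.mpr (mem_centralizer_singleton_iff.mp hg.1)
    refine CfsgLib.Bender.Dichotomy.mem_normalizer_of_cj ?_
    show Subgroup.map _ _ = _
    rw [Subgroup.map_sup, Subgroup.map_iSup]
    congr 1
    · exact CfsgLib.Bender.Dichotomy.cj_of_mem_normalizer (cent_le_normalizer_core2 a hg.1)
    · refine iSup_congr fun v => ?_
      rw [map_commutator, MonoidHom.map_zpowers]
      congr 1
      · exact CfsgLib.Bender.Dichotomy.cj_of_mem_normalizer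
          (cent_le_normalizer_core2 _ (mem_centralizer_singleton_iff.mpr (hgv v v.2.1).symm))
      · exact congrArg zpowers hga
  · exact inf_le_right.trans h.normalizer_le_normalizer_closure2

/-- **The split case.** -/
theorem exists_normalized (hR : (∀ a ∈ U2, a ≠ 1 → core2 a = ⊥) →
      ∃ R : Subgroup G, R ≠ ⊥ ∧ R ≤ centralizer (U2 : Set G) ∧
        ∀ a ∈ U2, a ≠ 1 → centralizer ({a} : Set G) ≤ normalizer (R : Set G)) :
    ∃ R : Subgroup G, R ≠ ⊥ ∧ (Odd (Nat.card R) ∨ R ≤ centralizer (U2 : Set G)) ∧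
      ∀ a ∈ U2, a ≠ 1 → centralizer ({a} : Set G) ≤ normalizer (R : Set G) := by
  by_cases hW : closure2 U2 = ⊥
  · obtain ⟨R, h1, h2, h3⟩ := hR fun a ha ha1 => le_bot_iff.mp (hW ▸ h.core2_le_closure2 ha ha1)
    exact ⟨R, h1, Or.inr h2, h3⟩
  · exact ⟨_, hW, Or.inl h.closure2_spec.1, fun a ha ha1 => h.centralizer_le_normalizer_closure2 ha ha1⟩

/-- In a simple group: a proper subgroup above `U₁`, `U₂` and all `C(a)`, `a ∈ U₂#`. -/
theorem exists_proper [IsSimpleGroup G] (hG : ¬ IsMulCommutative G)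
    (hR : (∀ a ∈ U2, a ≠ 1 → core2 a = ⊥) →
      ∃ R : Subgroup G, R ≠ ⊥ ∧ R ≤ centralizer (U2 : Set G) ∧
        ∀ a ∈ U2, a ≠ 1 → centralizer ({a} : Set G) ≤ normalizer (R : Set G)) :
    ∃ M : Subgroup G, M ≠ ⊤ ∧ U1 ≤ M ∧ U2 ≤ M ∧
      ∀ a ∈ U2, a ≠ 1 → centralizer ({a} : Set G) ≤ M := by
  obtain ⟨R, hR1, hR2, hR3⟩ := h.exists_normalized hR
  haveI : Nontrivial U2 := Finite.one_lt_card_iff_nontrivial.mp (lt_of_lt_of_le (by norm_num) h.card2)
  obtain ⟨a, ha, ha1⟩ := (Subgroup.bot_or_exists_ne_one U2).resolve_left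
    ((Subgroup.nontrivial_iff_ne_bot U2).mp inferInstance)
  refine ⟨normalizer (R : Set G), fun htop => ?_,
    fun v hv => hR3 a ha ha1 (mem_centralizer_singleton_iff.mpr (h.comm v hv a ha)),
    fun c hc => hR3 a ha ha1 (mem_centralizer_singleton_iff.mpr (h.comm2 hc ha)), hR3⟩
  rcases IsSimpleGroup.eq_bot_or_eq_top_of_normal R (normalizer_eq_top_iff.mp htop) with h' | h'
  · exact hR1 h'
  rcases hR2 with hodd | hle
  · rw [h', Subgroup.card_top] at hodd
    exact Nat.not_even_iff_odd.mpr hodd (even_iff_two_dvd.mpr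
      ((CfsgLib.Signalizer.elementary_orderOf h.elem2 ha ha1).symm.dvd.trans (orderOf_dvd_natCard a)))
  · rw [h'] at hle
    have hac : a ∈ center G := Subgroup.mem_center_iff.mpr fun g =>
      (mem_centralizer_iff.mp (hle (mem_top g)) a ha).symm
    rcases IsSimpleGroup.eq_bot_or_eq_top_of_normal (center G) inferInstance with h'' | h''
    · exact ha1 (mem_bot.mp (h'' ▸ hac))
    · exact hG ⟨⟨fun x y => mem_center_iff.mp (h''.ge (mem_top y)) x⟩⟩

end Ctx

end CfsgLib.Walter.Split
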