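import Cfsg.Agent.Lib.Recog.Walter.RankFourPairs
import Cfsg.Agent.Lib.Recog.Walter.Split
import Cfsg.Agent.Lib.Recog.Walter.ProductLemmaAt

/-!
Owner: helper10. Walter, slice S6: the split case for the blocks.

* `comm_mem_core`, `mem_core`: images in `C(b) / O(C(b))` of parts of `O(C(a))`, componentwise.
* `centralizes_of_omega`: a perfect group centralising `S ∩ K` in its involutions centralises `K`.
* `splitCtx`: the hypotheses of the split engine for `U₁ = join J`, `U₂ = meet J`, `J` the bad blocks.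
* `exists_residual`: the subgroup needed when the cores are trivial on `U₂`.
* `splitAt`: the split case.
-/

set_option autoImplicit false
set_option linter.style.haveILetI false
set_option linter.unusedSectionVars false

namespace CfsgLib.Walter.SplitCase

open Subgroup
open scoped commutatorElement
open CfsgLib.AbelianSolvCent (AbSylow SolvCent omegaS sylow_comm)
open CfsgLib.Walter.SmallU (Quo proj cK core mem_cK meet join mem_meet)
open CfsgLib.Walter.Pairs (Blk Vp Cp)

universe u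

section local_parts

variable {X : Type u} [Group X] [Finite X] (hA : AbSylow X) (hO : Cfsg.oddCore X = ⊥)
include hA hO

/-- A perfect subgroup centralising the involutions of `S ∩ K` centralises the component `K`. -/
theorem centralizes_of_omega (S : Sylow 2 X) {K P : Subgroup X} (hK : Cfsg.IsComponent K) (hp : ⁅P, P⁆ = P)
    (hc : ∀ v ∈ (S : Subgroup X) ⊓ K, v * v = 1 → ∀ x ∈ P, x * v = v * x) :
    ∀ x ∈ P, ∀ k ∈ K, x * k = k * x := by
  classical
  set C := centralizer (K : Set X) with hC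
  have hPN : P ≤ normalizer (K : Set X) := Seen.perfect_le_normalizer hA hO hp hK
  have hlay : Cfsg.layer X ≤ K ⊔ C := CfsgLib.Components.layer_le_iff.2 fun L hL => by
    rcases eq_or_ne L K with rfl | hne
    · exact le_sup_left
    · exact le_trans (commutator_eq_bot_iff_le_centralizer.1
        (CfsgLib.Components.components_commute hL hK hne)) le_sup_right
  -- the elements of `K` inducing the action of `P`
  set H := (P ⊔ C) ⊓ K with hH
  have hCW : ∀ v ∈ (S : Subgroup X) ⊓ K, v * v = 1 → ∀ x ∈ H, x * v = v * x := by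
    intro v hv hv2 x hx
    have hle : P ⊔ C ≤ centralizer ({v} : Set X) := sup_le
      (fun p hp' => mem_centralizer_singleton_iff.2 (hc v hv hv2 p hp'))
      (fun c hc' => mem_centralizer_singleton_iff.2 (mem_centralizer_iff.1 hc' v hv.2).symm)
    exact mem_centralizer_singleton_iff.1 (hle hx.1)
  have hHs : Group.IsSolvable ↥H := by
    have h1 : Pairs.resOf H = ⊥ := Pairs.eq_bot_of_centralizes_omega hA hO S hK
      ((Pairs.resOf_le H).trans inf_le_right) (Pairs.resOf_perfect H)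
      fun v hv hv2 x hx => hCW v hv hv2 x (Pairs.resOf_le H hx)
    refine Three.isSolvable_of_res (map_injective H.subtype_injective ?_)
    rw [Subgroup.map_bot]; exact h1
  set ψ := MulDistribMulAction.toMulAut ↥(normalizer (K : Set X)) ↥K with hψ
  have hψv : ∀ (g : ↥(normalizer (K : Set X))) (k : ↥K), ((ψ g k : ↥K) : X) = g * k * (g : X)⁻¹ :=
    fun g k => rfl
  set P' := P.subgroupOf (normalizer (K : Set X)) with hP'
  have hPp : ⁅P', P'⁆ = P' := map_injective (normalizer (K : Set X)).subtype_injective (by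
    rw [map_commutator, map_subgroupOf_eq_of_le hPN, hp])
  have hle : P'.map ψ ≤ (H.subgroupOf (normalizer (K : Set X))).map ψ := by
    rintro _ ⟨y, hy, rfl⟩
    have hyE : (y : X) ∈ K ⊔ C := hlay (Pairs.perfect_le_layer hA hO hp hy)
    obtain ⟨k, hk, c, hcC, hyk⟩ := (CfsgLib.Core.mem_sup_iff_mul (H := K) (N := C) fun k hk =>
      mem_normalizer_iff.2 fun z => ⟨fun hz => mem_centralizer_iff.2 fun m hm => by
          have h1 := mem_centralizer_iff.1 hz (k⁻¹ * m * k) (K.mul_mem (K.mul_mem (K.inv_mem hk) hm) hk)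
          calc m * (k * z * k⁻¹) = k * ((k⁻¹ * m * k) * z) * k⁻¹ := by group
            _ = k * (z * (k⁻¹ * m * k)) * k⁻¹ := by rw [h1]
            _ = k * z * k⁻¹ * m := by group,
        fun hz => mem_centralizer_iff.2 fun m hm => by
          have h1 := mem_centralizer_iff.1 hz (k * m * k⁻¹) (K.mul_mem (K.mul_mem hk hm) (K.inv_mem hk))
          calc m * z = k⁻¹ * ((k * m * k⁻¹) * (k * z * k⁻¹)) * k := by group
            _ = k⁻¹ * ((k * z * k⁻¹) * (k * m * k⁻¹)) * k := by rw [h1]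
            _ = z * m := by group⟩).1 hyE
    refine ⟨⟨k, le_normalizer hk⟩, ⟨?_, hk⟩, MulEquiv.ext fun m => Subtype.ext ?_⟩
    · show k ∈ P ⊔ C
      rw [show k = (y : X) * c⁻¹ by rw [hyk, mul_inv_cancel_right]]
      exact mul_mem (mem_sup_left hy) (mem_sup_right (inv_mem hcC))
    · rw [hψv, hψv]
      show k * (m : X) * k⁻¹ = (y : X) * m * (y : X)⁻¹
      rw [hyk]
      calc k * (m : X) * k⁻¹ = k * ((m : X) * c) * c⁻¹ * k⁻¹ := by group
        _ = k * (c * (m : X)) * c⁻¹ * k⁻¹ := by rw [mem_centralizer_iff.1 hcC m m.2]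
        _ = k * c * m * (k * c)⁻¹ := by group
  have hsol : Group.IsSolvable ↥((H.subgroupOf (normalizer (K : Set X))).map ψ) := by
    haveI : Group.IsSolvable ↥(H.subgroupOf (normalizer (K : Set X))) :=
      Group.isSolvable_of_isSolvable_injective
        (f := (subgroupOfEquivOfLe (inf_le_right.trans le_normalizer :
          H ≤ normalizer (K : Set X))).toMonoidHom) (MulEquiv.injective _)
    exact Group.isSolvable_of_surjective (MonoidHom.subgroupMap_surjective _ _)
  have h0 : P'.map ψ = ⊥ := Pairs.eq_bot_of_perfect_solvable (by rw [← map_commutator, hPp])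
    (Group.isSolvable_of_isSolvable_injective (f := inclusion hle) (inclusion_injective hle))
  intro x hx k hk
  have h1 : ψ ⟨x, hPN hx⟩ = 1 :=
    mem_bot.1 (h0 ▸ mem_map_of_mem ψ (show (⟨x, hPN hx⟩ : ↥(normalizer (K : Set X))) ∈ P' from hx))
  have h2 : x * k * x⁻¹ = k := (hψv ⟨x, hPN hx⟩ ⟨k, hk⟩).symm.trans (by rw [h1]; rfl)
  exact mul_inv_eq_iff_eq_mul.1 h2

end local_parts

variable {G : Type u} [Group G] [Finite G] {S : Sylow 2 G} {E : Subgroup G} (h : SmallU.Local S E)
include h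

/-- The image in `C(b) / O(C(b))` of `O(C(a)) ∩ C(b)`. -/
theorem exists_image {a b : G} (ha : a ∈ E) (ha1 : a ≠ 1) (hb : b ∈ E) :
    ∃ D : Subgroup (Quo b), Odd (Nat.card D) ∧ D ≤ centralizer ({proj b ⟨a, h.le_cent hb ha⟩} : Set (Quo b)) ∧
      centralizer ({proj b ⟨a, h.le_cent hb ha⟩} : Set (Quo b)) ≤ normalizer (D : Set (Quo b)) ∧
      orderOf (proj b ⟨a, h.le_cent hb ha⟩) = 2 ∧
      ∀ y : ↥(centralizer ({b} : Set G)), (y : G) ∈ core a → proj b y ∈ D := by
  haveI : Fact (Nat.Prime 2) := ⟨Nat.prime_two⟩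
  set C := centralizer ({b} : Set G)
  have haC : a ∈ C := h.le_cent hb ha
  have ha2 : orderOf (⟨a, haC⟩ : ↥C) = 2 := by
    rw [Subgroup.orderOf_mk]; exact CfsgLib.Signalizer.orderOf_eq_two_of ha1 (SmallU.sq_one h.elem ha)
  have hmap := CfsgLib.GW.DGroup.map_centralizer_singleton ha2
  refine ⟨((core a).subgroupOf C).map (proj b), ?_, ?_, ?_, ?_, fun y hy => ⟨y, hy, rfl⟩⟩
  · refine ((SmallU.odd_core a).of_dvd_nat ?_).of_dvd_nat (((core a).subgroupOf C).card_map_dvd (proj b))
    rw [Nat.card_congr (equivMapOfInjective _ C.subtype C.subtype_injective).toEquiv]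
    exact card_dvd_of_le (map_comap_le _ _)
  · rintro _ ⟨y, hy, rfl⟩
    rw [mem_centralizer_singleton_iff, ← map_mul, ← map_mul]
    exact congrArg _ (Subtype.ext (mem_centralizer_singleton_iff.1 (SmallU.core_le a hy)))
  · rw [← hmap]
    rintro _ ⟨c, hc, rfl⟩
    refine le_normalizer_map (proj b) ⟨c, ?_, rfl⟩
    have hca : (c : G) * a = a * c := congrArg Subtype.val (mem_centralizer_singleton_iff.1 hc)
    refine CfsgLib.Signalizer.Solv.mem_normalizer_of_forall_le fun y hy => ?_
    have h1 := SmallU.core_conj (c : G) a hy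
    rw [hca, mul_inv_cancel_right] at h1
    exact h1
  · refine CfsgLib.Signalizer.orderOf_eq_two_of (fun e => ha1 (h.proj_eq_one hb (h.le_sylow ha) e)) ?_
    rw [← map_mul, show (⟨a, haC⟩ * ⟨a, haC⟩ : ↥C) = 1 from Subtype.ext (SmallU.sq_one h.elem ha), map_one]

/-- An element of the image centralising all components is trivial: `[y, u] ∈ O(C(b))`. -/
theorem comm_mem_core {a b u : G} (ha : a ∈ E) (ha1 : a ≠ 1) (hb : b ∈ E) (hu : u ∈ E)
    (hL : ∀ L : Subgroup (Quo b), Cfsg.IsComponent L → LocBal ↥L ∨ a ∈ cK E b L ∨ u ∈ cK E b L)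
    {y : G} (hy : y ∈ core a ⊓ centralizer ({b} : Set G)) : ⁅y, u⁆ ∈ core b := by
  haveI : Fact (Nat.Prime 2) := ⟨Nat.prime_two⟩
  obtain ⟨D, hDodd, hDle, hDn, ha2, hD⟩ := exists_image h ha ha1 hb
  have hA := h.quo_ab hb
  have hO := SmallU.Local.quo_core (G := G) b
  set π := proj b with hπ
  set yb := π ⟨y, hy.2⟩
  set ub := π ⟨u, h.le_cent hb hu⟩ with hub
  have hyD : yb ∈ D := hD _ hy.1
  have haS := h.mem_imS hb (h.le_sylow ha)
  have hun : ub ∈ normalizer (D : Set (Quo b)) := hDn (by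
    rw [mem_centralizer_singleton_iff, hub, ← map_mul, ← map_mul]
    exact congrArg π (Subtype.ext (Sections.sylow_comm S (h.ab S) (h.le_sylow hu) (h.le_sylow ha))))
  have hzD : ⁅yb, ub⁆ ∈ D := by
    rw [commutatorElement_def, show yb * ub * yb⁻¹ * ub⁻¹ = yb * (ub * yb⁻¹ * ub⁻¹) by group]
    exact mul_mem hyD ((mem_normalizer_iff.1 hun _).1 (inv_mem hyD))
  have hz : ⁅yb, ub⁆ = 1 := by
    refine SmallU.eq_one_of_centralizes_components hA hO (h.imS hb) haS hDodd hDn hzD fun L hLc k hk => ?_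
    have hDL : ∀ (_ : LocBal ↥L ∨ a ∈ cK E b L), ∀ d ∈ D, ∀ k ∈ L, d * k * d⁻¹ = k := fun hh =>
      SmallU.centralizes_component hA hO (h.imS hb) haS hDodd hDn ha2 hDle hLc (hh.imp_right fun hac k hk => by
        rw [(mem_cK ha (h.le_cent hb ha)).1 hac k hk, mul_inv_cancel_right])
    rcases hL L hLc with h1 | h1 | h1
    · exact hDL (Or.inl h1) _ hzD k hk
    · exact hDL (Or.inr h1) _ hzD k hk
    · have hN := SmallU.normalizes_component hA hO (h.imS hb) haS hDodd hDn hLc hyD
      have hfix : ∀ m ∈ L, ub * m * ub⁻¹ = m := fun m hm => by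
        rw [(mem_cK hu (h.le_cent hb hu)).1 h1 m hm, mul_inv_cancel_right]
      have hfix' : ∀ m ∈ L, ub⁻¹ * m * ub = m := fun m hm => by
        conv_lhs => rw [← hfix m hm]
        group
      have hm : yb⁻¹ * k * yb ∈ L := by
        have := (mem_normalizer_iff.1 (inv_mem hN) k).1 hk
        simpa using this
      rw [commutatorElement_def]
      calc yb * ub * yb⁻¹ * ub⁻¹ * k * (yb * ub * yb⁻¹ * ub⁻¹)⁻¹
          = yb * (ub * (yb⁻¹ * (ub⁻¹ * k * ub) * yb) * ub⁻¹) * yb⁻¹ := by group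
        _ = yb * (yb⁻¹ * k * yb) * yb⁻¹ := by rw [hfix' k hk, hfix _ hm]
        _ = k := by group
  refine ⟨⁅(⟨y, hy.2⟩ : ↥(centralizer ({b} : Set G))), ⟨u, h.le_cent hb hu⟩⁆,
    (QuotientGroup.eq_one_iff _).1 ?_, rfl⟩
  show π ⁅_, _⁆ = 1
  rw [map_commutatorElement]
  exact hz

/-- The same for an element itself. -/
theorem mem_core {a b : G} (ha : a ∈ E) (ha1 : a ≠ 1) (hb : b ∈ E)
    (hL : ∀ L : Subgroup (Quo b), Cfsg.IsComponent L → LocBal ↥L ∨ a ∈ cK E b L)
    {y : G} (hy : y ∈ core a ⊓ centralizer ({b} : Set G)) : y ∈ core b := by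
  haveI : Fact (Nat.Prime 2) := ⟨Nat.prime_two⟩
  obtain ⟨D, hDodd, hDle, hDn, ha2, hD⟩ := exists_image h ha ha1 hb
  have hA := h.quo_ab hb
  have hO := SmallU.Local.quo_core (G := G) b
  have hyD : proj b ⟨y, hy.2⟩ ∈ D := hD _ hy.1
  have haS := h.mem_imS hb (h.le_sylow ha)
  have hz := SmallU.eq_one_of_centralizes_components hA hO (h.imS hb) haS hDodd hDn hyD fun L hLc k hk =>
    SmallU.centralizes_component hA hO (h.imS hb) haS hDodd hDn ha2 hDle hLc
      ((hL L hLc).imp_right fun hac k hk => by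
        rw [(mem_cK ha (h.le_cent hb ha)).1 hac k hk, mul_inv_cancel_right]) _ hyD k hk
  exact ⟨⟨y, hy.2⟩, (QuotientGroup.eq_one_iff _).1 hz, rfl⟩

omit h

variable [IsSimpleGroup G] {hS : IsMulCommutative ↥(S : Subgroup G)} (hG : ¬ IsMulCommutative G)
  (hsm : Smaller G) (h16 : 16 ≤ Nat.card (omegaS S hS))
include hG hsm h16

/-- At every point a component is locally balanced or lies below a bad block. -/
theorem bad_or_locBal {b : G} (hb : b ∈ omegaS S hS) (hb1 : b ≠ 1) {L : Subgroup (Quo b)}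
    (hL : Cfsg.IsComponent L) :
    LocBal ↥L ∨ meet S hS (Blk.C (S := S) (hS := hS)) (badBlocks S hS Blk.C) ≤ cK (omegaS S hS) b L := by
  by_cases hnb : LocBal ↥L
  · exact Or.inl hnb
  obtain ⟨i, hi⟩ := Pairs.cover_cK hb hb1 hL
  exact Or.inr fun x hx => hi ((mem_meet.1 hx).2 i ⟨b, hb, hb1, L, hL, hnb, hi⟩)

/-- The hypotheses of the split engine. -/
theorem splitCtx (hJ : (badBlocks S hS (Blk.C (S := S) (hS := hS))).Nonempty)
    (h8 : 8 ≤ Nat.card (meet S hS (Blk.C (S := S) (hS := hS)) (badBlocks S hS Blk.C))) :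
    Split.Ctx (join (Blk.V (S := S) (hS := hS)) (badBlocks S hS Blk.C))
      (meet S hS (Blk.C (S := S) (hS := hS)) (badBlocks S hS Blk.C)) := by
  haveI : Fact (Nat.Prime 2) := ⟨Nat.prime_two⟩
  have hF := Pairs.frame (S := S) (hS := hS) hG hsm h16
  have hloc := Pairs.local_omega (S := S) (hS := hS) hG hsm
  set J := badBlocks S hS (Blk.C (S := S) (hS := hS)) with hJdef
  have h1E : join Blk.V J ≤ omegaS S hS := SmallU.join_le hF J
  have h2E : meet S hS (Blk.C (S := S) (hS := hS)) J ≤ omegaS S hS := inf_le_left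
  have helem : ∀ {U : Subgroup G}, U ≤ omegaS S hS → Cfsg.IsElementaryAbelian 2 U := fun hU =>
    ⟨⟨⟨fun x y => Subtype.ext (sylow_comm S hS (hU x.2).1 (hU y.2).1)⟩⟩, fun x hx => by
      rw [pow_two]; exact (hU hx).2⟩
  refine ⟨helem h1E, ?_, helem h2E, h8, fun v hv c hc => sylow_comm S hS (h1E hv).1 (h2E hc).1,
    fun a ha ha1 b hb hb1 y hy => ?_, fun v hv hv1 c hc hc1 y hy u hu => ?_,
    fun c hc hc1 v hv hv1 y hy u hu => ?_, fun a ha ha1 => ?_⟩
  · obtain ⟨i, hi⟩ := hJ
    exact (hF.four_le_V i).trans (card_le_of_le (SmallU.V_le_join hi))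
  · exact mem_core hloc (h2E ha) ha1 (h2E hb)
      (fun L hL => (bad_or_locBal hG hsm h16 (h2E hb) hb1 hL).imp_right fun hle => hle ha) hy
  · exact comm_mem_core hloc (h1E hv) hv1 (h2E hc) (h2E hu)
      (fun L hL => (bad_or_locBal hG hsm h16 (h2E hc) hc1 hL).imp_right fun hle => Or.inr (hle hu)) hy
  · exact comm_mem_core hloc (h2E hc) hc1 (h1E hv) (h2E hu)
      (fun L hL => (bad_or_locBal hG hsm h16 (h1E hv) hv1 hL).imp_right fun hle => Or.inl (hle hc)) hy
  · have haE := h2E ha
    have hN2 := (SmallU.normalizer_le_meet_join hF J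
      (badBlocks_invariant fun b hb hb1 => hloc.sec b hb hb1)).1
    refine hloc.cover (Cb := Blk.C (S := S) (hS := hS)) hF.C_le haE (fun K hK => Pairs.cover_cK haE ha1 hK) _
      (le_sup_of_le_left le_sup_left) (fun n hn => mem_sup_right ⟨hn.2, hN2 hn.1⟩) fun i => ?_
    intro x hx
    by_cases hi : i ∈ J
    · refine mem_sup_right ⟨hx.1, centralizer_le_normalizer _ (mem_centralizer_iff.2 fun c hc => ?_)⟩
      exact mem_centralizer_iff.1 hx.2 c ((mem_meet.1 hc).2 i hi)
    · refine mem_sup_left (mem_sup_right ⟨hx.1, mem_centralizer_iff.2 fun c hc => ?_⟩)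
      have hle : join (Blk.V (S := S) (hS := hS)) J ≤ i.C :=
        iSup_le fun j : {j // j ∈ J} => hF.orth j i fun e => hi (e ▸ j.2)
      exact mem_centralizer_iff.1 hx.2 c (hle hc)

/-- The residual of `C(U₂)`, when the cores are trivial on `U₂`. -/
theorem exists_residual (hJ : (badBlocks S hS (Blk.C (S := S) (hS := hS))).Nonempty)
    (h8 : 8 ≤ Nat.card (meet S hS (Blk.C (S := S) (hS := hS)) (badBlocks S hS Blk.C)))
    (h0 : ∀ a ∈ meet S hS (Blk.C (S := S) (hS := hS)) (badBlocks S hS Blk.C), a ≠ 1 → core a = ⊥) :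
    ∃ R : Subgroup G, R ≠ ⊥ ∧
      R ≤ centralizer (meet S hS (Blk.C (S := S) (hS := hS)) (badBlocks S hS Blk.C) : Set G) ∧
      ∀ a ∈ meet S hS (Blk.C (S := S) (hS := hS)) (badBlocks S hS Blk.C), a ≠ 1 →
        centralizer ({a} : Set G) ≤ normalizer (R : Set G) := by
  classical
  haveI : Fact (Nat.Prime 2) := ⟨Nat.prime_two⟩
  have hF := Pairs.frame (S := S) (hS := hS) hG hsm h16
  have hloc := Pairs.local_omega (S := S) (hS := hS) hG hsm
  set J := badBlocks S hS (Blk.C (S := S) (hS := hS)) with hJdef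
  set U := meet S hS (Blk.C (S := S) (hS := hS)) J with hU
  have hUE : U ≤ omegaS S hS := inf_le_left
  refine ⟨perfCent U, fun hR => ?_, perfCent_le U, fun a ha ha1 => ?_⟩
  · obtain ⟨i, hi⟩ := hJ
    obtain ⟨c, hc, hc1⟩ := U.bot_or_exists_ne_one.resolve_left fun e => by
      rw [e, Subgroup.card_bot] at h8; omega
    obtain ⟨K, hK, -, hC⟩ := Pairs.block_at hG hsm i.2 ((mem_meet.1 hc).2 i hi) hc1
    obtain ⟨P, -, -, hPR, -, hPK⟩ := Pairs.exists_lift S hS (hUE hc) hK (B := U)
      (fun x hx => hC.le ((mem_meet.1 hx).2 i hi)) hc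
    have h1 : K = ⊥ := by
      rw [← hPK, le_bot_iff.1 (hPR.trans hR.le), Subgroup.bot_subgroupOf, Subgroup.map_bot]
    exact CfsgLib.Components.IsComponent.ne_bot hK h1
  · have haE := hUE ha
    have hA := hloc.quo_ab haE
    have hO := SmallU.Local.quo_core (G := G) a
    have hRX : perfCent U ≤ centralizer ({a} : Set G) :=
      (perfCent_le U).trans (centralizer_le (Set.singleton_subset_iff.2 ha))
    have hfixU : ∀ g ∈ normalizer (U : Set G), g ∈ normalizer (perfCent U : Set G) := fun g hg =>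
      mem_normalizer_perfCent (mem_normalizer_iff_map_conj_eq.1 hg)
    have hN2 := (SmallU.normalizer_le_meet_join hF J
      (badBlocks_invariant fun b hb hb1 => hloc.sec b hb hb1)).1
    refine hloc.centralizer_le_of_components haE ?_ (fun n hn => hfixU n (hN2 hn.1)) fun K hK _ k hk => ?_
    · rw [h0 a ha ha1]; exact bot_le
    obtain ⟨j, hVj, hCj⟩ := Pairs.cover haE ha1 hK
    obtain ⟨g, rfl⟩ := QuotientGroup.mk'_surjective _ k
    refine mem_map_of_mem _ (show (g : G) ∈ normalizer (perfCent U : Set G) from ?_)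
    have hinj : ∀ x y : ↥(centralizer ({a} : Set G)), proj a x = proj a y → x = y := by
      intro x y e
      have h1 : x⁻¹ * y ∈ Cfsg.oddCore ↥(centralizer ({a} : Set G)) := (QuotientGroup.eq_one_iff _).1 (by
        show proj a (x⁻¹ * y) = 1
        rw [map_mul, map_inv, e, inv_mul_cancel])
      have h2 : ((x⁻¹ * y : ↥(centralizer ({a} : Set G))) : G) ∈ core a := ⟨_, h1, rfl⟩
      rw [h0 a ha ha1, mem_bot] at h2
      exact inv_mul_eq_one.1 (Subtype.ext h2)
    by_cases hj : j ∈ J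
    · -- `K` centralises `U`
      refine hfixU _ (centralizer_le_normalizer _ (mem_centralizer_iff.2 fun x hx => ?_))
      have hxC : x ∈ centralizer ({a} : Set G) := hloc.le_cent haE (hUE hx)
      have h1 := (mem_cK (hUE hx) hxC).1 (hCj ((mem_meet.1 hx).2 j hj)) _ hk
      rw [← map_mul, ← map_mul] at h1
      exact congrArg Subtype.val (hinj _ _ h1)
    · -- the residual centralises `K`
      refine centralizer_le_normalizer _ (mem_centralizer_iff.2 fun x hx => ?_)
      have h1 := centralizes_of_omega hA hO (hloc.imS haE) hK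
        (P := ((perfCent U).subgroupOf (centralizer ({a} : Set G))).map (proj a)) ?_ ?_
        (proj a ⟨x, hRX hx⟩) ⟨⟨x, hRX hx⟩, hx, rfl⟩ _ hk
      · rw [← map_mul, ← map_mul] at h1
        exact congrArg Subtype.val (hinj _ _ h1)
      · rw [← map_commutator]
        congr 1
        refine map_injective (centralizer ({a} : Set G)).subtype_injective ?_
        rw [map_commutator, map_subgroupOf_eq_of_le hRX, perfCent_perfect]
      · intro v hv hv2 y hy
        obtain ⟨z, hz, rfl⟩ := hy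
        obtain ⟨e, he, rfl⟩ := hloc.exists_lift haE hv.1 hv2
        have heU : e ∈ U := mem_meet.2 ⟨he, fun i hi => hF.orth j i (fun e' => hj (e'.symm ▸ hi))
          (hVj ((Pairs.mem_Vp S hS haE).2 ⟨he, hv.2⟩))⟩
        rw [← map_mul, ← map_mul]
        exact congrArg _ (Subtype.ext (mem_centralizer_iff.1 (perfCent_le U hz) e heU).symm)

/-- **The split case.** -/
theorem splitAt : SplitAt S hS (Blk.V (S := S) (hS := hS)) (Blk.C (S := S) (hS := hS)) := by
  intro hJ h8
  exfalso
  have hF := Pairs.frame (S := S) (hS := hS) hG hsm h16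
  have hsec : ∀ a ∈ omegaS S hS, a ≠ 1 → Sections.SecWalter ↥(centralizer ({a} : Set G)) := fun _ _ ha1 =>
    Pairs.secWalter_centralizer (S := S) (hS := hS) hG hsm ha1
  set J := badBlocks S hS (Blk.C (S := S) (hS := hS))
  have hctx := splitCtx hG hsm h16 hJ h8
  obtain ⟨M, hM, h1M, h2M, hC⟩ := hctx.exists_proper hG fun h0 => exists_residual hG hsm h16 hJ h8 h0
  have hI := badBlocks_invariant (S := S) (hS := hS) (C := Blk.C (S := S) (hS := hS)) hsec
  obtain ⟨hN1, hN2⟩ := SmallU.normalizer_le_meet_join hF J hI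
  obtain ⟨i, hi⟩ := hJ
  exact productAt hG S hS (meet S hS Blk.C J) (join Blk.V J) M (SmallU.meet_inf_join hF J)
    (SmallU.meet_sup_join hF J) hN1 hN2 (le_trans (by norm_num) h8)
    (fun e => hF.V_ne_bot i (le_bot_iff.1 (e ▸ SmallU.V_le_join hi))) hM
    (SmallU.meet_sup_join hF J ▸ sup_le h2M h1M) hC
    fun z hz hz1 e he hze g hg => SmallU.fuse hF hsec (fun a ha ha1 K hK => Pairs.cover_cK ha ha1 hK) hI hz hz1
      he hze hg

end CfsgLib.Walter.SplitCase
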