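import Cfsg.Agent.Lib.Recog.Walter.PairsGenProof
import Cfsg.Agent.Lib.Recog.Walter.SplitCase
import Cfsg.Agent.Lib.Recog.Walter.RankFour.Main
import Cfsg.Agent.Lib.Recog.Walter.RankThree

/-!
Owner: helper15. Walter, S9: rank four and the structure theorem, given the commutation of the blocks.

* `rankFourStep_of_comm`, `structureTheorem_of_comm`.
-/

set_option autoImplicit false
set_option linter.style.haveILetI false

namespace CfsgLib.Walter

open CfsgLib.AbelianSolvCent (AbSylow SolvCent omegaS)

universe u

/-- `RankFourStep` from the commutation of the blocks. -/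
theorem rankFourStep_of_comm
    (h : ∀ (G : Type u) [Group G] [Finite G] [IsSimpleGroup G], ¬ IsMulCommutative G →
      ∀ (hA : AbSylow G), Smaller G → ∀ S : Sylow 2 G, 16 ≤ Nat.card (omegaS S (hA S)) →
        PairsComm S (hA S)) :
    RankFourStep.{u} :=
  rankFourStep_of_slices fun G _ _ _ hG hA hsm S h16 _ =>
    ⟨pairsGen hG hA hsm, h G hG hA hsm S h16, SplitCase.splitAt hG hsm h16,
      fourAt hG (fun _ _ ha1 => secWalter_centralizer hG hA hsm ha1)
        (pairData hG hsm h16 (pairsGen hG hA hsm) (h G hG hA hsm S h16)) (typeTransfer hG hA hsm h16)⟩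

/-- Walter's structure theorem from the commutation of the blocks. -/
theorem structureTheorem_of_comm
    (h : ∀ (G : Type u) [Group G] [Finite G] [IsSimpleGroup G], ¬ IsMulCommutative G →
      ∀ (hA : AbSylow G), Smaller G → ∀ S : Sylow 2 G, 16 ≤ Nat.card (omegaS S (hA S)) →
        PairsComm S (hA S)) :
    StructureTheorem.{u} :=
  structureTheorem_of_steps rankThreeStep (rankFourStep_of_comm h)

end CfsgLib.Walter
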