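import Cfsg.Agent.Lib.Recog.Walter.TypeTransfer
import Cfsg.Agent.Lib.Recog.Walter.Pairs.Frame

/-!
Owner: helper15. Walter, S9: rank at least four from the pairs.

* `Pairs.blk_comp`: a block is seen at the involutions of its second member.
* `PairsGen`, `PairsComm`: the two remaining properties of the blocks.
* `pairData`, `typeTransfer`: `PairData` and `TypeTransfer` of the blocks.
* `rankFourStep_of_slices`: `RankFourStep` from generation, commutation, the split case and rank four.
-/

set_option autoImplicit false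
set_option linter.style.haveILetI false
set_option linter.unusedSectionVars false

namespace CfsgLib.Walter

open Subgroup
open CfsgLib.AbelianSolvCent (AbSylow SolvCent omegaS)
open CfsgLib.InvCent (theta)
open CfsgLib.Walter.Pairs (Blk)

universe u

variable {G : Type u} [Group G] [Finite G] [IsSimpleGroup G]
  {S : Sylow 2 G} {hS : IsMulCommutative ↥(S : Subgroup G)}

/-- A block is seen at the involutions of its second member. -/
theorem Pairs.blk_comp (hG : ¬ IsMulCommutative G) (hsm : Smaller G) (i : Blk S hS) (c : G) (hc : c ∈ i.C)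
    (hc1 : c ≠ 1) :
    ∃ K : Subgroup (SmallU.Quo c), Cfsg.IsComponent K ∧
      (∀ v : ↥(centralizer ({c} : Set G)), (v : G) ∈ i.V → SmallU.proj c v ∈ K) ∧
      ∀ w : ↥(centralizer ({c} : Set G)), (w : G) ∈ i.C → ∀ k ∈ K,
        SmallU.proj c w * k = k * SmallU.proj c w := by
  obtain ⟨K, hK, hV, hC⟩ := Pairs.block_at hG hsm i.2 hc hc1
  refine ⟨K, hK, fun v hv => ?_, fun w hw k hk => ?_⟩
  · change (v : G) ∈ i.1.1 at hv
    rw [hV] at hv
    exact (Seen.mem_vK hv.1 v.2).1 hv
  · change (w : G) ∈ i.1.2 at hw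
    rw [hC] at hw
    exact (SmallU.mem_cK hw.1 w.2).1 hw k hk

variable (S hS) in
/-- Generation of the centralizers by the blocks (slice S4). -/
def PairsGen : Prop :=
  ∀ a ∈ omegaS S hS, a ≠ 1 → centralizer ({a} : Set G) ≤
    theta a ⊔ (centralizer ({a} : Set G) ⊓ normalizer ((S : Subgroup G) : Set G)) ⊔
      ⨆ i : Blk S hS, perfCent (i.C ⊔ zpowers a)

variable (S hS) in
/-- Commutation of the blocks where `θ` is trivial (slice S4). -/
def PairsComm : Prop :=
  ∀ a ∈ omegaS S hS, a ≠ 1 → theta a = ⊥ → ∀ i j : Blk S hS, i ≠ j →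
    ∀ x ∈ perfCent (i.C ⊔ zpowers a), ∀ y ∈ perfCent (j.C ⊔ zpowers a), x * y = y * x

/-- The blocks as pair data. -/
theorem pairData (hG : ¬ IsMulCommutative G) (hsm : Smaller G) (h16 : 16 ≤ Nat.card (omegaS S hS))
    (hgen : PairsGen S hS) (hcomm : PairsComm S hS) :
    PairData S hS (Blk.V (S := S) (hS := hS)) (Blk.C (S := S) (hS := hS)) where
  frame := Pairs.frame hG hsm h16
  cover := fun _ ha ha1 _ hK => Pairs.cover_cK ha ha1 hK
  gen := hgen
  comm := hcomm
  comp := fun i c hc hc1 => Pairs.blk_comp hG hsm i c hc hc1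

/-- The type hypothesis for the blocks. -/
theorem typeTransfer (hG : ¬ IsMulCommutative G) (hA : AbSylow G) (hsm : Smaller G)
    (h16 : 16 ≤ Nat.card (omegaS S hS)) : TypeTransfer S hS (Blk.C (S := S) (hS := hS)) :=
  typeTransfer_of (fun _ _ ha1 => secWalter_centralizer hG hA hsm ha1) (Pairs.frame hG hsm h16)
    (fun _ ha ha1 _ hK => (Pairs.cover ha ha1 hK).imp fun _ h => ⟨h.2, h.1⟩)
    (fun i c hc hc1 => Pairs.blk_comp hG hsm i c hc hc1)

/-- **`RankFourStep` from the remaining slices.** -/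
theorem rankFourStep_of_slices
    (h : ∀ (G : Type u) [Group G] [Finite G] [IsSimpleGroup G], ¬ IsMulCommutative G →
      ∀ (hA : AbSylow G), Smaller G → ∀ S : Sylow 2 G, 16 ≤ Nat.card (omegaS S (hA S)) → ¬ SolvCent G →
        PairsGen S (hA S) ∧ PairsComm S (hA S) ∧
          SplitAt S (hA S) (Blk.V (S := S) (hS := hA S)) (Blk.C (S := S) (hS := hA S)) ∧
          FourAt S (hA S) (Blk.V (S := S) (hS := hA S)) (Blk.C (S := S) (hS := hA S))) :
    RankFourStep.{u} :=
  rankFourStep_of fun G _ _ _ hG hA hsm S h16 hC => by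
    obtain ⟨hgen, hcomm, hsp, h4⟩ := h G hG hA hsm S h16 hC
    exact ⟨_, _, _, pairData hG hsm h16 hgen hcomm, typeTransfer hG hA hsm h16, hsp, h4⟩

end CfsgLib.Walter
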