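import Cfsg.Agent.Lib.Recog.Walter.SmallU2Weights
import Cfsg.Agent.Lib.Transfer.Conj

/-!
Owner: helper23. Walter, slice S7: rank at least five and few balanced blocks.

* `isComponentOf_mono`, `isComponentOf_map`, `componentOf_eq`: components of subgroups.
* `exists_local`: a proper subgroup containing `N(S)` and the centralizers of the points of `U`.
-/

set_option autoImplicit false
set_option linter.style.haveILetI false
set_option linter.unusedSectionVars false

namespace CfsgLib.Walter.SmallU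

open Subgroup
open CfsgLib.AbelianSolvCent (AbSylow)

universe u

variable {G : Type u} [Group G] [Finite G]

theorem isComponentOf_mono {L Y Y' : Subgroup G} (h : Cfsg.IsComponentOf L Y') (hLY : L ≤ Y) (hY : Y ≤ Y') :
    Cfsg.IsComponentOf L Y := by
  refine ⟨hLY, ?_⟩
  have hle : L.subgroupOf Y' ≤ Y.subgroupOf Y' := fun _ hx => hLY hx
  have h1 := CfsgLib.Components.isComponent_map_equiv (subgroupOfEquivOfLe hY)
    (CfsgLib.Components.isComponent_subgroupOf h.2 hle)
  have e : ((L.subgroupOf Y').subgroupOf (Y.subgroupOf Y')).map (subgroupOfEquivOfLe hY).toMonoidHom =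
      L.subgroupOf Y := by
    ext x
    constructor
    · rintro ⟨z, hz, rfl⟩; exact hz
    · intro hx
      exact ⟨⟨⟨x, hY x.2⟩, x.2⟩, hx, rfl⟩
  rwa [e] at h1

theorem isComponentOf_map {L Y : Subgroup G} (h : Cfsg.IsComponentOf L Y) (e : G ≃* G) :
    Cfsg.IsComponentOf (L.map e.toMonoidHom) (Y.map e.toMonoidHom) := by
  refine ⟨map_mono h.1, ?_⟩
  have h1 := CfsgLib.Components.isComponent_map_equiv (e.subgroupMap Y) h.2
  have he : (L.subgroupOf Y).map (e.subgroupMap Y).toMonoidHom =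
      (L.map e.toMonoidHom).subgroupOf (Y.map e.toMonoidHom) := by
    ext x
    constructor
    · rintro ⟨z, hz, rfl⟩; exact ⟨z, hz, rfl⟩
    · rintro ⟨z, hz, hzx⟩
      exact ⟨⟨z, h.1 hz⟩, hz, Subtype.ext hzx⟩
  rwa [he] at h1

/-- Two components sharing an involution coincide. -/
theorem componentOf_eq (hab : AbSylow G) {L K Y : Subgroup G} (hL : Cfsg.IsComponentOf L Y)
    (hK : Cfsg.IsComponentOf K Y) {d : G} (hd : orderOf d = 2) (hdL : d ∈ L) (hdK : d ∈ K) : L = K := by
  haveI : Fact (Nat.Prime 2) := ⟨Nat.prime_two⟩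
  by_contra hne
  have hne' : L.subgroupOf Y ≠ K.subgroupOf Y := fun e => hne (by
    rw [← map_subgroupOf_eq_of_le hL.1, ← map_subgroupOf_eq_of_le hK.1, e])
  have hc := commutator_eq_bot_iff_le_centralizer.1 (CfsgLib.Components.components_commute hL.2 hK.2 hne')
  have hord : orderOf (⟨d, hdL⟩ : ↥L) = 2 := by rw [Subgroup.orderOf_mk]; exact hd
  obtain ⟨P, hP⟩ := (CfsgLib.Signalizer.isPGroup_zpowers_involution hord).exists_le_sylow
  haveI := ((CfsgLib.Components.isQuasisimple_congr (subgroupOfEquivOfLe hL.1)).1 hL.2.2).1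
  refine Three.not_central_of_perfect Group.IsPerfect.commutator_eq_top P
    (CfsgLib.AbelianSolvCent.abSylow_subgroup hab L P) hord (hP (mem_zpowers _))
    (mem_center_iff.2 fun x => Subtype.ext ?_)
  have h1 : (⟨x, hL.1 x.2⟩ : ↥Y) ∈ centralizer (K.subgroupOf Y : Set ↥Y) := hc x.2
  exact (congrArg Subtype.val (mem_centralizer_iff.1 h1 ⟨d, hK.1 hdK⟩ hdK)).symm

/-- An element fixing an involution of a component normalizes it. -/
theorem mem_normalizer_componentOf (hab : AbSylow G) {L Y : Subgroup G} (hL : Cfsg.IsComponentOf L Y)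
    {g : G} (hg : g ∈ Y) {d : G} (hd : orderOf d = 2) (hdL : d ∈ L) (hgd : g * d = d * g) :
    g ∈ normalizer (L : Set G) := by
  refine mem_normalizer_iff_map_conj_eq.2 (componentOf_eq hab ?_ hL hd ?_ hdL)
  · have hY : Y.map (MulAut.conj g).toMonoidHom = Y :=
      mem_normalizer_iff_map_conj_eq.1 (le_normalizer hg)
    have h := isComponentOf_map hL (MulAut.conj g)
    rwa [hY] at h
  · exact ⟨d, hdL, by
      show g * d * g⁻¹ = d
      rw [hgd, mul_inv_cancel_right]⟩

/-- An abelian Sylow 2-subgroup of `Y` normalizes every component of `Y`. -/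
theorem sylow_le_normalizer_componentOf (hab : AbSylow G) (S : Sylow 2 G) {L Y : Subgroup G}
    (hL : Cfsg.IsComponentOf L Y) (hSY : (S : Subgroup G) ≤ Y) :
    (S : Subgroup G) ≤ normalizer (L : Set G) := by
  haveI : Fact (Nat.Prime 2) := ⟨Nat.prime_two⟩
  intro s hs
  set X := ((S.subtype hSY : Subgroup ↥Y) ⊓ L.subgroupOf Y) with hX
  have hne : X ≠ ⊥ := Sections.inf_component_ne_bot (S.subtype hSY) hL.2
  have hp : IsPGroup 2 X := (S.subtype hSY).2.to_le inf_le_left
  haveI : Nontrivial X := (nontrivial_iff_ne_bot X).2 hne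
  obtain ⟨n, hn, hcard⟩ := hp.nontrivial_iff_card.1 inferInstance
  obtain ⟨x, hx⟩ := exists_prime_orderOf_dvd_card' (G := X) 2 (hcard ▸ dvd_pow_self 2 hn.ne')
  rw [← Subgroup.orderOf_coe, ← Subgroup.orderOf_coe] at hx
  refine mem_normalizer_componentOf hab hL (hSY hs) hx x.2.2 ?_
  exact congrArg Subtype.val ((hab S).is_comm.comm ⟨s, hs⟩ ⟨_, x.2.1⟩)

namespace Blocks

variable {ι : Type*} {S : Sylow 2 G} {E : Subgroup G} {Vb Cb : ι → Subgroup G}
variable (h : Blocks S E Vb Cb)
include h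

theorem exists_V_mem (i : ι) : ∃ d ∈ Vb i, d ≠ 1 ∧ orderOf d = 2 := by
  obtain ⟨d, hd, hd1⟩ := (Vb i).bot_or_exists_ne_one.resolve_left fun e => by
    have := h.V_big i
    rw [e, Subgroup.card_bot] at this
    omega
  exact ⟨d, hd, hd1, CfsgLib.Signalizer.orderOf_eq_two_of hd1 (sq_one h.elem (h.V_le i hd))⟩

omit h in
/-- A subgroup of index at most two meets each subgroup of order at least four. -/
theorem exists_mem_inf (hE : Cfsg.IsElementaryAbelian 2 E) {B X : Subgroup G} (hX : X ≤ E)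
    (hX4 : 4 ≤ Nat.card X) (hB : B.relIndex E ≤ 2) : ∃ x ∈ X, x ∈ B ∧ x ≠ 1 := by
  classical
  by_contra hno
  push Not at hno
  have h1 : Nat.card X = B.relIndex X := by
    rw [← inf_relIndex_right, show B ⊓ X = ⊥ from (eq_bot_iff_forall _).2 fun x hx => hno x hx.2 hx.1,
      relIndex_bot_left]
  have h2 : B.relIndex X ≤ B.relIndex E := by
    have hle := Finite.card_le_of_embedding (Subgroup.quotientSubgroupOfEmbeddingOfLE B hX)
    exact hle
  omega

/-- The proper subgroup containing `N(S)` and the centralizers of the points of `U`. -/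
theorem exists_local (J : Set ι) (hJne : J.Nonempty) (U : Subgroup G) (hUE : U ≤ E) (hU : U ≠ ⊥)
    (hperm : ∀ n ∈ normalizer ((S : Subgroup G) : Set G), ∀ i, ∃ j,
      (Vb i).map (MulAut.conj n).toMonoidHom = Vb j ∧ (Cb i).map (MulAut.conj n).toMonoidHom = Cb j)
    (hJ : ∀ n ∈ normalizer ((S : Subgroup G) : Set G), ∀ i ∈ J, ∀ j,
      (Cb i).map (MulAut.conj n).toMonoidHom = Cb j → j ∈ J)
    (hmeet : ∀ i ∈ J, ∀ j, j ≠ i → ∀ v ∈ U, v ≠ 1 → v ∈ Cb i ∨ Cb i ⊓ Cb j ≠ ⊥)
    (hcover : ∀ v ∈ U, v ≠ 1 → ∀ H : Subgroup G, core v ≤ H →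
      normalizer ((S : Subgroup G) : Set G) ⊓ centralizer ({v} : Set G) ≤ H →
      (∀ i, centralizer ({v} : Set G) ⊓ centralizer (Cb i : Set G) ≤ H) → centralizer ({v} : Set G) ≤ H)
    (hgen : (∃ B ≤ E, 8 ≤ Nat.card B ∧ Cfsg.signalizerDelta 2 B ≠ ⊥) →
      ∀ v ∈ U, v ≠ 1 → ∀ H : Subgroup G, core v ≤ H →
      normalizer ((S : Subgroup G) : Set G) ⊓ centralizer ({v} : Set G) ≤ H →
      (∀ D ≤ E, v ∈ D → 16 ≤ Nat.card D → centralizer ({v} : Set G) ⊓ centralizer (D : Set G) ≤ H) →
      centralizer ({v} : Set G) ≤ H) :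
    ∃ M : Subgroup G, M ≠ ⊤ ∧ normalizer ((S : Subgroup G) : Set G) ≤ M ∧ E ≤ M ∧
      ∀ u ∈ U, u ≠ 1 → centralizer ({u} : Set G) ≤ M := by
  classical
  haveI : Fact (Nat.Prime 2) := ⟨Nat.prime_two⟩
  haveI := h.simple
  have hEN : E ≤ normalizer ((S : Subgroup G) : Set G) := h.le_sylow.trans le_normalizer
  by_cases hW : ∀ B ≤ E, 8 ≤ Nat.card B → Cfsg.signalizerDelta 2 B = ⊥
  swap
  · -- the closure of the functor is not trivial
    push Not at hW
    obtain ⟨B, hBE, hB8, hB⟩ := hW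
    set W := qf E ⊥ with hWdef
    have hodd := odd_qf_bot h.elem h.balanced h.big
    have hne : W ≠ ⊥ := fun e => hB (le_bot_iff.1 (e ▸ delta_le_qf hBE bot_le hB8))
    have hNN : normalizer ((S : Subgroup G) : Set G) ≤ normalizer (W : Set G) :=
      h.normalizer_le.trans (normalizer_le_normalizer_qf h.elem)
    refine ⟨normalizer (W : Set G), fun e => ?_, hNN, hEN.trans hNN, fun v hv hv1 => ?_⟩
    · rcases (normalizer_eq_top_iff.1 e).eq_bot_or_eq_top with h0 | h0
      · exact hne h0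
      · obtain ⟨x, hx, hx1⟩ := U.bot_or_exists_ne_one.resolve_left hU
        have h2 : orderOf x = 2 := CfsgLib.Signalizer.orderOf_eq_two_of hx1 (sq_one h.elem (hUE hx))
        exact Nat.not_even_iff_odd.2 hodd (even_iff_two_dvd.2
          (h2 ▸ Subgroup.orderOf_dvd_natCard _ (show x ∈ W from h0 ▸ mem_top x)))
    · refine hgen ⟨B, hBE, hB8, hB⟩ v hv hv1 _ ?_ (inf_le_left.trans hNN)
        (fun D hD _ h16 => inf_le_right.trans (centralizer_le_normalizer_qf h.elem h.balanced h.big hD h16))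
      refine CfsgLib.Signalizer.le_of_hyperplanes_le h.elem (not_dvd_core v)
        (le_normalizer_core h.elem (hUE hv)) fun D hD hDi => ?_
      refine inf_le_right.trans (centralizer_le_normalizer_qf h.elem h.balanced h.big hD ?_)
      have h1 := (D.subgroupOf E).card_mul_index
      rw [Nat.card_congr (subgroupOfEquivOfLe hD).toEquiv] at h1
      have h32 := h.big
      have h3 := Nat.mul_le_mul_left (Nat.card D) (show (D.subgroupOf E).index ≤ 2 from hDi)
      omega
  -- the components lift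
  have hex : ∀ i, ∃ L : Subgroup G, Cfsg.IsComponentOf L (centralizer (Cb i : Set G)) ∧ Vb i ≤ L := by
    intro i
    obtain ⟨c, hc, hc1⟩ := (Cb i).bot_or_exists_ne_one.resolve_left fun e => by
      have := h.C_big i
      rw [e, Subgroup.card_bot] at this
      omega
    obtain ⟨L, hL, hVL, hLC⟩ := h.exists_lift hW i hc hc1
    exact ⟨L, isComponentOf_mono hL hLC (centralizer_le (Set.singleton_subset_iff.2 hc)), hVL⟩
  choose L hL hVL using hex
  have huniq : ∀ i (K : Subgroup G), Cfsg.IsComponentOf K (centralizer (Cb i : Set G)) → Vb i ≤ K → K = L i := by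
    intro i K hK hVK
    obtain ⟨d, hd, -, hd2⟩ := h.exists_V_mem i
    exact componentOf_eq h.ab hK (hL i) hd2 (hVK hd) (hVL i hd)
  have hat : ∀ i, ∀ c ∈ Cb i, c ≠ 1 → Cfsg.IsComponentOf (L i) (centralizer ({c} : Set G)) := by
    intro i c hc hc1
    obtain ⟨K, hK, hVK, hKC⟩ := h.exists_lift hW i hc hc1
    rw [← huniq i K (isComponentOf_mono hK hKC (centralizer_le (Set.singleton_subset_iff.2 hc))) hVK]
    exact hK
  -- `N(S)` permutes them
  have hconj : ∀ n ∈ normalizer ((S : Subgroup G) : Set G), ∀ i j,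
      (Vb i).map (MulAut.conj n).toMonoidHom = Vb j → (Cb i).map (MulAut.conj n).toMonoidHom = Cb j →
      (L i).map (MulAut.conj n).toMonoidHom = L j := by
    intro n _ i j hVij hCij
    refine huniq j _ ?_ (hVij ▸ map_mono (hVL i))
    have hcent : (centralizer (Cb i : Set G)).map (MulAut.conj n).toMonoidHom = centralizer (Cb j : Set G) := by
      rw [← hCij]
      ext x
      constructor
      · rintro ⟨y, hy, rfl⟩
        refine mem_centralizer_iff.2 ?_
        rintro _ ⟨c, hc, rfl⟩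
        exact ((show Commute c y from mem_centralizer_iff.1 hy c hc).map (MulAut.conj n)).eq
      · intro hx
        refine ⟨n⁻¹ * x * n, mem_centralizer_iff.2 fun c hc => ?_, by simp [mul_assoc]⟩
        have := (show Commute (n * c * n⁻¹) x from mem_centralizer_iff.1 hx _ ⟨c, hc, rfl⟩).map (MulAut.conj n⁻¹)
        simpa [mul_assoc] using this.eq
    exact hcent ▸ isComponentOf_map (hL i) (MulAut.conj n)
  -- the centralizer of `Cb i` fixes `L i`
  have hfixC : ∀ i, centralizer (Cb i : Set G) ≤ normalizer (L i : Set G) := by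
    intro i y hy
    set Y := centralizer (Cb i : Set G) with hY
    have hSY : (S : Subgroup G) ≤ Y := fun s hs => mem_centralizer_iff.2 fun c hc =>
      congrArg Subtype.val ((h.ab S).is_comm.comm ⟨c, h.le_sylow (h.C_le i hc)⟩ ⟨s, hs⟩)
    set H := Y ⊓ normalizer (L i : Set G) with hH
    have hSH : (S : Subgroup G) ≤ H := le_inf hSY (sylow_le_normalizer_componentOf h.ab S (hL i) hSY)
    have hXH : (S : Subgroup G).map (MulAut.conj y).toMonoidHom ≤ H := by
      rintro _ ⟨s, hs, rfl⟩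
      refine ⟨Y.mul_mem (Y.mul_mem hy (hSY hs)) (Y.inv_mem hy), ?_⟩
      have hK : Cfsg.IsComponentOf ((L i).map (MulAut.conj y⁻¹).toMonoidHom) Y := by
        have hmap : Y.map (MulAut.conj y⁻¹).toMonoidHom = Y :=
          mem_normalizer_iff_map_conj_eq.1 (le_normalizer (inv_mem hy))
        have h1 := isComponentOf_map (hL i) (MulAut.conj y⁻¹)
        exact hmap ▸ h1
      have h2 := sylow_le_normalizer_componentOf h.ab S hK hSY hs
      refine mem_normalizer_iff.2 fun x => ?_
      have h3 := mem_normalizer_iff.1 h2 (y⁻¹ * x * y)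
      have e1 : ∀ z, z ∈ (L i).map (MulAut.conj y⁻¹).toMonoidHom ↔ y * z * y⁻¹ ∈ L i := fun z => by
        constructor
        · rintro ⟨w, hw, rfl⟩; simpa [mul_assoc] using hw
        · intro hz; exact ⟨_, hz, by simp [mul_assoc]⟩
      rw [e1, e1] at h3
      simp only [MulEquiv.coe_toMonoidHom, MulAut.conj_apply]
      simpa [mul_assoc] using h3
    have hiT : ¬ 2 ∣ (S : Subgroup G).relIndex H := fun hd =>
      S.not_dvd_index (hd.trans (relIndex_dvd_index_of_le hSH))
    obtain ⟨m, hm, hmS⟩ := CfsgLib.Transfer.exists_conj_le S.2 hiT hXH (S.2.map _)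
    set n := m⁻¹ * y with hn
    have hnS : n ∈ normalizer ((S : Subgroup G) : Set G) := by
      refine CfsgLib.Signalizer.Solv.mem_normalizer_of_forall_le fun s hs => ?_
      have := hmS _ ⟨s, hs, rfl⟩
      simpa [hn, mul_assoc] using this
    have hnY : n ∈ Y := mul_mem (inv_mem hm.1) hy
    obtain ⟨j, hVj, hCj⟩ := hperm n hnS i
    have hCi : (Cb i).map (MulAut.conj n).toMonoidHom = Cb i := by
      ext x
      constructor
      · rintro ⟨c, hc, rfl⟩
        show n * c * n⁻¹ ∈ Cb i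
        rwa [← mem_centralizer_iff.1 hnY c hc, mul_inv_cancel_right]
      · intro hx
        exact ⟨x, hx, by
          show n * x * n⁻¹ = x
          rw [← mem_centralizer_iff.1 hnY x hx, mul_inv_cancel_right]⟩
    have hij : i = j := h.eq_of_C_eq (hCi.symm.trans hCj)
    subst hij
    have hnL : n ∈ normalizer (L i : Set G) := mem_normalizer_iff_map_conj_eq.2 (hconj n hnS i i hVj hCj)
    rw [show y = m * n by rw [hn]; group]
    exact mul_mem hm.2 hnL
  set P := ⨆ i : {i // i ∈ J}, L i with hP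
  have hnormP : ∀ g : G, (∀ i ∈ J, ∃ j ∈ J, (L i).map (MulAut.conj g).toMonoidHom = L j) →
      P.map (MulAut.conj g).toMonoidHom ≤ P := by
    intro g hg
    rw [hP, Subgroup.map_iSup]
    refine iSup_le fun i => ?_
    obtain ⟨j, hj, e⟩ := hg i i.2
    rw [e]
    exact le_iSup (fun i : {i // i ∈ J} => L (i : ι)) ⟨j, hj⟩
  have hfix : ∀ g : G, (∀ i ∈ J, g ∈ normalizer (L i : Set G)) → g ∈ normalizer (P : Set G) := fun g hg =>
    CfsgLib.Signalizer.Solv.mem_normalizer_of_forall_le fun x hx =>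
      hnormP g (fun i hi => ⟨i, hi, mem_normalizer_iff_map_conj_eq.1 (hg i hi)⟩) ⟨x, hx, rfl⟩
  have hNP : normalizer ((S : Subgroup G) : Set G) ≤ normalizer (P : Set G) := fun n hn => by
    refine CfsgLib.Signalizer.Solv.mem_normalizer_of_forall_le fun x hx => hnormP n (fun i hi => ?_) ⟨x, hx, rfl⟩
    obtain ⟨j, hVj, hCj⟩ := hperm n hn i
    exact ⟨j, hJ n hn i hi j hCj, hconj n hn i j hVj hCj⟩
  obtain ⟨i₀, hi₀⟩ := hJne
  refine ⟨normalizer (P : Set G), fun e => ?_, hNP, hEN.trans hNP, fun v hv hv1 => ?_⟩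
  · -- `P` would be `G`, and `L i₀` normal
    have hPtop : P = ⊤ := (normalizer_eq_top_iff.1 e).eq_bot_or_eq_top.resolve_left fun h0 => by
      obtain ⟨d, hd, hd1, -⟩ := h.exists_V_mem i₀
      exact hd1 (mem_bot.1 (h0 ▸ le_iSup (fun i : {i // i ∈ J} => L (i : ι)) ⟨i₀, hi₀⟩ (hVL i₀ hd)))
    have hPN : P ≤ normalizer (L i₀ : Set G) := by
      refine iSup_le fun j => ?_
      obtain ⟨j, hjJ⟩ := j
      rcases eq_or_ne j i₀ with rfl | hji
      · exact le_normalizer
      obtain ⟨v, hv, hv1⟩ := U.bot_or_exists_ne_one.resolve_left hU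
      obtain ⟨c, hci, hcj, hc1⟩ : ∃ c, c ∈ Cb i₀ ∧ c ∈ Cb j ∧ c ≠ 1 := by
        rcases hmeet i₀ hi₀ j hji v hv hv1 with h1 | h1
        · rcases hmeet j hjJ i₀ hji.symm v hv hv1 with h2 | h2
          · exact ⟨v, h1, h2, hv1⟩
          · obtain ⟨c, hc, hc1⟩ := (Cb j ⊓ Cb i₀).bot_or_exists_ne_one.resolve_left h2
            exact ⟨c, hc.2, hc.1, hc1⟩
        · obtain ⟨c, hc, hc1⟩ := (Cb i₀ ⊓ Cb j).bot_or_exists_ne_one.resolve_left h1
          exact ⟨c, hc.1, hc.2, hc1⟩
      intro g hg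
      obtain ⟨d, hd, -, hd2⟩ := h.exists_V_mem i₀
      have hY := hat j c hcj hc1
      have hX := hat i₀ c hci hc1
      by_cases heq : L j = L i₀
      · exact le_normalizer (heq ▸ hg)
      refine mem_normalizer_componentOf h.ab hX (hY.1 hg) hd2 (hVL i₀ hd) ?_
      have hne' : (L j).subgroupOf (centralizer ({c} : Set G)) ≠ (L i₀).subgroupOf _ := fun e' => heq (by
        rw [← map_subgroupOf_eq_of_le hY.1, ← map_subgroupOf_eq_of_le hX.1, e'])
      have hc' := commutator_eq_bot_iff_le_centralizer.1 (CfsgLib.Components.components_commute hY.2 hX.2 hne')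
      exact (congrArg Subtype.val (mem_centralizer_iff.1 (hc' (x := ⟨g, hY.1 hg⟩) hg)
        ⟨d, hX.1 (hVL i₀ hd)⟩ (hVL i₀ hd))).symm
    have hnorm : (L i₀).Normal := normalizer_eq_top_iff.1 (top_le_iff.1 (hPtop ▸ hPN))
    have hL0 : L i₀ = ⊤ := hnorm.eq_bot_or_eq_top.resolve_left fun h0 => by
      obtain ⟨d, hd, hd1, -⟩ := h.exists_V_mem i₀
      exact hd1 (mem_bot.1 (h0 ▸ hVL i₀ hd))
    obtain ⟨c, hc, hc1⟩ := (Cb i₀).bot_or_exists_ne_one.resolve_left fun e0 => by
      have := h.C_big i₀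
      rw [e0, Subgroup.card_bot] at this
      omega
    have hcz : c ∈ center G := mem_center_iff.2 fun g =>
      (mem_centralizer_iff.1 ((hL i₀).1 (hL0 ▸ mem_top g)) c hc).symm
    rcases (inferInstance : (center G).Normal).eq_bot_or_eq_top with h0 | h0
    · exact hc1 (mem_bot.1 (h0 ▸ hcz))
    · exact h.nonab ⟨⟨fun a b => (mem_center_iff.1 (h0 ▸ mem_top a : a ∈ center G) b).symm⟩⟩
  · refine hcover v hv hv1 _ ?_ (inf_le_left.trans hNP) fun j g hg => hfix g fun i hi => ?_
    · refine CfsgLib.Signalizer.le_of_hyperplanes_le h.elem (not_dvd_core v)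
        (le_normalizer_core h.elem (hUE hv)) fun D _ hDi g hg => hfix g fun i _ => ?_
      obtain ⟨c, hc, hcD, hc1⟩ := exists_mem_inf h.elem (h.C_le i) (h.C_big i) hDi
      obtain ⟨d, hd, hdD, hd1⟩ := exists_mem_inf h.elem (h.V_le i) (h.V_big i) hDi
      exact mem_normalizer_componentOf h.ab (hat i c hc hc1)
        (mem_centralizer_singleton_iff.2 (mem_centralizer_iff.1 hg.2 c hcD).symm)
        (CfsgLib.Signalizer.orderOf_eq_two_of hd1 (sq_one h.elem (h.V_le i hd))) (hVL i hd)
        (mem_centralizer_iff.1 hg.2 d hdD).symm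
    · rcases eq_or_ne j i with rfl | hji
      · exact hfixC j hg.2
      · obtain ⟨d, hd, -, hd2⟩ := h.exists_V_mem i
        obtain ⟨c, hc, hc1, hgc⟩ : ∃ c ∈ Cb i, c ≠ 1 ∧ g * c = c * g := by
          rcases hmeet i hi j hji v hv hv1 with h1 | h1
          · exact ⟨v, h1, hv1, mem_centralizer_singleton_iff.1 hg.1⟩
          · obtain ⟨c, hc, hc1⟩ := (Cb i ⊓ Cb j).bot_or_exists_ne_one.resolve_left h1
            exact ⟨c, hc.1, hc1, (mem_centralizer_iff.1 hg.2 c hc.2).symm⟩
        exact mem_normalizer_componentOf h.ab (hat i c hc hc1) (mem_centralizer_singleton_iff.2 hgc) hd2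
          (hVL i hd) (mem_centralizer_iff.1 hg.2 d (h.orth j i hji hd)).symm

end Blocks

end CfsgLib.Walter.SmallU
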