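import Cfsg.Agent.Lib.Techniques.KBalanceFunctor
import Cfsg.Agent.S0217
import Cfsg.Agent.S0205

/-!
Owner: helper23. Walter, slice S7: a group that is `3`-balanced with respect to an elementary abelian `E` of
order at least `32`.

* `qf E P`: generated by the `Δ(B)`, `P ≤ B ≤ E`, `|B| ≥ 8`.
* `qf_inf_centralizer_le`: completeness, by the solvable functor theorem applied level by level.
* `odd_qf_bot`: `⟨Δ(B) : |B| ≥ 8⟩` has odd order.
* `le_normalizer_qf_bot`: it is normalised by `C(D)`, `|D| ≥ 16`, and by the normaliser of `E`.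
-/

set_option autoImplicit false
set_option linter.style.haveILetI false
set_option linter.unusedSectionVars false

namespace CfsgLib.Walter.SmallU

open Subgroup
open CfsgLib.Techniques (mem_delta_iff core_le_centralizer)

universe u

variable {G : Type u} [Group G] [Finite G]

/-- `O(C(v))`. -/
abbrev core (v : G) : Subgroup G := Cfsg.centralizerPPrimeCore 2 v

theorem core_le (v : G) : core v ≤ centralizer ({v} : Set G) :=
  haveI : Fact (Nat.Prime 2) := ⟨Nat.prime_two⟩
  core_le_centralizer v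

theorem not_dvd_core (v : G) : ¬ 2 ∣ Nat.card (core v) := by
  haveI : Fact (Nat.Prime 2) := ⟨Nat.prime_two⟩
  have h : (Nat.card (core v)).Coprime 2 := by
    rw [core, Cfsg.centralizerPPrimeCore, card_map_of_injective (subtype_injective _)]
    exact CfsgLib.Core.coprime_card_pPrimeCore 2 _
  exact (Nat.Prime.coprime_iff_not_dvd Nat.prime_two).1 h.symm

theorem odd_core (v : G) : Odd (Nat.card (core v)) :=
  Nat.not_even_iff_odd.1 fun h => not_dvd_core v h.two_dvd

theorem core_conj (g v : G) {x : G} (hx : x ∈ core v) : g * x * g⁻¹ ∈ core (g * v * g⁻¹) := by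
  haveI : Fact (Nat.Prime 2) := ⟨Nat.prime_two⟩
  obtain ⟨y, hy, rfl⟩ := hx
  let f : ↥(centralizer ({v} : Set G)) →* ↥(centralizer ({g * v * g⁻¹} : Set G)) :=
    ((MulAut.conj g).toMonoidHom.comp (centralizer ({v} : Set G)).subtype).codRestrict _ fun z =>
      mem_centralizer_singleton_iff.2
        ((show Commute (z : G) v from mem_centralizer_singleton_iff.1 z.2).map (MulAut.conj g)).eq
  have hf : Function.Surjective f := fun z => by
    refine ⟨⟨g⁻¹ * (z : G) * g, mem_centralizer_singleton_iff.2 ?_⟩, Subtype.ext ?_⟩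
    · have h := (show Commute (z : G) (g * v * g⁻¹) from mem_centralizer_singleton_iff.1 z.2).map
        (MulAut.conj g⁻¹)
      simpa [mul_assoc] using h.eq
    · show g * (g⁻¹ * (z : G) * g) * g⁻¹ = z
      group
  exact ⟨f y, CfsgLib.Core.map_pPrimeCore_le f hf (mem_map_of_mem f hy), rfl⟩

theorem mem_delta {B : Subgroup G} {x : G} :
    x ∈ Cfsg.signalizerDelta 2 B ↔ ∀ b ∈ B, b ≠ 1 → x ∈ core b := mem_delta_iff

theorem delta_mono {B B' : Subgroup G} (h : B ≤ B') :
    Cfsg.signalizerDelta 2 B' ≤ Cfsg.signalizerDelta 2 B :=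
  fun _ hx => mem_delta.2 fun b hb hb1 => mem_delta.1 hx b (h hb) hb1

theorem delta_conj (g : G) {B B' : Subgroup G} (h : ∀ b ∈ B', g⁻¹ * b * g ∈ B) {x : G}
    (hx : x ∈ Cfsg.signalizerDelta 2 B) : g * x * g⁻¹ ∈ Cfsg.signalizerDelta 2 B' := by
  refine mem_delta.2 fun b hb hb1 => ?_
  have h1 := core_conj g (g⁻¹ * b * g) (mem_delta.1 hx _ (h b hb) fun e => hb1 (by
    calc b = g * (g⁻¹ * b * g) * g⁻¹ := by group
      _ = 1 := by rw [e]; group))
  rwa [show g * (g⁻¹ * b * g) * g⁻¹ = b by group] at h1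

theorem mem_delta_commute {B : Subgroup G} {x b : G} (hx : x ∈ Cfsg.signalizerDelta 2 B) (hb : b ∈ B) :
    x * b = b * x := by
  rcases eq_or_ne b 1 with rfl | hb1
  · simp
  · exact mem_centralizer_singleton_iff.1 (core_le b (mem_delta.1 hx b hb hb1))

/-- `⟨Δ(B) : P ≤ B ≤ E, |B| ≥ 8⟩`. -/
def qf (E P : Subgroup G) : Subgroup G :=
  ⨆ B : {B : Subgroup G // B ≤ E ∧ P ≤ B ∧ 8 ≤ Nat.card B}, Cfsg.signalizerDelta 2 (B : Subgroup G)

variable {E : Subgroup G}

theorem delta_le_qf {P B : Subgroup G} (hB : B ≤ E) (hP : P ≤ B) (h8 : 8 ≤ Nat.card B) :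
    Cfsg.signalizerDelta 2 B ≤ qf E P :=
  le_iSup (fun B : {B : Subgroup G // B ≤ E ∧ P ≤ B ∧ 8 ≤ Nat.card B} =>
    Cfsg.signalizerDelta 2 (B : Subgroup G)) ⟨B, hB, hP, h8⟩

theorem qf_le_core {P : Subgroup G} {b : G} (hb : b ∈ P) (hb1 : b ≠ 1) : qf E P ≤ core b :=
  iSup_le fun B _ hx => mem_delta.1 hx b (B.2.2.1 hb) hb1

theorem qf_mono {P P' : Subgroup G} (h : P ≤ P') : qf E P' ≤ qf E P :=
  iSup_le fun B => delta_le_qf B.2.1 (h.trans B.2.2.1) B.2.2.2

theorem qf_commute {P : Subgroup G} {x b : G} (hx : x ∈ qf E P) (hb : b ∈ P) : x * b = b * x := by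
  rcases eq_or_ne b 1 with rfl | hb1
  · simp
  · exact mem_centralizer_singleton_iff.1 (core_le b (qf_le_core hb hb1 hx))

theorem qf_eq_delta {P : Subgroup G} (hP : P ≤ E) (h8 : 8 ≤ Nat.card P) :
    qf E P = Cfsg.signalizerDelta 2 P :=
  le_antisymm (iSup_le fun B => delta_mono B.2.2.1) (delta_le_qf hP le_rfl h8)

variable (hE : Cfsg.IsElementaryAbelian 2 E) (hbal : Cfsg.IsKBalancedWrt 2 3 E)
include hE

theorem sq_one {e : G} (he : e ∈ E) : e * e = 1 := by
  rw [← pow_two]; exact hE.2 e he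

theorem inv_eq {e : G} (he : e ∈ E) : e⁻¹ = e := inv_eq_of_mul_eq_one_right (sq_one hE he)

theorem comm {e f : G} (he : e ∈ E) (hf : f ∈ E) : e * f = f * e :=
  congrArg Subtype.val (hE.1.is_comm.comm ⟨e, he⟩ ⟨f, hf⟩)

theorem qf_inv {P : Subgroup G} {e : G} (he : e ∈ E) {x : G} (hx : x ∈ qf E P) : e * x * e⁻¹ ∈ qf E P := by
  have hle : (qf E P).map (MulAut.conj e).toMonoidHom ≤ qf E P := by
    rw [qf, Subgroup.map_iSup]
    refine iSup_le fun B => le_trans ?_ (delta_le_qf B.2.1 B.2.2.1 B.2.2.2)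
    rintro _ ⟨y, hy, rfl⟩
    refine delta_conj e (fun b hb => ?_) hy
    rwa [mul_assoc, comm hE (B.2.1 hb) he, inv_mul_cancel_left]
  exact hle ⟨x, hx, rfl⟩

omit hE in
/-- `(A₁ ⊔ P) = E`, elementwise. -/
theorem exists_complement (hE : Cfsg.IsElementaryAbelian 2 E) {P : Subgroup G} (hP : P ≤ E) :
    ∃ A : Subgroup G, A ≤ E ∧ (∀ x ∈ A, x ∈ P → x = 1) ∧
      (∀ f ∈ E, ∃ p ∈ P, ∃ a ∈ A, f = p * a) ∧ Nat.card E ≤ Nat.card P * Nat.card A := by
  classical
  obtain ⟨A, hA, hmax⟩ := Set.Finite.exists_maximal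
    (Set.toFinite {A : Subgroup G | A ≤ E ∧ ∀ x ∈ A, x ∈ P → x = 1})
    ⟨⊥, bot_le, fun x hx _ => mem_bot.1 hx⟩
  have hcov : ∀ f ∈ E, ∃ p ∈ P, ∃ a ∈ A, f = p * a := by
    intro f hf
    by_contra hno
    push Not at hno
    let A' : Subgroup G :=
      { carrier := {x | x ∈ A ∨ ∃ a ∈ A, x = f * a}
        one_mem' := Or.inl (one_mem A)
        mul_mem' := by
          rintro x y (hx | ⟨a, ha, rfl⟩) (hy | ⟨b, hb, rfl⟩)
          · exact Or.inl (mul_mem hx hy)
          · exact Or.inr ⟨x * b, mul_mem hx hb, by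
              rw [← mul_assoc, comm hE (hA.1 hx) hf, mul_assoc]⟩
          · exact Or.inr ⟨a * y, mul_mem ha hy, by rw [mul_assoc]⟩
          · exact Or.inl (by
              rw [show f * a * (f * b) = f * (a * f) * b by group, comm hE (hA.1 ha) hf, ← mul_assoc,
                sq_one hE hf, one_mul]
              exact mul_mem ha hb)
        inv_mem' := by
          rintro x (hx | ⟨a, ha, rfl⟩)
          · exact Or.inl (inv_mem hx)
          · exact Or.inr ⟨a, ha, by
              rw [mul_inv_rev, inv_eq hE hf, inv_eq hE (hA.1 ha), comm hE (hA.1 ha) hf]⟩ }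
    have hA'le : A ≤ A' := fun x hx => Or.inl hx
    have hmem : A' ∈ {A : Subgroup G | A ≤ E ∧ ∀ x ∈ A, x ∈ P → x = 1} := by
      refine ⟨?_, ?_⟩
      · rintro x (hx | ⟨a, ha, rfl⟩)
        · exact hA.1 hx
        · exact mul_mem hf (hA.1 ha)
      · rintro x (hx | ⟨a, ha, rfl⟩) hxP
        · exact hA.2 x hx hxP
        · refine absurd ?_ (hno (f * a) hxP a ha)
          rw [mul_assoc, sq_one hE (hA.1 ha), mul_one]
    have hfA : f ∈ A := hmax hmem hA'le (Or.inr ⟨1, one_mem A, (mul_one f).symm⟩)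
    exact hno 1 (one_mem P) f hfA (one_mul f).symm
  refine ⟨A, hA.1, hA.2, hcov, ?_⟩
  choose p hp a ha h using fun f : E => hcov f f.2
  refine le_trans (Nat.card_le_card_of_injective
    (fun f : E => ((⟨p f, hp f⟩ : P), (⟨a f, ha f⟩ : A))) fun x y hxy => ?_) (Nat.card_prod _ _).le
  simp only [Prod.mk.injEq, Subtype.mk.injEq] at hxy
  exact Subtype.ext (by rw [h x, h y, hxy.1, hxy.2])

variable (h32 : 32 ≤ Nat.card E)
include hbal h32

/-- Completeness at every level. -/
theorem qf_inf_centralizer_le (P : Subgroup G) (hP : P ≤ E) :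
    ∀ f ∈ E, f ≠ 1 → qf E P ⊓ centralizer ({f} : Set G) ≤ qf E (P ⊔ zpowers f) := by
  haveI : Fact (Nat.Prime 2) := ⟨Nat.prime_two⟩
  induction hn : Nat.card E - Nat.card P using Nat.strong_induction_on generalizing P with
  | _ n ih =>
    intro f hf hf1
    by_cases hfP : f ∈ P
    · rw [sup_eq_left.2 (zpowers_le.2 hfP)]
      exact inf_le_left
    rcases le_or_gt 8 (Nat.card P) with h8 | h8
    · rintro x ⟨hxP, hxf⟩
      have hle : P ⊔ zpowers f ≤ E := sup_le hP (zpowers_le.2 hf)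
      have h8' : 8 ≤ Nat.card ↥(P ⊔ zpowers f) := h8.trans (card_le_of_le le_sup_left)
      rw [qf_eq_delta hP h8] at hxP
      rw [qf_eq_delta hle h8']
      refine mem_delta.2 fun b hb hb1 => hbal P hP (CfsgLib.Signalizer.elementary_of_le hE hP)
        (by norm_num; exact h8) b (hle hb) hb1 ⟨hxP, mem_centralizer_singleton_iff.2 ?_⟩
      have hsub : P ⊔ zpowers f ≤ centralizer ({x} : Set G) := sup_le
        (fun p hp => mem_centralizer_singleton_iff.2 (mem_delta_commute hxP hp).symm)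
        (zpowers_le.2 (mem_centralizer_singleton_iff.2 (mem_centralizer_singleton_iff.1 hxf).symm))
      exact (mem_centralizer_singleton_iff.1 (hsub hb)).symm
    · obtain ⟨A, hAE, hAP, hcov, hAcard⟩ := exists_complement hE hP
      have hP4 : Nat.card P ≤ 4 := by
        obtain ⟨k, hk⟩ := ((CfsgLib.Signalizer.elementary_isPGroup hE).to_le hP).exists_card_eq
        rw [hk] at h8 ⊢
        have : k < 3 := (Nat.pow_lt_pow_iff_right (by norm_num : 1 < 2)).1 (by norm_num; exact h8)
        exact (Nat.pow_le_pow_right two_pos (Nat.le_of_lt_succ this)).trans (by norm_num)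
      have hA8 : 2 ^ 3 ≤ Nat.card A := by
        have h1 := h32.trans (hAcard.trans (Nat.mul_le_mul_right _ hP4))
        norm_num
        omega
      have hAel := CfsgLib.Signalizer.elementary_of_le hE hAE
      let ψ : G → Subgroup G := fun g => qf E (P ⊔ zpowers g)
      have hlt : ∀ g ∈ A, g ≠ 1 → Nat.card E - Nat.card ↥(P ⊔ zpowers g) < n := by
        intro g hg hg1
        have hlt : Nat.card P < Nat.card ↥(P ⊔ zpowers g) := by
          refine lt_of_le_of_ne (card_le_of_le le_sup_left) fun e => hg1 (hAP g hg ?_)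
          rw [eq_of_le_of_card_ge (le_sup_left : P ≤ P ⊔ zpowers g) e.ge]
          exact mem_sup_right (mem_zpowers g)
        have := card_le_of_le (sup_le hP (zpowers_le.2 (hAE hg)) : P ⊔ zpowers g ≤ E)
        omega
      have hS := Cfsg.Agent.S0217.result A (fun x hx y hy => comm hE (hAE hx) (hAE hy))
        (fun x hx => hAel.2 x hx) hA8 ψ
        (fun g _ hg1 => (qf_le_core (mem_sup_right (mem_zpowers g)) hg1).trans (core_le g))
        (fun g _ hg1 hd => not_dvd_core g (hd.trans (card_dvd_of_le (qf_le_core (mem_sup_right (mem_zpowers g)) hg1))))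
        (fun g _ _ e he x hx => qf_inv hE (hAE he) hx)
        (fun g _ hg1 => Cfsg.Agent.S0205.result ((odd_core g).of_dvd_nat
          (card_dvd_of_le (qf_le_core (mem_sup_right (mem_zpowers g)) hg1))))
        (fun g hg hg1 k hk hk1 => le_trans
          (ih _ (hlt g hg hg1) _ (sup_le hP (zpowers_le.2 (hAE hg))) rfl k (hAE hk) hk1)
          (qf_mono (sup_le (le_sup_left.trans le_sup_left) le_sup_right)))
      obtain ⟨p, hp, a, ha, rfl⟩ := hcov f hf
      have ha1 : a ≠ 1 := fun e => hfP (by rw [e, mul_one]; exact hp)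
      rintro x ⟨hxP, hxf⟩
      have hcl : qf E P ≤ ⨆ g : {g : G // g ∈ A ∧ g ≠ 1}, ψ g := by
        refine iSup_le fun B => ?_
        obtain ⟨b, hb, hbP⟩ : ∃ b ∈ (B : Subgroup G), b ∉ P := SetLike.not_le_iff_exists.1 fun h => by
          have := card_le_of_le h
          have := B.2.2.2
          omega
        obtain ⟨q, hq, c, hc, rfl⟩ := hcov b (B.2.1 hb)
        have hc1 : c ≠ 1 := fun e => hbP (by rw [e, mul_one]; exact hq)
        refine le_iSup_of_le (⟨c, hc, hc1⟩ : {g : G // g ∈ A ∧ g ≠ 1})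
          (delta_le_qf B.2.1 (sup_le B.2.2.1 (zpowers_le.2 ?_)) B.2.2.2)
        have := mul_mem (inv_mem (B.2.2.1 hq)) hb
        rwa [inv_mul_cancel_left] at this
      have hxa : x ∈ centralizer ({a} : Set G) := by
        have h1 : Commute x p := qf_commute hxP hp
        have h2 : Commute x (p * a) := mem_centralizer_singleton_iff.1 hxf
        have h3 := h1.inv_right.mul_right h2
        rw [inv_mul_cancel_left] at h3
        exact mem_centralizer_singleton_iff.2 h3.eq
      have hxψ : x ∈ qf E (P ⊔ zpowers a) := (hS.2 a ha ha1).le ⟨hcl hxP, hxa⟩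
      exact qf_mono (sup_le le_sup_left (zpowers_le.2 (mul_mem (mem_sup_left hp)
        (mem_sup_right (mem_zpowers a))))) hxψ

/-- The join of all `Δ(B)`, `|B| ≥ 8`, has odd order. -/
theorem odd_qf_bot : Odd (Nat.card (qf E ⊥)) := by
  haveI : Fact (Nat.Prime 2) := ⟨Nat.prime_two⟩
  have h8 : 2 ^ 3 ≤ Nat.card E := le_trans (by norm_num) h32
  let ψ : G → Subgroup G := fun g => qf E (zpowers g)
  have hS := Cfsg.Agent.S0217.result E (fun x hx y hy => comm hE hx hy) (fun x hx => hE.2 x hx) h8 ψ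
    (fun g _ hg1 => (qf_le_core (mem_zpowers g) hg1).trans (core_le g))
    (fun g _ hg1 hd => not_dvd_core g (hd.trans (card_dvd_of_le (qf_le_core (mem_zpowers g) hg1))))
    (fun g _ _ e he x hx => qf_inv hE he hx)
    (fun g _ hg1 => Cfsg.Agent.S0205.result ((odd_core g).of_dvd_nat
      (card_dvd_of_le (qf_le_core (mem_zpowers g) hg1))))
    (fun g hg _ k hk hk1 => le_trans
      (qf_inf_centralizer_le hE hbal h32 (zpowers g) (zpowers_le.2 hg) k hk hk1)
      (qf_mono le_sup_right))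
  have hle : qf E ⊥ ≤ ⨆ g : {g : G // g ∈ E ∧ g ≠ 1}, ψ g := by
    refine iSup_le fun B => ?_
    obtain ⟨b, hb, hb1⟩ := (B : Subgroup G).bot_or_exists_ne_one.resolve_left fun h => by
      have := B.2.2.2
      rw [h, Subgroup.card_bot] at this
      omega
    exact le_iSup_of_le (⟨b, B.2.1 hb, hb1⟩ : {g : G // g ∈ E ∧ g ≠ 1})
      (delta_le_qf B.2.1 (zpowers_le.2 hb) B.2.2.2)
  exact Nat.not_even_iff_odd.1 fun h => hS.1 (h.two_dvd.trans (card_dvd_of_le hle))

/-- The centralizers of the subgroups of order at least sixteen normalise `qf E ⊥`. -/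
theorem centralizer_le_normalizer_qf {D : Subgroup G} (hD : D ≤ E) (h16 : 16 ≤ Nat.card D) :
    centralizer (D : Set G) ≤ normalizer (qf E ⊥ : Set G) := by
  haveI : Fact (Nat.Prime 2) := ⟨Nat.prime_two⟩
  have key : ∀ g ∈ centralizer (D : Set G), (qf E ⊥).map (MulAut.conj g).toMonoidHom ≤ qf E ⊥ := by
    intro g hg
    rw [map_le_iff_le_comap]
    refine iSup_le fun B => le_trans (CfsgLib.Techniques.KBalanceFunctor.delta_le (k := 3) (by norm_num)
      hE hbal B.2.1 (by norm_num; exact B.2.2.2) hD (by norm_num; exact h16)) (iSup_le fun B' x hx => ?_)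
    refine delta_le_qf (B'.2.1.trans hD) bot_le (le_trans (by norm_num) B'.2.2.2)
      (delta_conj g (fun b hb => ?_) hx)
    have h := mem_centralizer_iff.1 hg b (B'.2.1 hb)
    rwa [mul_assoc, h, inv_mul_cancel_left]
  intro g hg
  refine mem_normalizer_iff.2 fun x => ⟨fun hx => key g hg ⟨x, hx, rfl⟩, fun hx => ?_⟩
  have := key g⁻¹ (inv_mem hg) ⟨_, hx, rfl⟩
  simpa [mul_assoc] using this

omit hbal h32 in
/-- The normaliser of `E` normalises `qf E ⊥`. -/
theorem normalizer_le_normalizer_qf : normalizer (E : Set G) ≤ normalizer (qf E ⊥ : Set G) := by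
  have key : ∀ g ∈ normalizer (E : Set G), (qf E ⊥).map (MulAut.conj g).toMonoidHom ≤ qf E ⊥ := by
    intro g hg
    rw [map_le_iff_le_comap]
    refine iSup_le fun B x hx => ?_
    refine delta_le_qf (B := (B : Subgroup G).map (MulAut.conj g).toMonoidHom) ?_ bot_le
      (by rw [card_map_of_injective (MulAut.conj g).injective]; exact B.2.2.2) (delta_conj g ?_ hx)
    · rintro _ ⟨b, hb, rfl⟩
      exact (mem_normalizer_iff.1 hg b).1 (B.2.1 hb)
    · rintro _ ⟨b, hb, rfl⟩
      simpa [mul_assoc] using hb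
  intro g hg
  refine mem_normalizer_iff.2 fun x => ⟨fun hx => key g hg ⟨x, hx, rfl⟩, fun hx => ?_⟩
  have := key g⁻¹ (inv_mem hg) ⟨_, hx, rfl⟩
  simpa [mul_assoc] using this

end CfsgLib.Walter.SmallU
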