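import Cfsg.Agent.Lib.Recog.Walter.SmallU2Functor
import Cfsg.Agent.Lib.Recog.Walter.Sections.Shape

/-!
Owner: helper23. Walter, slice S7: weights, `3`-balance, and lifting of the components.

* `Blocks`: `E ≤ S`, the pairs `(Vb i, Cb i)`, the components at the points of `Cb i`, and the one property
  of cores used: an element of `O(C(b)) ∩ C(a)` fixed or inverted by each element of `E` and outside
  `O(C(a))` is centralized by a subgroup `C'` of index at most four containing some `Cb j` and missing every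
  such `b`.
* `balanced`: hence `G` is `3`-balanced with respect to `E`.
* `exists_lift`: if all `Δ(B)`, `|B| ≥ 8`, are trivial, the components at the points of `Cb i` lift.
-/

set_option autoImplicit false
set_option linter.style.haveILetI false
set_option linter.unusedSectionVars false

namespace CfsgLib.Walter.SmallU

open Subgroup
open scoped commutatorElement
open CfsgLib.AbelianSolvCent (AbSylow)

universe u

variable {G : Type u} [Group G] [Finite G]

/-- Fixed or inverted by each element of `E`. -/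
def IsWeight (E : Subgroup G) (x : G) : Prop :=
  ∀ f ∈ E, f * x * f⁻¹ = x ∨ f * x * f⁻¹ = x⁻¹

/-- The block data. -/
structure Blocks {ι : Type*} (S : Sylow 2 G) (E : Subgroup G) (Vb Cb : ι → Subgroup G) : Prop where
  simple : IsSimpleGroup G
  nonab : ¬ IsMulCommutative G
  ab : AbSylow G
  elem : Cfsg.IsElementaryAbelian 2 E
  le_sylow : E ≤ (S : Subgroup G)
  normalizer_le : normalizer ((S : Subgroup G) : Set G) ≤ normalizer (E : Set G)
  big : 32 ≤ Nat.card E
  V_le : ∀ i, Vb i ≤ E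
  C_le : ∀ i, Cb i ≤ E
  V_big : ∀ i, 4 ≤ Nat.card (Vb i)
  C_big : ∀ i, 4 ≤ Nat.card (Cb i)
  disj : ∀ i, Vb i ⊓ Cb i = ⊥
  orth : ∀ i j, i ≠ j → Vb j ≤ Cb i
  weight : ∀ a ∈ E, a ≠ 1 → ∀ x ∈ centralizer ({a} : Set G), IsWeight E x → x ∉ core a →
    ∀ b ∈ E, b ≠ 1 → x ∈ core b →
      ∃ C' : Subgroup G, C' ≤ E ∧ Nat.card E ≤ 4 * Nat.card C' ∧ (∀ f ∈ C', f * x = x * f) ∧
        (∃ j, Cb j ≤ C') ∧ ∀ b' ∈ E, b' ≠ 1 → x ∈ core b' → b' ∉ C'
  comp : ∀ i, ∀ c ∈ Cb i, c ≠ 1 →
    ∃ K : Subgroup (↥(centralizer ({c} : Set G)) ⧸ Cfsg.oddCore ↥(centralizer ({c} : Set G))),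
      Cfsg.IsComponent K ∧
      (∀ v : ↥(centralizer ({c} : Set G)), (v : G) ∈ Vb i →
        QuotientGroup.mk' (Cfsg.oddCore ↥(centralizer ({c} : Set G))) v ∈ K) ∧
      ∀ w : ↥(centralizer ({c} : Set G)), (w : G) ∈ Cb i → ∀ k ∈ K,
        QuotientGroup.mk' (Cfsg.oddCore ↥(centralizer ({c} : Set G))) w * k =
          k * QuotientGroup.mk' (Cfsg.oddCore ↥(centralizer ({c} : Set G))) w

/-- An odd subgroup normalized by `E` is generated by its weights. -/
theorem le_of_weights {E X Y : Subgroup G} (hE : Cfsg.IsElementaryAbelian 2 E) (hodd : Odd (Nat.card X))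
    (hEX : E ≤ normalizer (X : Set G)) (h : ∀ x ∈ X, IsWeight E x → x ∈ Y) : X ≤ Y := by
  haveI : Fact (Nat.Prime 2) := ⟨Nat.prime_two⟩
  refine CfsgLib.Signalizer.le_of_hyperplanes_le hE (fun hd => Nat.not_even_iff_odd.2 hodd (even_iff_two_dvd.2 hd))
    hEX fun B hBE hB y hy => ?_
  have hBy : ∀ f ∈ B, f * y * f⁻¹ = y := fun f hf =>
    mul_inv_eq_iff_eq_mul.2 (mem_centralizer_iff.1 hy.2 f hf)
  by_cases hall : ∀ e ∈ E, e * y * e⁻¹ = y
  · exact h y hy.1 fun f hf => Or.inl (hall f hf)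
  push Not at hall
  obtain ⟨e, he, hey⟩ := hall
  have heB : e ∉ B := fun hb => hey (hBy e hb)
  have hidx : (B.subgroupOf E).index = 2 := by
    change B.relIndex E = 2
    have h0 : B.relIndex E ≠ 0 := Subgroup.index_ne_zero_of_finite
    have h1 : B.relIndex E ≠ 1 := fun e1 => heB (relIndex_eq_one.1 e1 he)
    omega
  have hcase : ∀ f ∈ E, f ∈ B ∨ e * f ∈ B := by
    intro f hf
    by_cases hfB : f ∈ B
    · exact Or.inl hfB
    · have h2 := mul_mem_iff_of_index_two hidx (a := (⟨e, he⟩ : E)) (b := ⟨f, hf⟩)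
      simp only [mem_subgroupOf] at h2
      exact Or.inr (h2.2 (iff_of_false heB hfB))
  have hee : e * e = 1 := sq_one hE he
  set d := y⁻¹ * (e * y * e⁻¹) with hd
  have heiy : e * (e * y * e⁻¹) * e⁻¹ = y := by
    rw [show e * (e * y * e⁻¹) * e⁻¹ = (e * e) * y * (e * e)⁻¹ by group, hee]
    group
  have hdinv : e * d * e⁻¹ = d⁻¹ := by
    rw [hd, show e * (y⁻¹ * (e * y * e⁻¹)) * e⁻¹ = (e * y * e⁻¹)⁻¹ * (e * (e * y * e⁻¹) * e⁻¹) by group,
      heiy]
    group
  have hdX : d ∈ X := mul_mem (inv_mem hy.1) ((mem_normalizer_iff.1 (hEX he) y).1 hy.1)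
  have hdB : ∀ f ∈ B, f * d * f⁻¹ = d := by
    intro f hf
    have h2 : f * e = e * f := comm hE (hBE hf) he
    have h3 : f * (e * y * e⁻¹) * f⁻¹ = e * y * e⁻¹ := by
      calc f * (e * y * e⁻¹) * f⁻¹ = (f * e) * y * (f * e)⁻¹ := by group
        _ = e * (f * y * f⁻¹) * e⁻¹ := by rw [h2]; group
        _ = e * y * e⁻¹ := by rw [hBy f hf]
    calc f * d * f⁻¹ = (f * y * f⁻¹)⁻¹ * (f * (e * y * e⁻¹) * f⁻¹) := by rw [hd]; group
      _ = d := by rw [hBy f hf, h3]
  obtain ⟨k, hk⟩ := hodd.of_dvd_nat (Subgroup.orderOf_dvd_natCard X hdX)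
  set m := d ^ (k + 1) with hm
  have hmm : m * m = d := by
    rw [hm, ← pow_add, show k + 1 + (k + 1) = orderOf d + 1 by omega, pow_succ, pow_orderOf_eq_one, one_mul]
  have hme : e * m * e⁻¹ = m⁻¹ := by
    rw [hm, ← conj_pow, hdinv, inv_pow]
  have hmB : ∀ f ∈ B, f * m * f⁻¹ = m := fun f hf => by rw [hm, ← conj_pow, hdB f hf]
  have hmw : IsWeight E m := by
    intro f hf
    rcases hcase f hf with hfB | hfB
    · exact Or.inl (hmB f hfB)
    · right
      calc f * m * f⁻¹ = e⁻¹ * ((e * f) * m * (e * f)⁻¹) * e := by group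
        _ = e⁻¹ * m * e := by rw [hmB _ hfB]
        _ = m⁻¹ := by
          rw [inv_eq_of_mul_eq_one_right hee]
          conv_rhs => rw [← hme, inv_eq_of_mul_eq_one_right hee]
  have hzw : IsWeight E (y * m) := by
    intro f hf
    left
    have hze : e * (y * m) * e⁻¹ = y * m := by
      calc e * (y * m) * e⁻¹ = (e * y * e⁻¹) * (e * m * e⁻¹) := by group
        _ = y * d * m⁻¹ := by rw [hme, hd]; group
        _ = y * m := by rw [← hmm]; group
    have hzB : ∀ g ∈ B, g * (y * m) * g⁻¹ = y * m := fun g hg => by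
      calc g * (y * m) * g⁻¹ = (g * y * g⁻¹) * (g * m * g⁻¹) := by group
        _ = y * m := by rw [hBy g hg, hmB g hg]
    rcases hcase f hf with hfB | hfB
    · exact hzB f hfB
    · calc f * (y * m) * f⁻¹ = e⁻¹ * ((e * f) * (y * m) * (e * f)⁻¹) * e := by group
        _ = e⁻¹ * (y * m) * e := by rw [hzB _ hfB]
        _ = e⁻¹ * (e * (y * m) * e⁻¹) * e := by rw [hze]
        _ = y * m := by group
  have hmX : m ∈ X := pow_mem hdX _
  have := mul_mem (h _ (mul_mem hy.1 hmX) hzw) (inv_mem (h m hmX hmw))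
  rwa [mul_inv_cancel_right] at this

theorem le_normalizer_core {E : Subgroup G} (hE : Cfsg.IsElementaryAbelian 2 E) {a : G} (ha : a ∈ E) :
    E ≤ normalizer (core a : Set G) := by
  intro e he
  refine CfsgLib.Signalizer.Solv.mem_normalizer_of_forall_le fun x hx => ?_
  have h := core_conj e a hx
  rwa [comm hE he ha, mul_inv_cancel_right] at h

namespace Blocks

variable {ι : Type*} {S : Sylow 2 G} {E : Subgroup G} {Vb Cb : ι → Subgroup G}
variable (h : Blocks S E Vb Cb)
include h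

theorem eq_of_C_eq {i j : ι} (e : Cb i = Cb j) : i = j := by
  by_contra hne
  have h1 : Vb j ≤ Cb j := e ▸ h.orth i j hne
  have h2 := h.V_big j
  rw [← inf_eq_left.2 h1, h.disj j, Subgroup.card_bot] at h2
  omega

/-- `G` is `3`-balanced with respect to `E`. -/
theorem balanced : Cfsg.IsKBalancedWrt 2 3 E := by
  haveI : Fact (Nat.Prime 2) := ⟨Nat.prime_two⟩
  intro B hBE _ hB8 a ha ha1
  have hB8' : 8 ≤ Nat.card B := by norm_num at hB8; exact hB8
  obtain ⟨b, hb, hb1⟩ := B.bot_or_exists_ne_one.resolve_left fun e => by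
    rw [e, Subgroup.card_bot] at hB8'
    omega
  refine le_of_weights h.elem ((odd_core b).of_dvd_nat (card_dvd_of_le
    (inf_le_left.trans fun x hx => mem_delta.1 hx b hb hb1))) ?_ fun x hx hw => ?_
  · intro e he
    refine CfsgLib.Signalizer.Solv.mem_normalizer_of_forall_le fun x hx => ⟨?_, ?_⟩
    · refine delta_conj e (fun c hc => ?_) hx.1
      rwa [mul_assoc, comm h.elem (hBE hc) he, inv_mul_cancel_left]
    · refine mem_centralizer_singleton_iff.2 ?_
      have h1 := (show Commute x a from mem_centralizer_singleton_iff.1 hx.2).map (MulAut.conj e)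
      simp only [MulAut.conj_apply] at h1
      rwa [comm h.elem he ha, mul_inv_cancel_right] at h1
  by_contra hno
  obtain ⟨C', hC'E, hC'card, -, -, hC'b⟩ := h.weight a ha ha1 x hx.2 hw hno b (hBE hb) hb1
    (mem_delta.1 hx.1 b hb hb1)
  have hdis : ∀ c ∈ B, c ∈ C' → c = 1 := fun c hc hc' => by
    by_contra hc1
    exact hC'b c (hBE hc) hc1 (mem_delta.1 hx.1 c hc hc1) hc'
  have hinj : Nat.card (B × C') ≤ Nat.card E := by
    refine Nat.card_le_card_of_injective (fun p => (⟨(p.1 : G) * p.2, mul_mem (hBE p.1.2) (hC'E p.2.2)⟩ : E))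
      fun p q hpq => ?_
    have h0 : (p.1 : G) * p.2 = q.1 * q.2 := congrArg Subtype.val hpq
    have h1 : (q.1 : G)⁻¹ * p.1 = q.2 * (p.2 : G)⁻¹ := by
      calc (q.1 : G)⁻¹ * p.1 = (q.1 : G)⁻¹ * (p.1 * p.2) * (p.2 : G)⁻¹ := by group
        _ = _ := by rw [h0]; group
    have h2 := hdis _ (mul_mem (inv_mem q.1.2) p.1.2) (h1 ▸ mul_mem q.2.2 (inv_mem p.2.2))
    have h3 : (p.1 : G) = q.1 := (inv_mul_eq_one.1 h2).symm
    rw [h3] at h0
    exact Prod.ext (Subtype.ext h3) (Subtype.ext (mul_left_cancel h0))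
  rw [Nat.card_prod] at hinj
  have h4 := (Nat.mul_le_mul_right (Nat.card C') hB8').trans hinj
  have := h.big
  omega

variable (hW : ∀ B ≤ E, 8 ≤ Nat.card B → Cfsg.signalizerDelta 2 B = ⊥)
include hW

/-- `O(C(c))` centralizes `Vb i` for `c` in `Cb i`. -/
theorem core_le_centralizer_V (i : ι) {c : G} (hc : c ∈ Cb i) (hc1 : c ≠ 1) :
    core c ≤ centralizer (Vb i : Set G) := by
  classical
  haveI : Fact (Nat.Prime 2) := ⟨Nat.prime_two⟩
  refine le_of_weights h.elem (odd_core c) (le_normalizer_core h.elem (h.C_le i hc)) fun x hx hw => ?_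
  refine mem_centralizer_iff.2 fun v hv => ?_
  by_contra hvx
  set D := E ⊓ centralizer ({x} : Set G) with hD
  have hmove : ∀ f ∈ E, f ∉ D → f * x * f⁻¹ = x⁻¹ := fun f hf hfD =>
    (hw f hf).resolve_left fun e => hfD ⟨hf, mem_centralizer_singleton_iff.2 (mul_inv_eq_iff_eq_mul.1 e)⟩
  have hvD : v ∉ D := fun hd => hvx (mem_centralizer_singleton_iff.1 hd.2)
  have hcov : ∀ f ∈ E, f ∉ D → v * f ∈ D := by
    intro f hf hfD
    refine ⟨mul_mem (h.V_le i hv) hf, mem_centralizer_singleton_iff.2 (mul_inv_eq_iff_eq_mul.1 ?_)⟩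
    calc v * f * x * (v * f)⁻¹ = v * (f * x * f⁻¹) * v⁻¹ := by group
      _ = (v * x * v⁻¹)⁻¹ := by rw [hmove f hf hfD]; group
      _ = x := by rw [hmove v (h.V_le i hv) hvD, inv_inv]
  have hD8 : 8 ≤ Nat.card D := by
    have hle : Nat.card E ≤ Nat.card (D ⊕ D) := Nat.card_le_card_of_injective
      (fun f : E => if hf : (f : G) ∈ D then Sum.inl ⟨_, hf⟩ else Sum.inr ⟨_, hcov f f.2 hf⟩)
      fun f g hfg => by
        by_cases hf : (f : G) ∈ D <;> by_cases hg : (g : G) ∈ D <;> simp [hf, hg] at hfg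
        · exact hfg
        · exact hfg
    rw [Nat.card_sum] at hle
    have := h.big
    omega
  have hx1 : x ≠ 1 := fun e => hvx (by rw [e, mul_one, one_mul])
  have hΔ : x ∈ Cfsg.signalizerDelta 2 D := by
    refine mem_delta.2 fun d hd hd1 => ?_
    by_contra hno
    obtain ⟨C', hC'E, -, hC'x, ⟨j, hj⟩, hC'b⟩ := h.weight d hd.1 hd1 x
      (mem_centralizer_singleton_iff.2 (mem_centralizer_singleton_iff.1 hd.2).symm) hw hno c (h.C_le i hc) hc1 hx
    rcases eq_or_ne j i with rfl | hji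
    · exact hC'b c (h.C_le j hc) hc1 hx (hj hc)
    · exact hvx (hC'x v (hj (h.orth j i hji hv)))
  rw [hW D inf_le_left hD8, mem_bot] at hΔ
  exact hx1 hΔ

/-- The components at the points of `Cb i` lift. -/
theorem exists_lift (i : ι) {c : G} (hc : c ∈ Cb i) (hc1 : c ≠ 1) :
    ∃ L : Subgroup G, Cfsg.IsComponentOf L (centralizer ({c} : Set G)) ∧ Vb i ≤ L ∧
      L ≤ centralizer (Cb i : Set G) := by
  haveI : Fact (Nat.Prime 2) := ⟨Nat.prime_two⟩
  set C := centralizer ({c} : Set G) with hC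
  set O := Cfsg.oddCore ↥C with hO
  haveI : O.Normal := CfsgLib.Core.normal_pPrimeCore 2 _
  have hQ : Cfsg.oddCore (↥C ⧸ O) = ⊥ := CfsgLib.Core.pPrimeCore_quotient_pPrimeCore 2 _
  have hQA : AbSylow (↥C ⧸ O) := CfsgLib.AbelianSolvCent.abSylow_of_surjective
    (CfsgLib.AbelianSolvCent.abSylow_subgroup h.ab C) (QuotientGroup.mk' O) (QuotientGroup.mk'_surjective _)
  set π := QuotientGroup.mk' O with hπ
  obtain ⟨K, hK, hKV, hKC⟩ : ∃ K : Subgroup (↥C ⧸ O), Cfsg.IsComponent K ∧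
      (∀ v : ↥C, (v : G) ∈ Vb i → π v ∈ K) ∧
      ∀ w : ↥C, (w : G) ∈ Cb i → ∀ k ∈ K, π w * k = k * π w := h.comp i c hc hc1
  haveI := Sections.component_isSimple hQA hQ hK
  have hEC : E ≤ C := fun f hf => mem_centralizer_singleton_iff.2 (comm h.elem hf (h.C_le i hc))
  have hcoreV := h.core_le_centralizer_V hW i hc hc1
  have hOc : ∀ o : ↥C, o ∈ O → (o : G) ∈ core c := fun o ho => ⟨o, ho, rfl⟩
  have hOodd : Odd (Nat.card O) := by
    have := odd_core c
    rwa [core, Cfsg.centralizerPPrimeCore, card_map_of_injective (subtype_injective _)] at this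
  set R := K.comap π ⊓ centralizer (O : Set ↥C) with hR
  have hRsn : R.IsSubnormal := (hK.1.comap π).inf ((inferInstance : (centralizer (O : Set ↥C)).Normal).isSubnormal)
  have hVR : ∀ v : ↥C, (v : G) ∈ Vb i → v ∈ R := fun v hv => ⟨hKV v hv, mem_centralizer_iff.2 fun o ho =>
    Subtype.ext (mem_centralizer_iff.1 (hcoreV (hOc o ho)) v hv).symm⟩
  -- `π R = K`
  have hRK : R.map π = K := by
    have hle : R.map π ≤ K := map_le_iff_le_comap.2 inf_le_left
    have hn : ((R.map π).subgroupOf K).Normal := ⟨fun x hx g => by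
      obtain ⟨r, hr, hrx⟩ := hx
      obtain ⟨k, hk⟩ := QuotientGroup.mk'_surjective O (g : ↥C ⧸ O)
      have hk' : k ∈ K.comap π := by show π k ∈ K; rw [hπ, hk]; exact g.2
      refine ⟨k * r * k⁻¹, ⟨(K.comap π).mul_mem ((K.comap π).mul_mem hk' hr.1) ((K.comap π).inv_mem hk'),
        (inferInstance : (centralizer (O : Set ↥C)).Normal).conj_mem r hr.2 k⟩, ?_⟩
      rw [map_mul, map_mul, map_inv]
      show π k * π r * (π k)⁻¹ = (g : ↥C ⧸ O) * (x : ↥C ⧸ O) * (g : ↥C ⧸ O)⁻¹
      rw [hrx, hπ, hk]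
      rfl⟩
    rcases hn.eq_bot_or_eq_top with hbot | htop
    · exfalso
      obtain ⟨v, hv, hv1⟩ := (Vb i).bot_or_exists_ne_one.resolve_left fun e => by
        have := h.V_big i
        rw [e, Subgroup.card_bot] at this
        omega
      have hm : π ⟨v, hEC (h.V_le i hv)⟩ = 1 := by
        have : (⟨π ⟨v, hEC (h.V_le i hv)⟩, hKV _ hv⟩ : ↥K) ∈ (R.map π).subgroupOf K :=
          mem_map_of_mem π (hVR _ hv)
        rw [hbot, mem_bot] at this
        exact congrArg Subtype.val this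
      have hmO : (⟨v, hEC (h.V_le i hv)⟩ : ↥C) ∈ O := (QuotientGroup.eq_one_iff _).1 hm
      have h2 : orderOf v = 2 := CfsgLib.Signalizer.orderOf_eq_two_of hv1 (sq_one h.elem (h.V_le i hv))
      exact not_dvd_core c (h2 ▸ Subgroup.orderOf_dvd_natCard _ (hOc _ hmO))
    · exact le_antisymm hle (subgroupOf_eq_top.1 htop)
  set L := ⁅R, R⁆ with hL
  have hLR : L ≤ R := commutator_le_self R
  have hKperf : ⁅K, K⁆ = K := CfsgLib.Components.IsComponent.commutator_eq_self hK
  have hLK : L.map π = K := by rw [hL, map_commutator, hRK, hKperf]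
  have hsplit : ∀ r ∈ R, ∃ l ∈ L, ∃ z ∈ O, z ∈ R ∧ r = l * z := fun r hr => by
    obtain ⟨l, hl, hle⟩ : π r ∈ L.map π := hLK.symm ▸ hRK ▸ mem_map_of_mem π hr
    refine ⟨l, hl, l⁻¹ * r, (QuotientGroup.eq_one_iff _).1 ?_, mul_mem (inv_mem (hLR hl)) hr, by group⟩
    show π (l⁻¹ * r) = 1
    rw [map_mul, map_inv, hle, inv_mul_cancel]
  have hOR : ∀ z ∈ O, ∀ r ∈ R, Commute r z := fun z hz r hr => (mem_centralizer_iff.1 hr.2 z hz).symm
  have hLperf : ⁅L, L⁆ = L := by
    refine le_antisymm (commutator_le_self L) ?_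
    rw [hL, commutator_le]
    intro r hr s hs
    obtain ⟨l, hl, z, hzO, hzR, rfl⟩ := hsplit r hr
    obtain ⟨m, hm, w, hwO, hwR, rfl⟩ := hsplit s hs
    have : ⁅l * z, m * w⁆ = ⁅l, m⁆ := by
      have h1 : ⁅z, m * w⁆ = 1 := commutatorElement_eq_one_iff_mul_comm.2 ((hOR z hzO _ hs).symm).eq
      have h2 : ⁅l, w⁆ = 1 := commutatorElement_eq_one_iff_mul_comm.2 (hOR w hwO l (hLR hl)).eq
      rw [commutatorElement_mul_left_eq_conj_mul, h1, commutatorElement_mul_right_eq_mul_conj l m w, h2]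
      group
    rw [this]
    exact commutator_mem_commutator hl hm
  have hqs : Cfsg.IsQuasisimple ↥L := by
    haveI : Group.IsPerfect ↥L := isPerfect_iff.2 hLperf
    haveI : Nontrivial ↥L := (nontrivial_iff_ne_bot L).2 fun e =>
      CfsgLib.Components.IsComponent.ne_bot hK (by rw [← hLK, e, Subgroup.map_bot])
    refine CfsgLib.Components.isQuasisimple_of_normal_le_center fun N hN hNne => ?_
    set g := π.subgroupMap L with hg
    haveI hsimp : IsSimpleGroup ↥(L.map π) := hLK.symm ▸ (inferInstance : IsSimpleGroup ↥K)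
    rcases (hN.map g (π.subgroupMap_surjective L)).eq_bot_or_eq_top with hb | ht
    · intro x hx
      have : g x = 1 := by
        have := mem_map_of_mem g hx
        rwa [hb, mem_bot] at this
      have hxO : (x : ↥C) ∈ O := (QuotientGroup.eq_one_iff _).1 (congrArg Subtype.val this)
      exact mem_center_iff.2 fun y => Subtype.ext (hOR _ hxO _ (hLR y.2)).eq
    · refine absurd (top_le_iff.1 ?_) hNne
      rw [← Group.IsPerfect.commutator_eq_top (G := ↥L), _root_.commutator_def, commutator_le]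
      intro x _ y _
      have hdec : ∀ x : ↥L, ∃ n ∈ N, ∀ y : ↥L, Commute y (n⁻¹ * x) := fun x => by
        obtain ⟨n, hn, hne⟩ : g x ∈ N.map g := ht ▸ mem_top _
        refine ⟨n, hn, fun y => Subtype.ext (hOR _ ((QuotientGroup.eq_one_iff _).1 ?_) _ (hLR y.2)).eq⟩
        have : (g (n⁻¹ * x) : ↥C ⧸ O) = 1 := by rw [map_mul, map_inv, hne, inv_mul_cancel]; rfl
        exact this
      obtain ⟨n, hn, hnz⟩ := hdec x
      obtain ⟨m, hm, hmz⟩ := hdec y
      have e : ⁅x, y⁆ = ⁅n, m⁆ := by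
        have ex : x = n * (n⁻¹ * x) := by group
        have ey : y = m * (m⁻¹ * y) := by group
        have h1 : ⁅n⁻¹ * x, y⁆ = 1 := commutatorElement_eq_one_iff_mul_comm.2 (hnz y).symm.eq
        have h2 : ⁅n, m⁻¹ * y⁆ = 1 := commutatorElement_eq_one_iff_mul_comm.2 (hmz n).eq
        rw [ex, commutatorElement_mul_left_eq_conj_mul, h1, ey,
          commutatorElement_mul_right_eq_mul_conj n m _, h2]
        group
      rw [e]
      exact Subgroup.commutator_le_self N (commutator_mem_commutator hn hm)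
  have hLsn : L.IsSubnormal :=
    IsSubnormal.step L R hLR hRsn ((normal_subgroupOf_iff_le_normalizer hLR).2 (by
      intro x hx
      refine CfsgLib.Signalizer.Solv.mem_normalizer_of_forall_le fun y hy => ?_
      have hle : L.map (MulAut.conj x).toMonoidHom ≤ L := by
        rw [hL, map_commutator]
        exact commutator_mono (by rintro _ ⟨z, hz, rfl⟩; exact mul_mem (mul_mem hx hz) (inv_mem hx))
          (by rintro _ ⟨z, hz, rfl⟩; exact mul_mem (mul_mem hx hz) (inv_mem hx))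
      exact hle ⟨y, hy, rfl⟩))
  refine ⟨L.map C.subtype, ⟨map_subtype_le _, ?_⟩, ?_, ?_⟩
  · rw [show (L.map C.subtype).subgroupOf C = L from comap_map_eq_self_of_injective C.subtype_injective L]
    exact ⟨hLsn, hqs⟩
  · intro v hv
    obtain ⟨l, hl, z, hzO, hzR, hlz⟩ := hsplit _ (hVR ⟨v, hEC (h.V_le i hv)⟩ hv)
    refine ⟨⟨v, hEC (h.V_le i hv)⟩, ?_, rfl⟩
    have hz2 : z * z ∈ L := by
      have h1 : (⟨v, hEC (h.V_le i hv)⟩ : ↥C) * ⟨v, hEC (h.V_le i hv)⟩ = 1 :=
        Subtype.ext (sq_one h.elem (h.V_le i hv))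
      rw [hlz, (hOR z hzO l (hLR hl)).symm.mul_mul_mul_comm] at h1
      rw [eq_inv_of_mul_eq_one_right h1]
      exact inv_mem (mul_mem hl hl)
    obtain ⟨k, hk⟩ := hOodd.of_dvd_nat (Subgroup.orderOf_dvd_natCard O hzO)
    have hzL : z ∈ L := by
      have : z = (z * z) ^ (k + 1) := by
        rw [← pow_two, ← pow_mul, show 2 * (k + 1) = orderOf z + 1 by omega, pow_succ, pow_orderOf_eq_one,
          one_mul]
      rw [this]
      exact pow_mem hz2 _
    rw [hlz]
    exact mul_mem hl hzL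
  · rintro _ ⟨l, hl, rfl⟩
    refine mem_centralizer_iff.2 fun w hw => ?_
    set w' : ↥C := ⟨w, hEC (h.C_le i hw)⟩ with hw'
    have hsame : ∀ a ∈ L, ∀ b ∈ L, w' * ⁅a, b⁆ * w'⁻¹ = ⁅a, b⁆ := by
      intro a ha b hb
      have hmv : ∀ a ∈ L, ∃ o ∈ O, o ∈ R ∧ w' * a * w'⁻¹ = a * o := fun a ha => by
        have haK : π a ∈ K := by rw [← hLK]; exact mem_map_of_mem π ha
        have he : π (w' * a * w'⁻¹) = π a := by
          rw [map_mul, map_mul, map_inv, hKC w' hw (π a) haK, mul_inv_cancel_right]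
        refine ⟨a⁻¹ * (w' * a * w'⁻¹), (QuotientGroup.eq_one_iff _).1 ?_,
          R.mul_mem (R.inv_mem (hLR ha)) ⟨?_, ?_⟩, by group⟩
        · show π (a⁻¹ * (w' * a * w'⁻¹)) = 1
          rw [map_mul, map_inv, he, inv_mul_cancel]
        · show π (w' * a * w'⁻¹) ∈ K
          rw [he]; exact haK
        · exact (inferInstance : (centralizer (O : Set ↥C)).Normal).conj_mem a (hLR ha).2 w'
      obtain ⟨o, ho, hoR, hoe⟩ := hmv a ha
      obtain ⟨q, hq, -, hqe⟩ := hmv b hb
      rw [show w' * ⁅a, b⁆ * w'⁻¹ = ⁅w' * a * w'⁻¹, w' * b * w'⁻¹⁆ by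
        simp [commutatorElement_def, mul_assoc], hoe, hqe]
      have hbq : Commute (b * q) o := by
        have h1 : Commute b o := hOR o ho b (hLR hb)
        refine h1.mul_left ?_
        exact (hOR q hq o hoR).symm
      have h1 : ⁅o, b * q⁆ = 1 := commutatorElement_eq_one_iff_mul_comm.2 hbq.symm.eq
      have h2 : ⁅a, q⁆ = 1 := commutatorElement_eq_one_iff_mul_comm.2 (hOR q hq a (hLR ha)).eq
      rw [commutatorElement_mul_left_eq_conj_mul, h1, commutatorElement_mul_right_eq_mul_conj a b q, h2]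
      group
    have hle : L ≤ centralizer ({w'} : Set ↥C) := by
      rw [← hLperf, commutator_le]
      exact fun a ha b hb => mem_centralizer_singleton_iff.2
        (mul_inv_eq_iff_eq_mul.1 (hsame a ha b hb)).symm
    exact (congrArg Subtype.val (mem_centralizer_singleton_iff.1 (hle hl))).symm

end Blocks

end CfsgLib.Walter.SmallU
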