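import Cfsg.Agent.Lib.Recog.Walter.RankFourAssembly
import Cfsg.Agent.Lib.Recog.Walter.PairsComm

/-!
Owner: helper15. Walter's structure theorem, unconditional.

* `rankFourStep`, `structureTheorem`, `walterShape`.
-/

set_option autoImplicit false

namespace CfsgLib.Walter

universe u

/-- **Rank at least four.** -/
theorem rankFourStep : RankFourStep.{u} :=
  rankFourStep_of_comm fun _ _ _ _ hG hA hsm _ h16 => pairsComm hG hA hsm h16

/-- **Walter's structure theorem.** -/
theorem structureTheorem : StructureTheorem.{u} :=
  structureTheorem_of_steps rankThreeStep rankFourStep

/-- Its centralizer form. -/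
theorem walterShape : CentralizerShape.{u} := centralizerShape structureTheorem

end CfsgLib.Walter
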