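import Cfsg.Agent.Lib.Recog.Walter.SmallU2Local
import Cfsg.Agent.Lib.Recog.Walter.LocBal

/-!
Owner: helper15. Walter, S9: conjugation acts on the components of the `C(a)/O(C(a))` (`exists_conj`).
-/

set_option autoImplicit false
set_option linter.style.haveILetI false
set_option linter.unusedSectionVars false

namespace CfsgLib.Walter

open Subgroup
open CfsgLib.Walter.SmallU (Quo proj cK mem_cK)

universe u

/-- `LocBal` is invariant under isomorphisms. -/
theorem LocBal.of_equiv {K L : Type u} [Group K] [Group L] [Finite K] [Finite L] (e : K ≃* L) (h : LocBal K) :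
    LocBal L := by
  refine ⟨fun v hv => ?_, fun v hv α hα hfix => ?_⟩
  · have hv' : orderOf (e.symm v) = 2 := (MulEquiv.orderOf_eq e.symm v).trans hv
    set C := centralizer ({e.symm v} : Set K) with hC
    set D := centralizer ({v} : Set L) with hD
    let f : C →* D := (e.toMonoidHom.comp C.subtype).codRestrict D fun z => mem_centralizer_singleton_iff.2 (by
      have h1 := congrArg e (mem_centralizer_singleton_iff.1 z.2)
      rw [map_mul, map_mul, e.apply_symm_apply] at h1
      exact h1)
    have hf : Function.Surjective f := fun z => ⟨⟨e.symm z, mem_centralizer_singleton_iff.2 (by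
      rw [← map_mul, ← map_mul, mem_centralizer_singleton_iff.1 z.2])⟩, Subtype.ext (e.apply_symm_apply _)⟩
    have hinj : Function.Injective f := fun a b hab => Subtype.ext (e.injective (congrArg Subtype.val hab))
    have hle := CfsgLib.Core.map_pPrimeCore_le (p := 2) (MulEquiv.ofBijective f ⟨hinj, hf⟩).symm.toMonoidHom
      (MulEquiv.surjective _)
    refine le_bot_iff.1 fun x hx => ?_
    have h1 : (MulEquiv.ofBijective f ⟨hinj, hf⟩).symm x ∈ Cfsg.oddCore C := hle (mem_map_of_mem _ hx)
    rw [h.core _ hv', mem_bot, MulEquiv.map_eq_one_iff] at h1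
    exact mem_bot.2 h1
  · have hv' : orderOf (e.symm v) = 2 := (MulEquiv.orderOf_eq e.symm v).trans hv
    set β : MulAut K := MulAut.congr e.symm α with hβ
    have hβv : ∀ k, β k = e.symm (α (e k)) := fun k => rfl
    have h1 := h.fix _ hv' β (by rw [hβ, MulEquiv.orderOf_eq]; exact hα) fun c hc => by
      rw [hβv, hfix (e c) (mem_centralizer_singleton_iff.2 ?_), e.symm_apply_apply]
      have h2 := congrArg e (mem_centralizer_singleton_iff.1 hc)
      rwa [map_mul, map_mul, e.apply_symm_apply] at h2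
    exact (MulAut.congr e.symm).injective (h1.trans (map_one _).symm)

variable {G : Type u} [Group G] [Finite G]

/-- Conjugation by `n` sends a component of `C(a)/O` to an isomorphic one of `C(n a n⁻¹)/O` and maps the
centralized part of `E` along. -/
theorem exists_conj {E : Subgroup G} {n : G} (hn : ∀ f ∈ E, n * f * n⁻¹ ∈ E) {a : G}
    (hE : E ≤ centralizer ({a} : Set G)) {K : Subgroup (Quo a)} (hK : Cfsg.IsComponent K) :
    ∃ K' : Subgroup (Quo (n * a * n⁻¹)), Cfsg.IsComponent K' ∧ Nonempty (↥K ≃* ↥K') ∧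
      ∀ f ∈ cK E a K, n * f * n⁻¹ ∈ cK E (n * a * n⁻¹) K' := by
  haveI : Fact (Nat.Prime 2) := ⟨Nat.prime_two⟩
  set C := centralizer ({a} : Set G) with hC
  set D := centralizer ({n * a * n⁻¹} : Set G) with hD
  have hmem : ∀ z : C, n * (z : G) * n⁻¹ ∈ D := fun z => mem_centralizer_singleton_iff.2 (by
    have hz := mem_centralizer_singleton_iff.1 z.2
    calc n * (z : G) * n⁻¹ * (n * a * n⁻¹) = n * ((z : G) * a) * n⁻¹ := by group
      _ = n * (a * (z : G)) * n⁻¹ := by rw [hz]
      _ = _ := by group)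
  let f : C →* D := ((MulAut.conj n).toMonoidHom.comp C.subtype).codRestrict D hmem
  have hf : Function.Surjective f := fun z => ⟨⟨n⁻¹ * (z : G) * n, mem_centralizer_singleton_iff.2 (by
    have hz := mem_centralizer_singleton_iff.1 z.2
    calc n⁻¹ * (z : G) * n * a = n⁻¹ * ((z : G) * (n * a * n⁻¹)) * n := by group
      _ = n⁻¹ * (n * a * n⁻¹ * (z : G)) * n := by rw [hz]
      _ = _ := by group)⟩, Subtype.ext (show n * (n⁻¹ * (z : G) * n) * n⁻¹ = z by group)⟩
  have hinj : Function.Injective f := fun x y hxy => Subtype.ext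
    (mul_left_cancel (mul_right_cancel (congrArg Subtype.val hxy : n * (x : G) * n⁻¹ = n * (y : G) * n⁻¹)))
  set e : C ≃* D := MulEquiv.ofBijective f ⟨hinj, hf⟩
  have hcore : (Cfsg.oddCore C).map e.toMonoidHom = Cfsg.oddCore D := le_antisymm
    (CfsgLib.Core.map_pPrimeCore_le e.toMonoidHom e.surjective) fun x hx =>
      ⟨e.symm x, CfsgLib.Core.map_pPrimeCore_le e.symm.toMonoidHom e.symm.surjective (mem_map_of_mem _ hx),
        e.apply_symm_apply x⟩
  let q : Quo a ≃* Quo (n * a * n⁻¹) := QuotientGroup.congr (Cfsg.oddCore C) (Cfsg.oddCore D) e hcore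
  refine ⟨K.map q.toMonoidHom, CfsgLib.Components.isComponent_map_equiv q hK,
    ⟨K.equivMapOfInjective q.toMonoidHom q.injective⟩, fun x hx => ?_⟩
  have hxE := hx.1
  have hxC := hE hxE
  have hxD : n * x * n⁻¹ ∈ D := hmem ⟨x, hxC⟩
  refine (mem_cK (hn x hxE) hxD).2 ?_
  rintro _ ⟨k, hk, rfl⟩
  have h := congrArg q ((mem_cK hxE hxC).1 hx k hk)
  rw [map_mul, map_mul] at h
  exact h

end CfsgLib.Walter
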