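import Cfsg.Agent.Lib.Recog.Walter.RankFourCases
import Cfsg.Agent.Lib.Recog.Walter.PairsType

/-!
Owner: helper15. Walter, S9: `TypeTransfer` from a covering in both members.

* `vK_le_of_cK`: a component whose centralized part contains `C i` has its first member in `V i`.
* `typeTransfer_of`: the type hypothesis of the case distinction.
-/

set_option autoImplicit false
set_option linter.style.haveILetI false
set_option linter.unusedSectionVars false

namespace CfsgLib.Walter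

open Subgroup
open CfsgLib.AbelianSolvCent (omegaS)
open CfsgLib.Walter.SmallU (Quo proj cK)
open CfsgLib.Walter.Seen (vK mem_vK)

universe u

variable {G : Type u} [Group G] [Finite G] {S : Sylow 2 G} {hS : IsMulCommutative ↥(S : Subgroup G)}
  {ι : Type u} {V C : ι → Subgroup G}

/-- A component whose centralized part contains `C i` has its first member in `V i`. -/
theorem vK_le_of_cK (hsec : ∀ a ∈ omegaS S hS, a ≠ 1 → Sections.SecWalter ↥(centralizer ({a} : Set G)))
    (hF : Frame S hS V C)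
    (hcov : ∀ a ∈ omegaS S hS, a ≠ 1 → ∀ K : Subgroup (Quo a), Cfsg.IsComponent K →
      ∃ j, C j ≤ cK (omegaS S hS) a K ∧ vK (omegaS S hS) a K ≤ V j)
    {a : G} (ha : a ∈ omegaS S hS) (ha1 : a ≠ 1) {K : Subgroup (Quo a)} (hK : Cfsg.IsComponent K) {i : ι}
    (hi : C i ≤ cK (omegaS S hS) a K) : vK (omegaS S hS) a K ≤ V i := by
  obtain ⟨j, -, hVj⟩ := hcov a ha ha1 K hK
  rcases eq_or_ne j i with rfl | hji
  · exact hVj
  exfalso
  have hloc := SmallU.local_of hS hsec
  obtain ⟨f, hf, hf1⟩ := Seen.exists_mem_vK hloc ha hK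
  have hfc : f ∈ cK (omegaS S hS) a K := hi (hF.orth j i hji (hVj hf))
  have hfC := hloc.le_cent ha hf.1
  have hmem : proj a ⟨f, hfC⟩ ∈ K := (mem_vK hf.1 hfC).1 hf
  have hcen : (⟨proj a ⟨f, hfC⟩, hmem⟩ : K) ∈ center ↥K :=
    mem_center_iff.2 fun k => Subtype.ext ((SmallU.mem_cK hf.1 hfC).1 hfc k k.2).symm
  rw [Sections.center_component_eq_bot (hloc.quo_ab ha) (SmallU.Local.quo_core a) hK, mem_bot] at hcen
  exact hf1 (hloc.proj_eq_one ha hf.1.1 (congrArg Subtype.val hcen))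

/-- **The type hypothesis.** -/
theorem typeTransfer_of (hsec : ∀ a ∈ omegaS S hS, a ≠ 1 → Sections.SecWalter ↥(centralizer ({a} : Set G)))
    (hF : Frame S hS V C)
    (hcov : ∀ a ∈ omegaS S hS, a ≠ 1 → ∀ K : Subgroup (Quo a), Cfsg.IsComponent K →
      ∃ j, C j ≤ cK (omegaS S hS) a K ∧ vK (omegaS S hS) a K ≤ V j)
    (hcomp : ∀ i, ∀ c ∈ C i, c ≠ 1 →
      ∃ K : Subgroup (Quo c), Cfsg.IsComponent K ∧
        (∀ v : ↥(centralizer ({c} : Set G)), (v : G) ∈ V i → proj c v ∈ K) ∧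
        ∀ w : ↥(centralizer ({c} : Set G)), (w : G) ∈ C i → ∀ k ∈ K, proj c w * k = k * proj c w) :
    TypeTransfer S hS C := by
  intro a ha ha1 K hK hnb i hi v hv hv1 L hL hiL
  obtain ⟨u, hu, hu1⟩ := (C i).bot_or_exists_ne_one.resolve_left (hF.C_ne_bot i)
  obtain ⟨M, hM, hVM, -⟩ := hcomp i u hu hu1
  have hloc := SmallU.local_of hS hsec
  have huE := hF.C_le i hu
  have hle : V i ≤ vK (omegaS S hS) u M := fun x hx =>
    (mem_vK (hF.V_le i hx) (hloc.le_cent huE (hF.V_le i hx))).2 (hVM ⟨x, hloc.le_cent huE (hF.V_le i hx)⟩ hx)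
  exact (Seen.isBig_of_above hloc hv hL ha ha1 hv1 hK hnb (hiL hu) (hi hu) hu1 hM
    ((vK_le_of_cK hsec hF hcov hv hv1 hL hiL).trans hle) ((vK_le_of_cK hsec hF hcov ha ha1 hK hi).trans hle)).1

end CfsgLib.Walter
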